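import Groth.Agent.Lib.AlgSpDescent.LocalBase
import Mathlib.AlgebraicGeometry.Morphisms.LocalFlatDescent
import Mathlib.RingTheory.Finiteness.Descent
import Mathlib.RingTheory.Unramified.Finite

/-!
# Descent along flat surjective quasi-compact maps of further properties; etale morphisms of spaces
-/

universe u

set_option backward.isDefEq.respectTransparency.types false

open CategoryTheory CategoryTheory.Limits AlgebraicGeometry Opposite MorphismProperty TensorProduct

namespace Groth.Agent.AlgSpDescent

theorem flat_codescendsAlong_faithfullyFlat :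
    RingHom.CodescendsAlong RingHom.Flat RingHom.FaithfullyFlat := by
  refine .mk _ RingHom.Flat.respectsIso fun R S T _ _ _ _ _ h h' => ?_
  rw [RingHom.flat_algebraMap_iff] at h' ⊢
  rw [RingHom.faithfullyFlat_algebraMap_iff] at h
  exact Module.Flat.of_flat_tensorProduct R T S

theorem quasiFinite_of_tensorProduct (R S T : Type u) [CommRing R] [CommRing S] [CommRing T]
    [Algebra R S] [Algebra R T] [Module.FaithfullyFlat R S]
    [Algebra.QuasiFinite S (S ⊗[R] T)] : Algebra.QuasiFinite R T := by
  refine ⟨fun p _ => ?_⟩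
  obtain ⟨q, hq⟩ := PrimeSpectrum.comap_surjective_of_faithfullyFlat (A := R) (B := S)
    ⟨p, inferInstance⟩
  let K := p.ResidueField
  let L := q.asIdeal.ResidueField
  let j : K →+* L := Ideal.ResidueField.map p q.asIdeal (algebraMap R S)
    (congrArg PrimeSpectrum.asIdeal hq).symm
  let _ := j.toAlgebra
  have : IsScalarTower R K L := .of_algebraMap_eq fun r => by
    rw [IsScalarTower.algebraMap_apply R S L]
    exact (Ideal.ResidueField.map_algebraMap _ _ _ _ r).symm
  have h : Module.Finite L (L ⊗[S] (S ⊗[R] T)) :=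
    Algebra.QuasiFinite.finite_fiber (R := S) (S := S ⊗[R] T) q.asIdeal
  have : Module.Finite L (L ⊗[K] (K ⊗[R] T)) :=
    Module.Finite.equiv ((AlgebraTensorModule.cancelBaseChange R S L L T).trans
      (AlgebraTensorModule.cancelBaseChange R K L L T).symm)
  exact Module.Finite.of_finite_tensorProduct_of_faithfullyFlat (R := K) L

theorem quasiFinite_codescendsAlong_faithfullyFlat :
    RingHom.CodescendsAlong RingHom.QuasiFinite RingHom.FaithfullyFlat := by
  refine .mk _ RingHom.QuasiFinite.respectsIso fun R S T _ _ _ _ _ h h' => ?_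
  rw [RingHom.quasiFinite_algebraMap] at h' ⊢
  rw [RingHom.faithfullyFlat_algebraMap_iff] at h
  exact quasiFinite_of_tensorProduct R S T

instance descendsAlong_flat_fsq :
    DescendsAlong @Flat.{u} (@Surjective ⊓ @Flat ⊓ @QuasiCompact) :=
  HasRingHomProperty.descendsAlong_flat flat_codescendsAlong_faithfullyFlat

instance isStableUnderBaseChange_locallyQuasiFinite' :
    MorphismProperty.IsStableUnderBaseChange @LocallyQuasiFinite.{u} :=
  HasRingHomProperty.isStableUnderBaseChange RingHom.QuasiFinite.isStableUnderBaseChange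

instance descendsAlong_locallyQuasiFinite_fsq :
    DescendsAlong @LocallyQuasiFinite.{u} (@Surjective ⊓ @Flat ⊓ @QuasiCompact) :=
  HasRingHomProperty.descendsAlong_flat quasiFinite_codescendsAlong_faithfullyFlat

theorem descendsAlong_inf {C : Type*} [Category C] {P P' Q : MorphismProperty C}
    [P.DescendsAlong Q] [P'.DescendsAlong Q] : (P ⊓ P').DescendsAlong Q where
  of_isPullback h hf hp :=
    ⟨MorphismProperty.of_isPullback_of_descendsAlong h hf hp.1,
      MorphismProperty.of_isPullback_of_descendsAlong h hf hp.2⟩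

open AlgSp Groth.Agent.AlgSpace

variable {S : Scheme.{u}}

theorem etale_le_flat' : (@Etale : MorphismProperty Scheme.{u}) ≤ @Flat :=
  fun _ _ _ _ => inferInstance

theorem etale_le_lft : (@Etale : MorphismProperty Scheme.{u}) ≤ @LocallyOfFiniteType :=
  fun _ _ _ _ => inferInstance

theorem etale_le_lfp' : (@Etale : MorphismProperty Scheme.{u}) ≤ @LocallyOfFinitePresentation :=
  fun _ _ _ _ => inferInstance

theorem etale_le_fu : (@Etale : MorphismProperty Scheme.{u}) ≤ @FormallyUnramified :=
  fun _ _ _ _ => inferInstance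

theorem quasiFinite_of_etale (R T : Type u) [CommRing R] [CommRing T] [Algebra R T]
    [Algebra.Etale R T] : Algebra.QuasiFinite R T :=
  ⟨fun p _ => Algebra.FormallyUnramified.finite_of_free p.ResidueField (p.ResidueField ⊗[R] T)⟩

theorem etale_le_lqf : (@Etale : MorphismProperty Scheme.{u}) ≤ @LocallyQuasiFinite := by
  intro X Y f hf
  rw [HasRingHomProperty.iff_appLE (P := @LocallyQuasiFinite)]
  intro U V e
  have h := HasRingHomProperty.appLE (P := @Etale) f hf U V e
  algebraize [(f.appLE U V e).hom]
  exact RingHom.quasiFinite_algebraMap.2 (quasiFinite_of_etale _ _)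

theorem precompEtale_inf {P P' : MorphismProperty Scheme.{u}} (h : PrecompEtale P)
    (h' : PrecompEtale P') : PrecompEtale (P ⊓ P') :=
  fun _ _ _ g f hg hf => ⟨h g f hg hf.1, h' g f hg hf.2⟩

theorem precompEtale_etale : PrecompEtale @Etale.{u} :=
  precompEtale_of_isStableUnderComposition le_rfl

theorem precompEtale_flat : PrecompEtale @Flat.{u} :=
  precompEtale_of_isStableUnderComposition etale_le_flat'

theorem precompEtale_lft : PrecompEtale @LocallyOfFiniteType.{u} :=
  precompEtale_of_isStableUnderComposition etale_le_lft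

theorem precompEtale_lfp : PrecompEtale @LocallyOfFinitePresentation.{u} :=
  precompEtale_of_isStableUnderComposition etale_le_lfp'

theorem precompEtale_unramified :
    PrecompEtale (@LocallyOfFiniteType.{u} ⊓ @FormallyUnramified) :=
  precompEtale_inf precompEtale_lft (precompEtale_of_isStableUnderComposition etale_le_fu)

theorem precompEtale_lqf :
    PrecompEtale (@LocallyQuasiFinite.{u} ⊓ @LocallyOfFiniteType) :=
  precompEtale_inf (precompEtale_of_isStableUnderComposition etale_le_lqf) precompEtale_lft

/-- An étale morphism is etale on charts. -/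
theorem locP_etale_of_isEtaleMor {X Y : Sp S} {f : X ⟶ Y} (hf : IsEtaleMor f) :
    LocP @Etale f := by
  intro U V a b h ha hb w
  have he := hf a ha
  have sqW := he.1.isPullback b
  have hp : Etale (he.1.snd b).left := he.2 b _ _ sqW
  have hu : Etale (he.1.fst' b).left := hb.2 (a ≫ f) ((yon S).map (he.1.snd b)) _
    (by rw [he.1.map_fst']; exact sqW.flip)
  let s : U ⟶ he.1.pullback b := he.1.lift (𝟙 _) h (by rw [Category.id_comp]; exact w)
  have hs : Etale s.left := by
    have : s ≫ he.1.fst' b = 𝟙 U := (yon S).map_injective (by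
      rw [Functor.map_comp, he.1.map_fst', he.1.lift_fst]; exact ((yon S).map_id U).symm)
    have : Etale (s.left ≫ (he.1.fst' b).left) := by
      rw [← Over.comp_left, this]
      exact inferInstanceAs (Etale (𝟙 U.left))
    exact Etale.of_comp s.left (he.1.fst' b).left
  have : s ≫ he.1.snd b = h := he.1.lift_snd _ _ _
  rw [← this, Over.comp_left]
  infer_instance

/-- A morphism of spaces which is etale on charts is etale. -/
theorem isEtaleMor_of_locP_etale {X Y : Sp S} (hX : IsAlgSpace X) (hY : IsAlgSpace Y) {f : X ⟶ Y}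
    (hf : LocP @Etale f) : IsEtaleMor f := by
  intro U φ hφ
  refine repWith_mk fun T g => ?_
  have hrep := hY.representable_from_yon (φ ≫ f)
  refine ⟨_, hrep.fst g, hrep.snd g, hrep.isPullback g, ?_⟩
  have sq := IsPullback.of_hasPullback f g
  let ψ := sq.lift (hrep.fst g ≫ φ) ((yon S).map (hrep.snd g))
    (by rw [Category.assoc]; exact hrep.w g)
  have hψ : RepWith @Etale ψ := by
    refine repWith_of_isPullback (a := hrep.fst g) ?_ hφ (b := pullback.fst f g)
    exact IsPullback.of_bot (by simpa [ψ] using hrep.isPullback g) (by simp [ψ]) sq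
  exact bc_of_locP precompEtale_etale descendsEtaleSource_etale hX hY hf g _ _ sq ψ (hrep.snd g)
    hψ (by simp [ψ])

theorem isEtaleMor_iff_locP {X Y : Sp S} (hX : IsAlgSpace X) (hY : IsAlgSpace Y) (f : X ⟶ Y) :
    IsEtaleMor f ↔ LocP @Etale f :=
  ⟨locP_etale_of_isEtaleMor, isEtaleMor_of_locP_etale hX hY⟩

/-- Being etale is fpqc local on the base. -/
theorem isLocalOnBase_fpqc_isEtaleMor :
    IsLocalOnBase (IsFpqcCover (S := S)) IsEtaleMor := by
  intro ι Y Yi g hY hYi hg X f hX Xi p q hXi sq
  rw [isEtaleMor_iff_locP hX hY,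
    isLocalOnBase_fpqc_locP precompEtale_etale descendsEtaleSource_etale
      Yi g hY hYi hg f hX Xi p q hXi sq]
  exact forall_congr' fun i => (isEtaleMor_iff_locP (hXi i) (hYi i) (p i)).symm

end Groth.Agent.AlgSpDescent
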