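import Groth.Agent.Lib.AlgSpDescent.SchemeSmooth
import Groth.Agent.Lib.AlgSpace.LocP
import Groth.Agent.Lib.H12.FlatComp
import Groth.Agent.Lib.SmoothRed.Basic
import Groth.Agent.Lib.Hens.Noetherian
import Groth.Prelude.Def_AlgSpSub

/-!
# Reducedness and local Noetherianity along flat and smooth morphisms of spaces
-/

universe u

set_option backward.isDefEq.respectTransparency.types false

open CategoryTheory CategoryTheory.Limits AlgebraicGeometry Opposite MorphismProperty

namespace Groth.Agent.AlgSpDescent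

open AlgSp Groth.Agent.AlgSpace Groth.Agent.AlgSpDecent

/-- A scheme smooth over a reduced scheme is reduced. -/
theorem isReduced_of_smooth {X Y : Scheme.{u}} (f : X ⟶ Y) [Smooth f] [IsReduced Y] : IsReduced X := by
  have key : ∀ x : X, ∃ U : X.Opens, x ∈ U ∧ IsReduced U.toScheme := by
    intro x
    obtain ⟨V, hV, hxV, -⟩ :=
      exists_isAffineOpen_mem_and_subset (X := Y) (x := f x) (U := ⊤) trivial
    obtain ⟨U, hU, hxU, hUV⟩ := exists_isAffineOpen_mem_and_subset (U := f ⁻¹ᵁ V) hxV
    refine ⟨U, hxU, ?_⟩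
    have hs := HasRingHomProperty.appLE (P := @Smooth) f inferInstance ⟨V, hV⟩ ⟨U, hU⟩ hUV
    algebraize [(f.appLE V U hUV).hom]
    have hred : _root_.IsReduced Γ(X, U) := SmoothRed.isReduced_of_smooth Γ(Y, V) Γ(X, U)
    have : IsAffine U.toScheme := hU
    have : _root_.IsReduced Γ(U.toScheme, ⊤) :=
      isReduced_of_injective U.topIso.hom.hom U.topIso.commRingCatIsoToRingEquiv.injective
    exact isReduced_of_isOpenImmersion U.toScheme.isoSpec.hom
  choose U hxU hred using key
  have : ∀ i, _root_.IsReduced (X.presheaf.stalk i) := fun x => by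
    have := hred x
    have : _root_.IsReduced ((U x).toScheme.presheaf.stalk ⟨x, hxU x⟩) := inferInstance
    exact isReduced_of_injective ((U x).stalkIso ⟨x, hxU x⟩).inv.hom
      ((U x).stalkIso ⟨x, hxU x⟩).symm.commRingCatIsoToRingEquiv.injective
  exact isReduced_of_isReduced_stalk X

/-- Local Noetherianity descends along flat surjections locally of finite presentation. -/
theorem isLocallyNoetherian_of_fppf {W X : Scheme.{u}} (g : W ⟶ X) [Flat g] [Surjective g]
    [LocallyOfFinitePresentation g] [IsLocallyNoetherian W] : IsLocallyNoetherian X := by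
  refine ⟨fun V => ?_⟩
  have : IsAffine V.1.toScheme := V.2
  let g' := pullback.snd g V.1.ι
  have : IsLocallyNoetherian (pullback g V.1.ι) :=
    isLocallyNoetherian_of_isOpenImmersion (pullback.fst g V.1.ι)
  obtain ⟨ι, _, U, hU, hs⟩ := exists_affine_open_surjective g' g'.isOpenMap
  let d := Sigma.desc fun i => (U i).ι ≫ g'
  have : ∀ i, IsAffine (U i).toScheme := hU
  have : ∀ i, IsAffine ((sigmaOpenCover fun i => (U i).toScheme).X i) := hU
  have hN : IsLocallyNoetherian (∐ fun i => (U i).toScheme) :=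
    (isLocallyNoetherian_iff_of_affine_openCover (sigmaOpenCover fun i => (U i).toScheme)
      (X := ∐ fun i => (U i).toScheme)).2 fun i =>
        IsLocallyNoetherian.component_noetherian (X := (U i).toScheme) ⟨⊤, isAffineOpen_top _⟩
  have : IsNoetherianRing Γ(∐ fun i => (U i).toScheme, ⊤) :=
    IsLocallyNoetherian.component_noetherian ⟨⊤, isAffineOpen_top _⟩
  have : Flat d := IsZariskiLocalAtSource.sigmaDesc fun i => inferInstance
  have hff : d.appTop.hom.FaithfullyFlat :=
    (Flat.flat_and_surjective_iff_faithfullyFlat_of_isAffine d).1 ⟨inferInstance, hs⟩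
  algebraize [d.appTop.hom]
  have := Groth.Agent.Hens.isNoetherianRing_of_faithfullyFlat Γ(V.1.toScheme, ⊤)
    Γ(∐ fun i => (U i).toScheme, ⊤)
  exact isNoetherianRing_of_ringEquiv Γ(V.1.toScheme, ⊤) V.1.topIso.commRingCatIsoToRingEquiv

variable {S : Scheme.{u}}

/-- A property of schemes stable under étale morphisms and descending along étale surjections holds
for every scheme étale over a space having it. -/
theorem prop_of_etale_chart {P : Scheme.{u} → Prop}
    (hup : ∀ ⦃A B : Scheme.{u}⦄ (f : A ⟶ B), Etale f → P B → P A)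
    (hdown : ∀ ⦃A B : Scheme.{u}⦄ (f : A ⟶ B), Etale f → Surjective f → P A → P B) {F : Sp S}
    (hF : EtaleLocally P F) {U : Over S} {a : (yon S).obj U ⟶ F} (ha : RepWith @Etale a) : P U.left := by
  obtain ⟨U₀, π, hπe, hπs, hP⟩ := hF
  obtain ⟨k, hk⟩ := (yon S).map_surjective (hπe.1.fst a)
  have sq := hπe.1.isPullback a
  have h1 : Etale (hπe.1.snd a).left := hπe.2 a _ _ sq
  have h2 : Surjective (hπe.1.snd a).left := hπs.2 a _ _ sq
  have h3 : Etale k.left := ha.2 π _ k (by rw [hk]; exact sq.flip)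
  exact hdown _ h1 h2 (hup _ h3 hP)

/-- A property descending along `K`-surjections of schemes descends along surjective morphisms of
spaces which have `K`. -/
theorem etaleLocally_of_surjective {P : Scheme.{u} → Prop} {K : MorphismProperty Scheme.{u}}
    (hup : ∀ ⦃A B : Scheme.{u}⦄ (f : A ⟶ B), Etale f → P B → P A)
    (hdown : ∀ ⦃A B : Scheme.{u}⦄ (f : A ⟶ B), Etale f → Surjective f → P A → P B)
    (hdesc : ∀ ⦃A B : Scheme.{u}⦄ (f : A ⟶ B), K f → Surjective f → P A → P B)
    {X Y : Sp S} (hX : IsAlgSpace X) (hY : IsAlgSpace Y) {f : X ⟶ Y} (hf : LocP K f)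
    (hs : IsSurjectiveMor f) (hP : EtaleLocally P X) : EtaleLocally P Y := by
  obtain ⟨V, b, hbe, hbs⟩ := hY.atlas
  obtain ⟨U, a, h, hae, has, w⟩ := exists_chart_over hX hY f b hbe hbs
  refine ⟨V, b, hbe, hbs, ?_⟩
  -- a chart surjecting onto `V`
  have sq := IsPullback.of_hasPullback f b
  obtain ⟨A, r, hre, hrs⟩ := (isAlgSpace_pullback hY hX (IsAlgSpace.yon_obj V) sq).atlas
  obtain ⟨c, hc⟩ := (yon S).map_surjective (r ≫ pullback.snd f b)
  have hl : RepWith @Etale (r ≫ pullback.fst f b) :=
    repWith_comp hre (repWith_of_isPullback sq.flip hbe)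
  have hK : K c.left := hf _ b c hl hbe (by rw [hc, Category.assoc, Category.assoc, sq.w])
  refine hdesc c.left hK ⟨fun v => ?_⟩ (prop_of_etale_chart hup hdown hP hl)
  obtain ⟨x, hx⟩ := hs (Points.ofPt b v)
  obtain ⟨z, -, hz⟩ := exists_point_lift sq x (Points.ofScheme V v)
    (by rw [← Points.ofPt_eq_map_ofScheme]; exact hx)
  obtain ⟨t, rfl⟩ := surjective_ofPt hrs z
  refine ⟨t, (Points.schemeEquiv V).injective ?_⟩
  rw [Points.map_ofPt, ← hc, ofPt_map_eq] at hz
  exact hz

theorem isReduced_up : ∀ ⦃A B : Scheme.{u}⦄ (f : A ⟶ B), Etale f → IsReduced B → IsReduced A :=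
  fun _ _ f _ _ => isReduced_of_smooth f

theorem isReduced_down : ∀ ⦃A B : Scheme.{u}⦄ (f : A ⟶ B), Etale f → Surjective f → IsReduced A → IsReduced B :=
  fun _ _ f _ _ _ => H12.isReduced_of_flat_surjective f

theorem isReducedSp_of_flat_surjective {X Y : Sp S} (hX : IsAlgSpace X) (hY : IsAlgSpace Y)
    {f : X ⟶ Y} (hf : LocP @Flat f) (hs : IsSurjectiveMor f) (hP : IsReducedSp X) : IsReducedSp Y :=
  etaleLocally_of_surjective (K := @Flat) isReduced_up isReduced_down
    (fun _ _ f (_ : Flat f) _ _ => H12.isReduced_of_flat_surjective f) hX hY hf hs hP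

theorem isReducedSp_of_smooth {X Y : Sp S} (hX : IsAlgSpace X) (hY : IsAlgSpace Y)
    {f : X ⟶ Y} (hf : LocP @Smooth f) (hP : IsReducedSp Y) : IsReducedSp X := by
  obtain ⟨U, V, a, b, h, hae, has, hbe, hbs, w⟩ := exists_chart_square hX hY f
  have : IsReduced V.left := prop_of_etale_chart isReduced_up isReduced_down hP hbe
  have : Smooth h.left := hf a b h hae hbe w
  exact ⟨U, a, hae, has, isReduced_of_smooth h.left⟩

theorem isLocNoethSp_of_fppf_surjective {X Y : Sp S} (hX : IsAlgSpace X) (hY : IsAlgSpace Y)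
    {f : X ⟶ Y} (hfp : LocP @LocallyOfFinitePresentation f) (hfl : LocP @Flat f)
    (hs : IsSurjectiveMor f) (hP : IsLocNoethSp X) : IsLocNoethSp Y :=
  etaleLocally_of_surjective (K := @Flat ⊓ @LocallyOfFinitePresentation)
    (fun _ _ f (_ : Etale f) (_ : IsLocallyNoetherian _) => LocallyOfFiniteType.isLocallyNoetherian f)
    (fun _ _ f (_ : Etale f) _ _ => isLocallyNoetherian_of_fppf f)
    (fun _ _ f hK _ _ => have := hK.1; have := hK.2; isLocallyNoetherian_of_fppf f)
    hX hY (locP_inf hfl hfp) hs hP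

end Groth.Agent.AlgSpDescent
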