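import Mathlib.RingTheory.Smooth.NoetherianDescent
import Mathlib.RingTheory.Smooth.Flat
import Mathlib.RingTheory.Smooth.Fiber
import Mathlib.RingTheory.Spectrum.Prime.Chevalley
import Mathlib.RingTheory.Etale.Kaehler
import Mathlib.RingTheory.Flat.FaithfullyFlat.Algebra
import Mathlib.RingTheory.QuasiFinite.Basic
import Mathlib.RingTheory.TensorProduct.Nontrivial
import Mathlib.RingTheory.Ideal.GoingDown

/-!
# Properties of `A → B` that follow from the ones of `A → C` for a smooth faithfully flat `B → C`
-/

universe u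

open TensorProduct

namespace Groth.Agent.AlgSpDescent

section Locus

variable (D C : Type u) [CommRing D] [CommRing C] [Algebra D C] [Algebra.Smooth D C]

/-- The complement of the image of a smooth algebra, as an ideal. -/
theorem exists_ideal_range_comap :
    ∃ I : Ideal D, ∀ p : PrimeSpectrum D,
      p ∈ Set.range (PrimeSpectrum.comap (algebraMap D C)) ↔ ¬ I ≤ p.asIdeal := by
  have hU : IsOpen (Set.range (PrimeSpectrum.comap (algebraMap D C))) :=
    (PrimeSpectrum.isOpenMap_comap_of_hasGoingDown_of_finitePresentation).isOpen_range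
  obtain ⟨I, hI⟩ := (PrimeSpectrum.isClosed_iff_zeroLocus_ideal _).1 hU.isClosed_compl
  refine ⟨I, fun p => ?_⟩
  have h := Set.ext_iff.1 hI p
  rw [Set.mem_compl_iff, PrimeSpectrum.mem_zeroLocus, SetLike.coe_subset_coe] at h
  rw [← h, not_not]

omit [Algebra.Smooth D C] in
/-- Points of `Spec C` and `Spec D'` over the same point of `Spec D` have a common field. -/
theorem exists_common_point (D' : Type u) [CommRing D'] [Algebra D D'] (q : PrimeSpectrum D')
    (r : PrimeSpectrum C)
    (hr : PrimeSpectrum.comap (algebraMap D C) r = PrimeSpectrum.comap (algebraMap D D') q) :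
    ∃ (Ω : Type u) (_ : Field Ω) (b : D' →+* Ω) (a : C →+* Ω),
      RingHom.ker b = q.asIdeal ∧ b.comp (algebraMap D D') = a.comp (algebraMap D C) := by
  let p : PrimeSpectrum D := PrimeSpectrum.comap (algebraMap D D') q
  let K := q.asIdeal.ResidueField
  let L := r.asIdeal.ResidueField
  let i : p.asIdeal.ResidueField →+* L :=
    Ideal.ResidueField.map p.asIdeal r.asIdeal (algebraMap D C)
      (congrArg PrimeSpectrum.asIdeal hr).symm
  let j : p.asIdeal.ResidueField →+* K :=
    Ideal.ResidueField.map p.asIdeal q.asIdeal (algebraMap D D') rfl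
  let _ := i.toAlgebra
  let _ := j.toAlgebra
  have : Nontrivial (L ⊗[p.asIdeal.ResidueField] K) :=
    Algebra.TensorProduct.nontrivial_of_algebraMap_injective_of_isDomain _ _ _
      i.injective j.injective
  obtain ⟨m, hm⟩ := Ideal.exists_maximal (L ⊗[p.asIdeal.ResidueField] K)
  let _ := Ideal.Quotient.field m
  let bK : K →+* _ := (Ideal.Quotient.mk m).comp
    (Algebra.TensorProduct.includeRight (R := p.asIdeal.ResidueField) (A := L) (B := K)).toRingHom
  let aL : L →+* _ := (Ideal.Quotient.mk m).comp
    (Algebra.TensorProduct.includeLeftRingHom (R := p.asIdeal.ResidueField) (A := L) (B := K))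
  refine ⟨_, inferInstance, bK.comp (algebraMap D' K), aL.comp (algebraMap C L), ?_, ?_⟩
  · ext x
    rw [RingHom.mem_ker, RingHom.comp_apply, map_eq_zero_iff bK bK.injective,
      Ideal.algebraMap_residueField_eq_zero]
  · ext x
    have hi : i (algebraMap D _ x) = algebraMap C L (algebraMap D C x) :=
      Ideal.ResidueField.map_algebraMap _ _ _ _ _
    have hj : j (algebraMap D _ x) = algebraMap D' K (algebraMap D D' x) :=
      Ideal.ResidueField.map_algebraMap _ _ _ _ _
    simp only [RingHom.comp_apply, ← hi, ← hj]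
    exact congrArg (Ideal.Quotient.mk m)
      (Algebra.TensorProduct.tmul_one_eq_one_tmul (algebraMap D p.asIdeal.ResidueField x)).symm

/-- A base change of a smooth algebra is faithfully flat once the base avoids the complement of
the image. -/
theorem faithfullyFlat_baseChange {I : Ideal D}
    (hI : ∀ p : PrimeSpectrum D,
      p ∈ Set.range (PrimeSpectrum.comap (algebraMap D C)) ↔ ¬ I ≤ p.asIdeal)
    (D' : Type u) [CommRing D'] [Algebra D D'] (htop : I.map (algebraMap D D') = ⊤) :
    Module.FaithfullyFlat D' (D' ⊗[D] C) := by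
  refine Module.FaithfullyFlat.of_comap_surjective fun q => ?_
  obtain ⟨r, hr⟩ := (hI (PrimeSpectrum.comap (algebraMap D D') q)).2 fun h =>
    q.isPrime.ne_top (top_le_iff.1 (htop ▸ Ideal.map_le_iff_le_comap.2 h))
  obtain ⟨Ω, _, b, a, hb, hab⟩ := exists_common_point D C D' q r hr
  let _ := (b.comp (algebraMap D D')).toAlgebra
  let bA : D' →ₐ[D] Ω := { b with commutes' := fun x => rfl }
  let aA : C →ₐ[D] Ω := { a with commutes' := fun x => (RingHom.congr_fun hab x).symm }
  let φ := (Algebra.TensorProduct.lift bA aA fun _ _ => Commute.all _ _).toRingHom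
  refine ⟨⟨RingHom.ker φ, RingHom.ker_isPrime φ⟩, PrimeSpectrum.ext ?_⟩
  ext x
  have hx : φ (algebraMap D' (D' ⊗[D] C) x) = b x := by
    simp [φ, bA]
  simp only [PrimeSpectrum.comap_asIdeal, Ideal.mem_comap, RingHom.mem_ker, hx, ← hb]

/-- The complement of the image becomes the unit ideal in any algebra over which the base change is
faithfully flat. -/
theorem map_eq_top_of_faithfullyFlat {I : Ideal D}
    (hI : ∀ p : PrimeSpectrum D,
      p ∈ Set.range (PrimeSpectrum.comap (algebraMap D C)) ↔ ¬ I ≤ p.asIdeal)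
    (B : Type u) [CommRing B] [Algebra D B] [Module.FaithfullyFlat B (B ⊗[D] C)] :
    I.map (algebraMap D B) = ⊤ := by
  by_contra h
  obtain ⟨q, hq, hle⟩ := Ideal.exists_le_maximal _ h
  obtain ⟨r, hr⟩ := PrimeSpectrum.comap_surjective_of_faithfullyFlat
    (A := B) (B := B ⊗[D] C) ⟨q, hq.isPrime⟩
  refine (hI (PrimeSpectrum.comap (algebraMap D B) ⟨q, hq.isPrime⟩)).1
    ⟨PrimeSpectrum.comap (Algebra.TensorProduct.includeRight (R := D) (A := B) (B := C)).toRingHom r,
      ?_⟩ (Ideal.map_le_iff_le_comap.1 hle)
  rw [← hr, ← PrimeSpectrum.comap_comp_apply, ← PrimeSpectrum.comap_comp_apply]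
  congr 1
  exact (Algebra.TensorProduct.includeRight (R := D) (A := B) (B := C)).comp_algebraMap.trans
    (IsScalarTower.algebraMap_eq D B _)

end Locus

section Transfer

variable {D B C : Type u} [CommRing D] [CommRing B] [CommRing C] [Algebra D B] [Algebra D C]
  [Module.FaithfullyFlat D C]

theorem algebraMap_surjective_of_includeRight_surjective
    (h : Function.Surjective (Algebra.TensorProduct.includeRight : C →ₐ[D] B ⊗[D] C)) :
    Function.Surjective (algebraMap D B) := by
  refine (Module.FaithfullyFlat.lTensor_surjective_iff_surjective D C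
    (f := Algebra.linearMap D B)).1 fun x => ?_
  obtain ⟨c, hc⟩ := h (TensorProduct.comm D C B x)
  refine ⟨c ⊗ₜ 1, (TensorProduct.comm D C B).injective ?_⟩
  simpa using hc

theorem algebraMap_injective_of_includeRight_injective
    (h : Function.Injective (Algebra.TensorProduct.includeRight : C →ₐ[D] B ⊗[D] C)) :
    Function.Injective (algebraMap D B) := by
  refine (Module.FaithfullyFlat.lTensor_injective_iff_injective D C
    (f := Algebra.linearMap D B)).1 fun x y hxy => ?_
  obtain ⟨c, rfl⟩ := (TensorProduct.rid D C).symm.surjective x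
  obtain ⟨d, rfl⟩ := (TensorProduct.rid D C).symm.surjective y
  have := congrArg (TensorProduct.comm D C B) hxy
  simp only [TensorProduct.rid_symm_apply, LinearMap.lTensor_tmul, Algebra.linearMap_apply,
    map_one, TensorProduct.comm_tmul] at this
  rw [h (show (Algebra.TensorProduct.includeRight : C →ₐ[D] B ⊗[D] C) c =
    Algebra.TensorProduct.includeRight d from this)]

omit [Module.FaithfullyFlat D C] in
/-- The kernel of `C → B ⊗ C` for surjective `D → B`. -/
theorem mem_map_ker_of_includeRight_eq_zero (hDB : Function.Surjective (algebraMap D B)) (x : C)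
    (hx : (Algebra.TensorProduct.includeRight : C →ₐ[D] B ⊗[D] C) x = 0) :
    x ∈ (RingHom.ker (algebraMap D B)).map (algebraMap D C) := by
  let N := (RingHom.ker (algebraMap D B)).map (algebraMap D C)
  let b : B →+* C ⧸ N := RingHom.liftOfSurjective (algebraMap D B) hDB
    ⟨(Ideal.Quotient.mk N).comp (algebraMap D C), fun d hd =>
      Ideal.Quotient.eq_zero_iff_mem.2 (Ideal.mem_map_of_mem _ hd)⟩
  let bA : B →ₐ[D] C ⧸ N :=
    { b with commutes' := fun d => RingHom.liftOfRightInverse_comp_apply _ _ _ _ _ }
  have h := congrArg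
    (Algebra.TensorProduct.lift bA (Ideal.Quotient.mkₐ D N) fun _ _ => Commute.all _ _) hx
  rw [map_zero, Algebra.TensorProduct.includeRight_apply, Algebra.TensorProduct.lift_tmul,
    map_one, one_mul, Ideal.Quotient.mkₐ_eq_mk] at h
  exact Ideal.Quotient.eq_zero_iff_mem.1 h

end Transfer

section Source

variable (A B C : Type u) [CommRing A] [CommRing B] [CommRing C] [Algebra A B] [Algebra B C]
  [Algebra A C] [IsScalarTower A B C] [Module.FaithfullyFlat B C]

/-- Finite type descends along smooth faithfully flat extensions of the source. -/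
theorem finiteType_of_smooth_faithfullyFlat [Algebra.Smooth B C] [Algebra.FiniteType A C] :
    Algebra.FiniteType A B := by
  classical
  obtain ⟨B₀, C₀, _, _, hB₀, hC₀, ⟨e⟩⟩ := Algebra.Smooth.exists_subalgebra_fg A B C
  obtain ⟨I, hI⟩ := exists_ideal_range_comap B₀ C₀
  have : Module.FaithfullyFlat B (B ⊗[B₀] C₀) :=
    Module.FaithfullyFlat.of_linearEquiv B C e.symm.toLinearEquiv
  have htop := map_eq_top_of_faithfullyFlat B₀ C₀ hI B
  obtain ⟨w, hw⟩ : ∃ w : ↥I →₀ B, w.sum (fun i b => b * (i.1 : B)) = 1 := by
    have h1 : (1 : B) ∈ Submodule.span B (Set.range fun i : ↥I => (i.1 : B)) := by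
      have : (1 : B) ∈ I.map (algebraMap B₀ B) := htop ▸ Submodule.mem_top
      rw [Ideal.map, Ideal.span] at this
      convert this using 2
      ext x
      simp [Subalgebra.algebraMap_eq]
    obtain ⟨w, hw⟩ := Finsupp.mem_span_range_iff_exists_finsupp.1 h1
    exact ⟨w, by simpa using hw⟩
  obtain ⟨s, hs⟩ := Algebra.FiniteType.out (R := A) (A := C)
  choose t ht using fun c : C => TensorProduct.exists_finset (e c)
  let gens : Finset B := (s.biUnion fun c => (t c).image Prod.fst) ∪ w.support.image w
  let B₁ : Subalgebra A B := B₀ ⊔ Algebra.adjoin A (gens : Set B)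
  have hB₁ : B₁.FG := hB₀.sup (Subalgebra.fg_adjoin_finset gens)
  have hle : B₀ ≤ B₁ := le_sup_left
  let _ : Algebra B₀ B₁ := (Subalgebra.inclusion hle).toRingHom.toAlgebra
  have : IsScalarTower B₀ B₁ B := .of_algebraMap_eq fun _ => rfl
  have htop₁ : I.map (algebraMap B₀ B₁) = ⊤ := by
    rw [Ideal.eq_top_iff_one]
    let w' : ↥I → B₁ := fun i => if h : i ∈ w.support then
      ⟨w i, le_sup_right (a := B₀) (Algebra.subset_adjoin (Finset.mem_coe.2
        (Finset.mem_union_right _ (Finset.mem_image_of_mem w h))))⟩ else 0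
    have : (1 : B₁) = ∑ i ∈ w.support, w' i * algebraMap B₀ B₁ i.1 := by
      apply Subtype.ext
      rw [AddSubmonoidClass.coe_finsetSum, OneMemClass.coe_one, ← hw]
      refine Finset.sum_congr rfl fun i hi => ?_
      rw [MulMemClass.coe_mul]
      simp only [w', dif_pos hi]
      rfl
    rw [this]
    exact Ideal.sum_mem _ fun i _ => Ideal.mul_mem_left _ _ (Ideal.mem_map_of_mem _ i.2)
  have := faithfullyFlat_baseChange B₀ C₀ hI B₁ htop₁
  let e₁ : B ⊗[B₁] (B₁ ⊗[B₀] C₀) ≃ₐ[B] B ⊗[B₀] C₀ :=
    Algebra.TensorProduct.cancelBaseChange B₀ B₁ B B C₀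
  have hsurj : Function.Surjective (Algebra.TensorProduct.includeRight :
      B₁ ⊗[B₀] C₀ →ₐ[B₁] B ⊗[B₁] (B₁ ⊗[B₀] C₀)) := by
    let φ : B₁ ⊗[B₀] C₀ →+* C := ((e₁.trans e.symm).toRingEquiv.toRingHom).comp
      (Algebra.TensorProduct.includeRight :
      B₁ ⊗[B₀] C₀ →ₐ[B₁] B ⊗[B₁] (B₁ ⊗[B₀] C₀)).toRingHom
    have hφ : ∀ (b : B₁) (c : C₀), φ (b ⊗ₜ c) = e.symm ((b : B) ⊗ₜ c) := by
      intro b c
      simp [φ, e₁, Algebra.smul_def]
    have hA : ∀ a : A, algebraMap A C a ∈ φ.range := by
      intro a
      refine ⟨algebraMap A B₁ a ⊗ₜ 1, (hφ _ _).trans ?_⟩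
      apply e.injective
      rw [e.apply_symm_apply, IsScalarTower.algebraMap_apply A B C, e.commutes,
        Algebra.TensorProduct.algebraMap_apply]
      rfl
    have hsC : ∀ c ∈ s, c ∈ φ.range := by
      intro c hc
      have : c = e.symm (∑ x ∈ t c, x.1 ⊗ₜ x.2) := by rw [← ht c, e.symm_apply_apply]
      rw [this, map_sum]
      refine Subring.sum_mem _ fun x hx => ?_
      have hmem : x.1 ∈ B₁ := le_sup_right (a := B₀) (Algebra.subset_adjoin (Finset.mem_coe.2
        (Finset.mem_union_left _ (Finset.mem_biUnion.2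
          ⟨c, hc, Finset.mem_image_of_mem _ hx⟩))))
      exact ⟨⟨x.1, hmem⟩ ⊗ₜ x.2, hφ _ _⟩
    intro x
    have hmem : ∀ y : C, y ∈ φ.range := fun y => by
      have : y ∈ Algebra.adjoin A (s : Set C) := hs ▸ Algebra.mem_top
      induction this using Algebra.adjoin_induction with
      | mem y hy => exact hsC y hy
      | algebraMap a => exact hA a
      | add y z _ _ hy hz => exact add_mem hy hz
      | mul y z _ _ hy hz => exact mul_mem hy hz
    replace hmem := hmem ((e₁.trans e.symm) x)
    obtain ⟨y, hy⟩ := hmem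
    exact ⟨y, (e₁.trans e.symm).injective hy⟩
  have hs₁ := algebraMap_surjective_of_includeRight_surjective hsurj
  refine ⟨?_⟩
  have : B₁ = ⊤ := Algebra.eq_top_iff.2 fun b => by
    obtain ⟨b', rfl⟩ := hs₁ b
    exact b'.2
  exact this ▸ hB₁

/-- A finitely presented model of a surjection over which a `ℤ`-subalgebra of finite type lifts. -/
theorem exists_model_surjection {n : ℕ} (π : MvPolynomial (Fin n) A →ₐ[A] B)
    (hπ : Function.Surjective π) (B₀ : Subalgebra ℤ B) (hB₀ : B₀.FG) :
    ∃ (D : Type u) (_ : CommRing D) (_ : Algebra A D) (_ : Algebra B₀ D) (_ : Algebra D B),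
      Algebra.FinitePresentation A D ∧ IsScalarTower A D B ∧ IsScalarTower B₀ D B ∧
      Function.Surjective (algebraMap D B) := by
  let P := MvPolynomial (Fin n) A
  obtain ⟨m, g, hg⟩ := Algebra.FiniteType.iff_quotient_mvPolynomial''.1
    ((Subalgebra.fg_iff_finiteType B₀).1 hB₀)
  choose l hl using fun i => hπ ((g (MvPolynomial.X i) : B₀) : B)
  let χ : MvPolynomial (Fin m) ℤ →ₐ[ℤ] P := MvPolynomial.aeval l
  have hχ : ∀ x, π (χ x) = (g x : B) := fun x => by
    have : (π.restrictScalars ℤ).comp χ = B₀.val.comp g :=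
      MvPolynomial.algHom_ext fun i => by simpa [χ] using hl i
    exact AlgHom.congr_fun this x
  let J : Ideal P := (RingHom.ker g.toRingHom).map χ.toRingHom
  have hJ : J.FG := Ideal.FG.map (IsNoetherian.noetherian _) _
  have hJle : J ≤ RingHom.ker π.toRingHom := Ideal.map_le_iff_le_comap.2 fun x hx => by
    have : g x = 0 := hx
    simp [RingHom.mem_ker, hχ, this]
  let D := P ⧸ J
  have : Algebra.FinitePresentation A D := Algebra.FinitePresentation.quotient hJ
  let ψ : B₀ →+* D := RingHom.liftOfSurjective g.toRingHom hg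
    ⟨(Ideal.Quotient.mk J).comp χ.toRingHom, fun x hx => by
      simp only [RingHom.mem_ker, RingHom.comp_apply]
      exact Ideal.Quotient.eq_zero_iff_mem.2 (Ideal.mem_map_of_mem _ hx)⟩
  have hψ : ∀ x, ψ (g x) = Ideal.Quotient.mk J (χ x) := fun x =>
    RingHom.liftOfRightInverse_comp_apply _ _ _ _ _
  let _ : Algebra B₀ D := ψ.toAlgebra
  let π' : D →+* B := Ideal.Quotient.lift J π.toRingHom fun x hx => hJle hx
  let _ : Algebra D B := π'.toAlgebra
  have : IsScalarTower B₀ D B := .of_algebraMap_eq fun x => by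
    obtain ⟨y, rfl⟩ := hg x
    change (g y : B) = π' (ψ (g y))
    rw [hψ]
    exact (hχ y).symm
  have : IsScalarTower A D B := IsScalarTower.of_algebraMap_eq' (R := A) (S := D) (A := B)
    (RingHom.ext fun a => (π.commutes a).symm)
  have hDB : Function.Surjective (algebraMap D B) := fun b => by
    obtain ⟨x, rfl⟩ := hπ b
    exact ⟨Ideal.Quotient.mk J x, rfl⟩
  exact ⟨D, inferInstance, inferInstance, ψ.toAlgebra, π'.toAlgebra, ‹_›, ‹_›, ‹_›, hDB⟩

/-- A finitely presented quotient killing finitely many elements. -/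
theorem exists_model_quotient (D : Type u) [CommRing D] [Algebra A D] [Algebra D B]
    [IsScalarTower A D B] [Algebra.FinitePresentation A D] (K : Ideal D) (hK : K.FG)
    (hKle : K ≤ RingHom.ker (algebraMap D B)) :
    ∃ (D' : Type u) (_ : CommRing D') (_ : Algebra A D') (_ : Algebra D D') (_ : Algebra D' B),
      Algebra.FinitePresentation A D' ∧ IsScalarTower A D' B ∧ IsScalarTower D D' B ∧
      Function.Surjective (algebraMap D D') ∧ ∀ k ∈ K, algebraMap D D' k = 0 := by
  let q := Ideal.Quotient.lift K (algebraMap D B) fun x hx => hKle hx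
  exact ⟨D ⧸ K, inferInstance, inferInstance, inferInstance, q.toAlgebra,
    Algebra.FinitePresentation.quotient hK,
    @IsScalarTower.of_algebraMap_eq' A (D ⧸ K) B _ _ _ _ q.toAlgebra _
      (RingHom.ext fun a => IsScalarTower.algebraMap_apply A D B a),
    @IsScalarTower.of_algebraMap_eq' D (D ⧸ K) B _ _ _ _ q.toAlgebra _ rfl,
    Ideal.Quotient.mk_surjective, fun k hk => Ideal.Quotient.eq_zero_iff_mem.2 hk⟩

/-- Finite presentation descends along smooth faithfully flat extensions of the source. -/
theorem finitePresentation_of_smooth_faithfullyFlat [Algebra.Smooth B C]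
    [Algebra.FinitePresentation A C] : Algebra.FinitePresentation A B := by
  classical
  have := finiteType_of_smooth_faithfullyFlat A B C
  obtain ⟨n, π, hπ⟩ := Algebra.FiniteType.iff_quotient_mvPolynomial''.1 this
  -- a model of `C` over a ring of finite type over `ℤ`
  obtain ⟨B₀, C₀, _, _, hB₀, hC₀, ⟨e⟩⟩ := Algebra.Smooth.exists_subalgebra_fg ℤ B C
  obtain ⟨D, _, _, _, _, _, _, _, hDB⟩ := exists_model_surjection A B π hπ B₀ hB₀
  let C₁ := D ⊗[B₀] C₀
  let e₁ : B ⊗[D] C₁ ≃ₐ[B] C :=
    (Algebra.TensorProduct.cancelBaseChange B₀ D B B C₀).trans e.symm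
  have : Module.FaithfullyFlat B (B ⊗[D] C₁) :=
    Module.FaithfullyFlat.of_linearEquiv B C e₁.toLinearEquiv
  -- the kernel of `C₁ → C` is finitely generated
  have : Algebra.FinitePresentation A C₁ := Algebra.FinitePresentation.trans A D C₁
  let θ : C₁ →ₐ[D] B ⊗[D] C₁ := Algebra.TensorProduct.includeRight
  have hθ : Function.Surjective θ := Algebra.TensorProduct.includeRight_surjective C₁ hDB
  have : Algebra.FinitePresentation A (B ⊗[D] C₁) :=
    Algebra.FinitePresentation.equiv ((e₁.restrictScalars A).symm)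
  obtain ⟨sgen, hsgen⟩ := Algebra.FinitePresentation.ker_fG_of_surjective (θ.restrictScalars A) hθ
  have hker : ∀ x, θ x = 0 →
      x ∈ (RingHom.ker (algebraMap D B)).map (algebraMap D C₁) :=
    fun x hx => mem_map_ker_of_includeRight_eq_zero hDB x hx
  have hfin : ∀ x ∈ sgen, ∃ T : Finset D, (T : Set D) ⊆ RingHom.ker (algebraMap D B) ∧
      x ∈ (Ideal.span (T : Set D)).map (algebraMap D C₁) := by
    intro x hx
    have hx' : x ∈ RingHom.ker θ.toRingHom :=
      (hsgen.le (Ideal.subset_span hx) : x ∈ RingHom.ker (θ.restrictScalars A).toRingHom)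
    replace hx' := hker x hx'
    rw [Ideal.map, Ideal.span] at hx'
    obtain ⟨T, hT, hxT⟩ := Submodule.mem_span_finite_of_mem_span hx'
    obtain ⟨T', hT', rfl⟩ := Finset.subset_set_image_iff.1 hT
    refine ⟨T', hT', ?_⟩
    rw [Ideal.map_span]
    simpa using hxT
  choose T hT hxT using hfin
  -- make the base change faithfully flat
  obtain ⟨I, hI⟩ := exists_ideal_range_comap D C₁
  have htop := map_eq_top_of_faithfullyFlat D C₁ hI B
  obtain ⟨d, hdI, hd⟩ : ∃ d ∈ I, algebraMap D B d = 1 :=
    (Ideal.mem_map_iff_of_surjective _ hDB).1 (htop ▸ Submodule.mem_top)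
  let K : Ideal D := Ideal.span {1 - d} ⊔
    ⨆ x : sgen, Ideal.span (T x.1 x.2 : Set D)
  have hK : K.FG := (Submodule.fg_span_singleton _).sup
    (Submodule.fg_iSup _ fun x => Submodule.fg_span (Finset.finite_toSet _))
  have hKle : K ≤ RingHom.ker (algebraMap D B) := sup_le
    (Ideal.span_le.2 (Set.singleton_subset_iff.2 (by simp [RingHom.mem_ker, hd])))
    (iSup_le fun x => Ideal.span_le.2 (hT x.1 x.2))
  obtain ⟨D', _, _, _, _, _, _, _, hDD', hKzero⟩ := exists_model_quotient A B D K hK hKle
  have htop' : I.map (algebraMap D D') = ⊤ := by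
    rw [Ideal.eq_top_iff_one]
    have : algebraMap D D' d = 1 := by
      have := hKzero (1 - d) (Ideal.mem_sup_left (Ideal.mem_span_singleton_self _))
      rw [map_sub, map_one, sub_eq_zero] at this
      exact this.symm
    exact this ▸ Ideal.mem_map_of_mem _ hdI
  have := faithfullyFlat_baseChange D C₁ hI D' htop'
  let C₂ := D' ⊗[D] C₁
  let e₂ : B ⊗[D'] C₂ ≃ₐ[B] B ⊗[D] C₁ := Algebra.TensorProduct.cancelBaseChange D D' B B C₁
  have hinj : Function.Injective
      (Algebra.TensorProduct.includeRight : C₂ →ₐ[D'] B ⊗[D'] C₂) := by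
    rw [injective_iff_map_eq_zero]
    intro y hy
    obtain ⟨x, rfl⟩ := Algebra.TensorProduct.includeRight_surjective C₁
      (R := D) (S := D') hDD' y
    have hx : θ x = 0 := by
      have h := congrArg e₂ hy
      rw [map_zero] at h
      rw [← h]
      simp only [Algebra.TensorProduct.includeRight_apply, e₂, θ]
      exact ((Algebra.TensorProduct.cancelBaseChange_tmul D D' B B C₁ (1 : B) (1 : D') x).trans
        (congrArg (· ⊗ₜ[D] x) (one_smul D' (1 : B)))).symm
    have hx' : x ∈ Ideal.span (sgen : Set C₁) := hsgen.ge hx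
    have hzero : ∀ k ∈ K,
        (Algebra.TensorProduct.includeRight : C₁ →ₐ[D] C₂) (algebraMap D C₁ k) = 0 := by
      intro k hk
      rw [AlgHom.commutes, Algebra.algebraMap_eq_smul_one, Algebra.TensorProduct.one_def,
        TensorProduct.smul_tmul', ← Algebra.algebraMap_eq_smul_one, hKzero k hk,
        TensorProduct.zero_tmul]
    let κ : Ideal C₁ :=
      RingHom.ker (Algebra.TensorProduct.includeRight : C₁ →ₐ[D] C₂).toRingHom
    have hle : Ideal.span (sgen : Set C₁) ≤ κ := by
      refine Ideal.span_le.2 fun z hz => ?_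
      have hmap : (Ideal.span (T z hz : Set D)).map (algebraMap D C₁) ≤ κ :=
        Ideal.map_le_iff_le_comap.2 fun k hk => RingHom.mem_ker.2
          (hzero k (Ideal.mem_sup_right
            (le_iSup (fun x : sgen => Ideal.span (T x.1 x.2 : Set D)) ⟨z, hz⟩ hk)))
      exact hmap (hxT z hz)
    exact hle hx'
  have h1 := algebraMap_injective_of_includeRight_injective hinj
  have h2 : Function.Surjective (algebraMap D' B) := fun b => by
    obtain ⟨x, rfl⟩ := hDB b
    exact ⟨algebraMap D D' x, (IsScalarTower.algebraMap_apply D D' B x).symm⟩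
  exact Algebra.FinitePresentation.equiv
    (AlgEquiv.ofBijective (IsScalarTower.toAlgHom A D' B) ⟨h1, h2⟩)

/-- Flatness descends along faithfully flat extensions of the source. -/
theorem flat_of_faithfullyFlat_source [Module.Flat A C] : Module.Flat A B := by
  rw [Module.Flat.iff_lTensor_preserves_injective_linearMap]
  intro N P _ _ _ _ f hf
  let g : B ⊗[A] N →ₗ[B] B ⊗[A] P := f.baseChange B
  suffices Function.Injective g by exact this
  rw [← Module.FaithfullyFlat.lTensor_injective_iff_injective B C]
  have h : Function.Injective (f.lTensor C) := Module.Flat.lTensor_preserves_injective_linearMap f hf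
  have heq : (AlgebraTensorModule.cancelBaseChange A B B C P).toLinearMap ∘ₗ g.lTensor C =
      (AlgebraTensorModule.map LinearMap.id f : C ⊗[A] N →ₗ[B] C ⊗[A] P) ∘ₗ
        (AlgebraTensorModule.cancelBaseChange A B B C N).toLinearMap := by
    ext c n
    simp [g]
  have : Function.Injective ((AlgebraTensorModule.cancelBaseChange A B B C P).toLinearMap ∘ₗ
      g.lTensor C) := by
    rw [heq, LinearMap.coe_comp]
    exact (show Function.Injective ⇑(AlgebraTensorModule.map (LinearMap.id : C →ₗ[B] C) f) from h).comp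
      (LinearEquiv.injective _)
  rw [LinearMap.coe_comp] at this
  exact this.of_comp

/-- Formal unramifiedness descends along étale faithfully flat extensions of the source. -/
theorem formallyUnramified_of_etale_source [Algebra.FormallyEtale B C]
    [Algebra.FormallyUnramified A C] : Algebra.FormallyUnramified A B := by
  constructor
  have : Subsingleton (C ⊗[B] Ω[B⁄A]) :=
    (KaehlerDifferential.tensorKaehlerEquivOfFormallyEtale A B C).toEquiv.subsingleton
  exact Module.FaithfullyFlat.lTensor_reflects_triviality B C _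

/-- Quasi-finiteness descends along faithfully flat extensions of the source. -/
theorem quasiFinite_of_faithfullyFlat_source [Algebra.QuasiFinite A C] :
    Algebra.QuasiFinite A B := by
  refine ⟨fun p _ => ?_⟩
  let K := p.ResidueField
  have hinj : Function.Injective
      (LinearMap.baseChange K (IsScalarTower.toAlgHom A B C).toLinearMap :
        K ⊗[A] B →ₗ[K] K ⊗[A] C) := by
    let N := B ⊗[A] K
    have h : Function.Injective (TensorProduct.mk B C N 1) :=
      Module.FaithfullyFlat.tensorProduct_mk_injective _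
    let e : C ⊗[B] N ≃ₗ[B] C ⊗[A] K := AlgebraTensorModule.cancelBaseChange A B B C K
    have heq : ⇑(LinearMap.baseChange K (IsScalarTower.toAlgHom A B C).toLinearMap) =
        (TensorProduct.comm A C K) ∘ e ∘ (TensorProduct.mk B C N 1) ∘ (TensorProduct.comm A K B) := by
      funext x
      induction x with
      | zero => simp
      | add x y hx hy =>
        simp only [Function.comp_apply, map_add] at hx hy ⊢
        rw [hx, hy]
      | tmul k b => simp [e, N, Algebra.smul_def]
    rw [heq]
    exact ((TensorProduct.comm A C K).injective.comp e.injective).comp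
      (h.comp (TensorProduct.comm A K B).injective)
  exact Module.Finite.of_injective _ hinj

/-- Étaleness descends along étale faithfully flat extensions of the source. -/
theorem etale_of_etale_source [Algebra.Etale B C] [Algebra.Etale A C] : Algebra.Etale A B := by
  have := finitePresentation_of_smooth_faithfullyFlat A B C
  have := flat_of_faithfullyFlat_source A B C
  have := formallyUnramified_of_etale_source A B C
  exact Algebra.Etale.of_formallyUnramified_of_flat

end Source

end Groth.Agent.AlgSpDescent
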