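import Groth.Agent.Lib.AlgSpDescent.SrcLocal
import Groth.Prelude.Def_AlgSpCov

/-!
# Instances of locality on the source
-/

universe u

set_option backward.isDefEq.respectTransparency.types false

open CategoryTheory CategoryTheory.Limits AlgebraicGeometry Opposite MorphismProperty

namespace Groth.Agent.AlgSpDescent

open AlgSp Groth.Agent.AlgSpace

variable {S : Scheme.{u}}

theorem isLocalOnSource_fpqc_flat :
    IsLocalOnSource (IsFpqcCover (S := S)) (LocP @Flat) :=
  isLocalOnSource_locP precompEtale_flat descendsEtaleSource_flat precompEtale_flat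
    descendsEtaleSource_flat (fun _ _ _ a b ha hb => MorphismProperty.comp_mem (W := (@Flat : MorphismProperty Scheme.{u})) a b ha hb)
    (fun _ _ _ a b ha hs h => @flat_of_comp_flat_surjective _ _ _ a b ha hs h)
    fun _ _ _ _ _ _ hg => ⟨hg.1, surjective_of_isFpqcCover hg⟩

/-- A property local on the source for etale surjections is local for etale coverings of spaces. -/
theorem isLocalOnSource_et {P : MorphismProperty Scheme.{u}} [P.IsStableUnderBaseChange]
    [IsZariskiLocalAtTarget P] [P.DescendsAlong (@Surjective ⊓ @Flat ⊓ @QuasiCompact)]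
    [IsZariskiLocalAtSource P] (hpre : PrecompEtale P) (hsrc : DescendsEtaleSource P) :
    IsLocalOnSource (IsEtCover (S := S)) (LocP P) :=
  isLocalOnSource_locP hpre hsrc precompEtale_etale descendsEtaleSource_etale
    (fun _ _ _ a b ha hb => hpre a b ha hb) (fun _ _ _ a b ha hs h => hsrc a b ha hs h)
    fun _ _ _ _ _ _ hg => ⟨fun i => locP_etale_of_isEtaleMor (hg.1 i), hg.2⟩

theorem isLocalOnSource_et_isEtaleMor :
    IsLocalOnSource (IsEtCover (S := S)) IsEtaleMor := by
  intro ι X Xi g hX hXi hg Y f hY
  rw [isEtaleMor_iff_locP hX hY,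
    isLocalOnSource_et precompEtale_etale descendsEtaleSource_etale Xi g hX hXi hg f hY]
  exact forall_congr' fun i => (isEtaleMor_iff_locP (hXi i) hY _).symm

theorem isZariskiLocalAtSource_inf {P P' : MorphismProperty Scheme.{u}} [IsZariskiLocalAtSource P]
    [IsZariskiLocalAtSource P'] : IsZariskiLocalAtSource (P ⊓ P') :=
  inferInstance

theorem isLocalOnSource_et_unramified :
    IsLocalOnSource (IsEtCover (S := S)) (LocP (@LocallyOfFiniteType ⊓ @FormallyUnramified)) := by
  have := descendsAlong_inf (P := @LocallyOfFiniteType.{u}) (P' := @FormallyUnramified)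
    (Q := @Surjective ⊓ @Flat ⊓ @QuasiCompact)
  exact isLocalOnSource_et precompEtale_unramified (descendsEtaleSource_inf
    descendsEtaleSource_locallyOfFiniteType descendsEtaleSource_formallyUnramified)

theorem isLocalOnSource_et_lqf :
    IsLocalOnSource (IsEtCover (S := S)) (LocP (@LocallyQuasiFinite ⊓ @LocallyOfFiniteType)) := by
  have := descendsAlong_inf (P := @LocallyQuasiFinite.{u}) (P' := @LocallyOfFiniteType)
    (Q := @Surjective ⊓ @Flat ⊓ @QuasiCompact)
  exact isLocalOnSource_et precompEtale_lqf (descendsEtaleSource_inf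
    descendsEtaleSource_locallyQuasiFinite descendsEtaleSource_locallyOfFiniteType)

end Groth.Agent.AlgSpDescent
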