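import Groth.Agent.Lib.AlgSpDescent.SrcLocal
import Groth.Agent.Lib.AlgSpDescent.SrcInstances
import Mathlib.AlgebraicGeometry.Morphisms.UniversallyOpen
import Groth.Prelude.Def_AlgSpCov

/-!
# Coverings of algebraic spaces, seen on schemes
-/

universe u

set_option backward.isDefEq.respectTransparency.types false

open CategoryTheory CategoryTheory.Limits AlgebraicGeometry Opposite MorphismProperty

namespace Groth.Agent.AlgSpDescent

open AlgSp Groth.Agent.AlgSpace Groth.Agent.AlgSpDecent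

variable {S : Scheme.{u}}

/-- A jointly surjective family with a property `K` gives, over any scheme mapping to the target, a
jointly surjective family of schemes with property `K` lifting through it. -/
theorem exists_lifts_of_bc {K : MorphismProperty Scheme.{u}} {ι : Type u} {X : Sp S}
    (hX : IsAlgSpace X) {Xi : ι → Sp S} (hXi : ∀ i, IsAlgSpace (Xi i)) {g : ∀ i, Xi i ⟶ X}
    (hK : ∀ i, BC K (g i)) (hsurj : ∀ x : Points X, ∃ i, x ∈ Set.range (Points.map (g i)))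
    (T : Over S) (t : (yon S).obj T ⟶ X) :
    ∃ (A : ι → Over S) (c : ∀ i, A i ⟶ T) (l : ∀ i, (yon S).obj (A i) ⟶ Xi i),
      (∀ i, K (c i).left) ∧ (∀ i, l i ≫ g i = (yon S).map (c i) ≫ t) ∧
        ∀ z : ↥T.left, ∃ i, z ∈ Set.range (c i).left := by
  have sqi := fun i => IsPullback.of_hasPullback (g i) t
  have hA := fun i => isAlgSpace_pullback hX (hXi i) (IsAlgSpace.yon_obj T) (sqi i)
  choose A a hae has using fun i => (hA i).atlas
  let k := fun i => (yon S).preimage (a i ≫ pullback.snd (g i) t)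
  refine ⟨A, k, fun i => a i ≫ pullback.fst (g i) t,
    fun i => hK i t _ _ (sqi i) (a i) (k i) (hae i) (by simp [k]),
    fun i => by simp [k, (sqi i).w], fun z => ?_⟩
  obtain ⟨i, x, hx⟩ := hsurj (Points.ofPt t z)
  obtain ⟨w, -, hw⟩ := exists_point_lift (sqi i) x (Points.ofScheme T z)
    (by rw [← Points.ofPt_eq_map_ofScheme]; exact hx)
  obtain ⟨v, rfl⟩ := surjective_ofPt (has i) w
  refine ⟨i, v, (Points.schemeEquiv T).injective ?_⟩
  rw [Points.map_ofPt] at hw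
  change Points.ofScheme T ((k i).left v) = Points.ofScheme T z
  rw [← ofPt_map_eq, ← hw]
  simp [k]

/-- Finitely many affines lifting through a jointly surjective family of open morphisms. -/
theorem exists_affine_lifts_of_bc {K : MorphismProperty Scheme.{u}} [IsZariskiLocalAtSource K]
    (hopen : ∀ ⦃A B : Scheme.{u}⦄ (f : A ⟶ B), K f → IsOpenMap f) {ι : Type u} {X : Sp S}
    (hX : IsAlgSpace X) {Xi : ι → Sp S} (hXi : ∀ i, IsAlgSpace (Xi i)) {g : ∀ i, Xi i ⟶ X}
    (hK : ∀ i, BC K (g i)) (hsurj : ∀ x : Points X, ∃ i, x ∈ Set.range (Points.map (g i)))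
    (Z : Over S) [IsAffine Z.left] (h : (yon S).obj Z ⟶ X) :
    ∃ (m : ℕ) (W : Fin m → Over S) (c : ∀ j, W j ⟶ Z),
      (∀ j, IsAffine (W j).left) ∧ (∀ j, K (c j).left) ∧
      (∀ z : ↥Z.left, ∃ j, z ∈ Set.range (c j).left) ∧
      ∀ j, ∃ (i : ι) (l : (yon S).obj (W j) ⟶ Xi i), l ≫ g i = (yon S).map (c j) ≫ h := by
  obtain ⟨A, c, l, hc, hl, hs⟩ := exists_lifts_of_bc hX hXi hK hsurj Z h
  let J := Σ i, { U : (A i).left.Opens // IsAffineOpen U }
  have hcov : (Set.univ : Set ↥Z.left) ⊆ ⋃ U : J, (c U.1).left '' (U.2.1 : Set ↥(A U.1).left) := by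
    intro z _
    obtain ⟨i, v, rfl⟩ := hs z
    obtain ⟨U, hU, hv, -⟩ :=
      exists_isAffineOpen_mem_and_subset (X := (A i).left) (x := v) (U := ⊤) trivial
    exact Set.mem_iUnion.2 ⟨⟨i, U, hU⟩, v, hv, rfl⟩
  obtain ⟨s, hst⟩ := isCompact_univ.elim_finite_subcover
    (fun U : J => (c U.1).left '' (U.2.1 : Set ↥(A U.1).left))
    (fun U => hopen _ (hc _) _ U.2.1.2) hcov
  let e := s.equivFin.symm
  let W : Fin s.card → Over S := fun j => Over.mk ((e j).1.2.1.ι ≫ (A (e j).1.1).hom)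
  let w : ∀ j, W j ⟶ A (e j).1.1 := fun j => Over.homMk (e j).1.2.1.ι rfl
  refine ⟨s.card, W, fun j => w j ≫ c _, fun j => (e j).1.2.2, fun j => ?_, fun z => ?_,
    fun j => ⟨(e j).1.1, (yon S).map (w j) ≫ l _, ?_⟩⟩
  · rw [Over.comp_left]
    exact IsZariskiLocalAtSource.comp (hc _) (e j).1.2.1.ι
  · obtain ⟨U, hU, v, hv, rfl⟩ := Set.mem_iUnion₂.1 (hst (Set.mem_univ z))
    obtain ⟨j, hj⟩ := e.surjective ⟨U, hU⟩
    have hj' : (e j).1 = U := congrArg Subtype.val hj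
    subst hj'
    exact ⟨j, ⟨v, hv⟩, rfl⟩
  · rw [Category.assoc, hl, Functor.map_comp, Category.assoc]

theorem bc_fppf_of_isFppfCover {ι : Type u} {X : Sp S} (hX : IsAlgSpace X) {Xi : ι → Sp S}
    (hXi : ∀ i, IsAlgSpace (Xi i)) {g : ∀ i, Xi i ⟶ X} (hg : IsFppfCover Xi g) (i : ι) :
    BC (@Flat ⊓ @LocallyOfFinitePresentation) (g i) := by
  have := descendsAlong_inf (P := @Flat.{u}) (P' := @LocallyOfFinitePresentation)
    (Q := @Surjective ⊓ @Flat ⊓ @QuasiCompact)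
  exact bc_of_locP (precompEtale_inf precompEtale_flat precompEtale_lfp)
      (descendsEtaleSource_inf descendsEtaleSource_flat descendsEtaleSource_locallyOfFinitePresentation)
      (hXi i) hX fun U V a b h ha hb w => ⟨(hg.1 i).1 a b h ha hb w, (hg.1 i).2 a b h ha hb w⟩

/-- An fppf covering is an fpqc covering. -/
theorem isFpqcCover_of_isFppfCover {ι : Type u} {X : Sp S} (hX : IsAlgSpace X) {Xi : ι → Sp S}
    (hXi : ∀ i, IsAlgSpace (Xi i)) {g : ∀ i, Xi i ⟶ X} (hg : IsFppfCover Xi g) :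
    IsFpqcCover Xi g := by
  refine ⟨fun i => (hg.1 i).1, fun Z _ h => ?_⟩
  have hK := bc_fppf_of_isFppfCover hX hXi hg
  obtain ⟨m, W, c, h1, h2, h3, h4⟩ := exists_affine_lifts_of_bc
    (fun A B f hf => by
      have := hf.1; have := hf.2
      exact f.isOpenMap) hX hXi hK hg.2 Z h
  exact ⟨m, W, c, h1, fun j => (h2 j).1, h3, h4⟩

/-- An fppf covering lifts any morphism from a scheme fppf locally. -/
theorem exists_fppf_lifts {ι : Type u} {X : Sp S} (hX : IsAlgSpace X) {Xi : ι → Sp S}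
    (hXi : ∀ i, IsAlgSpace (Xi i)) {g : ∀ i, Xi i ⟶ X} (hg : IsFppfCover Xi g) (T : Over S)
    (t : (yon S).obj T ⟶ X) :
    ∃ (A : ι → Over S) (c : ∀ i, A i ⟶ T) (l : ∀ i, (yon S).obj (A i) ⟶ Xi i),
      Sieve.ofArrows A c ∈ AlgSp.J S T ∧ ∀ i, l i ≫ g i = (yon S).map (c i) ≫ t := by
  obtain ⟨A, c, l, hc, hl, hs⟩ :=
    exists_lifts_of_bc hX hXi (bc_fppf_of_isFppfCover hX hXi hg) hg.2 T t
  refine ⟨A, c, l, ?_, hl⟩
  rw [AlgSp.J_eq, GrothendieckTopology.mem_over_iff, Sieve.overEquiv_ofArrows]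
  refine Precoverage.generate_mem_toGrothendieck ?_
  exact (Scheme.ofArrows_mem_precoverage_iff _).2 ⟨fun z => hs z, hc⟩

end Groth.Agent.AlgSpDescent
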