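import Groth.Agent.Lib.AlgSpDescent.SrcInstances
import Groth.Agent.Lib.AlgSpDescent.Covers
import Groth.Agent.Lib.AlgSpace.LqfDescent
import Groth.Agent.Lib.FppfSource.Scheme
import Groth.Agent.Lib.SmoothFppf.Ring
import Groth.Agent.Lib.WeilExt.Regular
import Groth.Agent.Lib.RegLoc.GlobalDim
import Groth.Agent.Lib.AlgSpDescent.RedNoeth
import Mathlib.AlgebraicGeometry.Morphisms.Etale

/-!
# Properties of a morphism from properties of a composite with an fppf morphism on the source

Descent along surjective flat locally finitely presented maps on the source, and along maps of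
spaces which are surjections of fppf sheaves.
-/

universe u

set_option backward.isDefEq.respectTransparency.types false

open CategoryTheory CategoryTheory.Limits AlgebraicGeometry Opposite MorphismProperty

namespace Groth.Agent.AlgSpDescent

open AlgSp Groth.Agent.AlgSpace Groth.Agent.AlgSpDecent

theorem locallyOfFiniteType_of_fppf_comp {W X Y : Scheme.{u}} (g : W ⟶ X) (f : X ⟶ Y)
    (hg : Flat g) (hg' : LocallyOfFinitePresentation g) (hs : Surjective g)
    (h : LocallyOfFiniteType (g ≫ f)) : LocallyOfFiniteType f :=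
  FppfSource.descends_fppf_surjective_of_ring @LocallyOfFiniteType
    (fun A B C _ _ _ _ _ _ _ _ _ h => by
      rw [RingHom.finiteType_algebraMap] at h ⊢
      exact FppfSource.finiteType_of_fppf A B C) g f hg hg' hs h

theorem smooth_of_fppf_comp {W X Y : Scheme.{u}} (g : W ⟶ X) (f : X ⟶ Y)
    (hg : Flat g) (hg' : LocallyOfFinitePresentation g) (hs : Surjective g)
    (h : Smooth (g ≫ f)) : Smooth f :=
  FppfSource.descends_fppf_surjective_of_ring @Smooth
    (fun A B C _ _ _ _ _ _ _ _ _ h => by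
      rw [RingHom.smooth_algebraMap] at h ⊢
      exact SmoothFppf.smooth_of_fppf A B C) g f hg hg' hs h

theorem etale_of_fppf_comp {W X Y : Scheme.{u}} (g : W ⟶ X) (f : X ⟶ Y)
    (hg : Flat g) (hg' : LocallyOfFinitePresentation g) (hs : Surjective g)
    (h : Etale (g ≫ f)) : Etale f := by
  have : FormallyUnramified g := FormallyUnramified.of_comp g f
  exact descendsEtaleSource_etale g f (Etale.of_formallyUnramified_of_flat g) hs h

/-- A property of schemes over a base passes to retracts. -/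
theorem of_retract_of_ring (P : MorphismProperty Scheme.{u})
    {Q : ∀ {R S : Type u} [CommRing R] [CommRing S], (R →+* S) → Prop}
    [HasRingHomProperty P Q] [P.IsStableUnderBaseChange]
    (hQ : ∀ (A B C : Type u) [CommRing A] [CommRing B] [CommRing C] [Algebra A B] [Algebra A C]
      (ρ : C →ₐ[A] B) (σ : B →ₐ[A] C), ρ.comp σ = AlgHom.id A B →
      Q (algebraMap A C) → Q (algebraMap A B))
    {W X Y : Scheme.{u}} (c : W ⟶ X) (s : X ⟶ W) (f : X ⟶ Y) (hsc : s ≫ c = 𝟙 X)
    (h : P (c ≫ f)) : P f := by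
  wlog hY : IsAffine Y generalizing W X Y
  · refine IsZariskiLocalAtTarget.of_openCover (P := P) Y.affineCover fun i => ?_
    let fX := pullback.fst f (Y.affineCover.f i)
    refine this (pullback.snd c fX) (pullback.lift (fX ≫ s) (𝟙 _) ?_) _ ?_ ?_ inferInstance
    · rw [Category.assoc, hsc, Category.comp_id, Category.id_comp]
    · exact pullback.lift_snd _ _ _
    · exact MorphismProperty.of_isPullback (P := P)
        (((IsPullback.of_hasPullback c fX).flip.paste_horiz
          (IsPullback.of_hasPullback f (Y.affineCover.f i)).flip).flip) h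
  suffices hloc : ∀ x : X, ∃ O : X.Opens, x ∈ O ∧ P (O.ι ≫ f) by
    choose O hO hOP using hloc
    exact IsZariskiLocalAtSource.of_openCover (P := P) (X.openCoverOfIsOpenCover O
      (TopologicalSpace.IsOpenCover.mk (top_le_iff.1 fun x _ =>
        TopologicalSpace.Opens.mem_iSup.2 ⟨x, hO x⟩))) hOP
  intro x
  obtain ⟨O₁, hO₁, hx₁, -⟩ := exists_isAffineOpen_mem_and_subset (X := X) (x := x) (U := ⊤) trivial
  have hsx : s x ∈ c ⁻¹ᵁ O₁ := by
    show c (s x) ∈ O₁
    rw [← Scheme.Hom.comp_apply, hsc]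
    exact hx₁
  obtain ⟨Q₁, hQ₁, hxQ₁, hQ₁le⟩ := exists_isAffineOpen_mem_and_subset hsx
  obtain ⟨a, hale, hxa⟩ := hO₁.exists_basicOpen_le
    (V := s ⁻¹ᵁ Q₁) (⟨x, hxQ₁⟩ : (s ⁻¹ᵁ Q₁ : Set X)) hx₁
  let O := X.basicOpen a
  let Q₂ := W.basicOpen ((c.appLE O₁ Q₁ hQ₁le).hom a)
  have hO : IsAffineOpen O := hO₁.basicOpen a
  have hQ₂ : IsAffineOpen Q₂ := hQ₁.basicOpen _
  have hQ₂e : Q₂ = Q₁ ⊓ c ⁻¹ᵁ O := by
    simp only [Q₂, O, Scheme.Hom.appLE, CommRingCat.hom_comp, RingHom.comp_apply]
    rw [Scheme.basicOpen_res, Scheme.preimage_basicOpen]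
  have hcle : Q₂ ≤ c ⁻¹ᵁ O := hQ₂e ▸ inf_le_right
  have hsle : O ≤ s ⁻¹ᵁ Q₂ := by
    rw [hQ₂e]
    refine fun y hy => ⟨hale hy, ?_⟩
    show c (s y) ∈ O
    rw [← Scheme.Hom.comp_apply, hsc]
    exact hy
  refine ⟨O, hxa, ?_⟩
  let c' : Q₂.toScheme ⟶ O.toScheme := c.resLE O Q₂ hcle
  let s' : O.toScheme ⟶ Q₂.toScheme := s.resLE Q₂ O hsle
  have hsc' : s' ≫ c' = 𝟙 _ := by
    rw [← cancel_mono O.ι, Category.assoc, Scheme.Hom.resLE_comp_ι, Scheme.Hom.resLE_comp_ι_assoc,
      hsc, Category.comp_id, Category.id_comp]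
  have : IsAffine O.toScheme := hO
  have : IsAffine Q₂.toScheme := hQ₂
  have hP : P (c' ≫ O.ι ≫ f) := by
    rw [Scheme.Hom.resLE_comp_ι_assoc]
    exact IsZariskiLocalAtSource.comp h Q₂.ι
  rw [HasRingHomProperty.iff_of_isAffine (P := P)] at hP ⊢
  have e : c'.appTop ≫ s'.appTop = 𝟙 _ := by
    rw [← Scheme.Hom.comp_appTop, hsc', Scheme.Hom.id_appTop]
  rw [Scheme.Hom.comp_appTop, CommRingCat.hom_comp] at hP
  generalize (O.ι ≫ f).appTop = φ at hP ⊢
  letI := φ.hom.toAlgebra
  letI := (c'.appTop.hom.comp φ.hom).toAlgebra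
  have e' : s'.appTop.hom.comp c'.appTop.hom = RingHom.id _ := congrArg CommRingCat.Hom.hom e
  let σ : Γ(O.toScheme, ⊤) →ₐ[Γ(Y, ⊤)] Γ(Q₂.toScheme, ⊤) :=
    { toRingHom := c'.appTop.hom, commutes' := fun _ => rfl }
  let ρ : Γ(Q₂.toScheme, ⊤) →ₐ[Γ(Y, ⊤)] Γ(O.toScheme, ⊤) :=
    { toRingHom := s'.appTop.hom, commutes' := fun r => RingHom.congr_fun e' (φ.hom r) }
  exact hQ _ _ _ ρ σ (AlgHom.ext fun b => RingHom.congr_fun e' b) hP

section Retract

variable {A B C : Type u} [CommRing A] [CommRing B] [CommRing C] [Algebra A B] [Algebra A C]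
  (ρ : C →ₐ[A] B) (σ : B →ₐ[A] C) (hρσ : ρ.comp σ = AlgHom.id A B)

include hρσ

theorem surjective_of_retract : Function.Surjective ρ := fun b => ⟨σ b, DFunLike.congr_fun hρσ b⟩

theorem finitePresentation_of_retract (h : Algebra.FinitePresentation A C) :
    Algebra.FinitePresentation A B := by
  classical
  refine Algebra.FinitePresentation.of_surjective (surjective_of_retract ρ σ hρσ) ?_
  obtain ⟨t, ht⟩ := (Algebra.FiniteType.out : (⊤ : Subalgebra A C).FG)
  let e : C →ₐ[A] C := σ.comp ρ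
  let J : Ideal C := Ideal.span (↑(t.image fun x => x - e x) : Set C)
  refine ⟨t.image fun x => x - e x, le_antisymm ?_ fun x hx => ?_⟩
  · rw [Ideal.span_le]
    intro y hy
    simp only [Finset.coe_image, Set.mem_image] at hy
    obtain ⟨x, -, rfl⟩ := hy
    have hb : ρ (σ (ρ x)) = ρ x := DFunLike.congr_fun hρσ (ρ x)
    simp [e, hb]
  · have key : ∀ y : C, y - e y ∈ J := fun y => by
      have hy : y ∈ Algebra.adjoin A (t : Set C) := ht ▸ trivial
      induction hy using Algebra.adjoin_induction with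
      | mem z hz => exact Ideal.subset_span (Finset.mem_coe.2 (Finset.mem_image_of_mem _ hz))
      | algebraMap r => simp
      | add z w _ _ hz hw => simpa [add_sub_add_comm] using J.add_mem hz hw
      | mul z w _ _ hz hw =>
        have : z * w - e (z * w) = z * (w - e w) + e w * (z - e z) := by rw [map_mul]; ring
        rw [this]
        exact J.add_mem (J.mul_mem_left _ hw) (J.mul_mem_left _ hz)
    have hx0 : ρ x = 0 := hx
    have := key x
    rwa [show e x = 0 by simp [e, hx0], sub_zero] at this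

end Retract

theorem flat_of_retract {W X Y : Scheme.{u}} (c : W ⟶ X) (s : X ⟶ W) (f : X ⟶ Y)
    (hsc : s ≫ c = 𝟙 X) (h : Flat (c ≫ f)) : Flat f :=
  of_retract_of_ring @Flat (fun A B C _ _ _ _ _ ρ σ e h => by
    rw [RingHom.flat_algebraMap_iff] at h ⊢
    exact Module.Flat.of_retract σ.toLinearMap ρ.toLinearMap
      (LinearMap.ext fun b => DFunLike.congr_fun e b)) c s f hsc h

theorem locallyOfFiniteType_of_retract {W X Y : Scheme.{u}} (c : W ⟶ X) (s : X ⟶ W) (f : X ⟶ Y)
    (hsc : s ≫ c = 𝟙 X) (h : LocallyOfFiniteType (c ≫ f)) : LocallyOfFiniteType f :=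
  of_retract_of_ring @LocallyOfFiniteType (fun A B C _ _ _ _ _ ρ σ e h => by
    rw [RingHom.finiteType_algebraMap] at h ⊢
    exact h.of_surjective ρ (surjective_of_retract ρ σ e)) c s f hsc h

theorem locallyOfFinitePresentation_of_retract {W X Y : Scheme.{u}} (c : W ⟶ X) (s : X ⟶ W)
    (f : X ⟶ Y) (hsc : s ≫ c = 𝟙 X) (h : LocallyOfFinitePresentation (c ≫ f)) :
    LocallyOfFinitePresentation f :=
  of_retract_of_ring @LocallyOfFinitePresentation (fun A B C _ _ _ _ _ ρ σ e h => by
    rw [RingHom.finitePresentation_algebraMap] at h ⊢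
    exact finitePresentation_of_retract ρ σ e h) c s f hsc h

variable {S : Scheme.{u}}

/-- The coverings property `flat and locally of finite presentation`. -/
abbrev flatLfp : MorphismProperty Scheme.{u} := @Flat ⊓ @LocallyOfFinitePresentation

theorem locP_flatLfp {X Y : Sp S} {f : X ⟶ Y} (h₁ : LocP @Flat f)
    (h₂ : LocP @LocallyOfFinitePresentation f) : LocP flatLfp f :=
  locP_inf h₁ h₂

/-- A property descends from a composite with a surjective flat locally finitely presented morphism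
of spaces on the source. -/
theorem locP_of_fppf_comp {P : MorphismProperty Scheme.{u}} [EtaleLocal P] [IsZariskiLocalAtSource P]
    [IsZariskiLocalAtTarget P] [P.DescendsAlong (@Surjective ⊓ @Flat ⊓ @QuasiCompact)]
    (hsrc : ∀ ⦃A B C : Scheme.{u}⦄ (a : A ⟶ B) (b : B ⟶ C), Flat a →
      LocallyOfFinitePresentation a → Surjective a → P (a ≫ b) → P b)
    {X Y B : Sp S} (hX : IsAlgSpace X) (hY : IsAlgSpace Y) (hB : IsAlgSpace B) (f : X ⟶ Y) (q : Y ⟶ B)
    (hs : IsSurjectiveMor f) (hfl : LocP @Flat f) (hfp : LocP @LocallyOfFinitePresentation f)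
    (h : LocP P (f ≫ q)) : LocP P q := by
  have := descendsAlong_inf (P := @Flat.{u}) (P' := @LocallyOfFinitePresentation)
    (Q := @Surjective ⊓ @Flat ⊓ @QuasiCompact)
  have hpre : PrecompEtale P := precompEtale_of_isStableUnderComposition EtaleLocal.etale_le
  exact locP_of_bc (bc_of_comp (K := flatLfp) (fun _ _ _ a b ha hsa hab => hsrc a b ha.1 ha.2 hsa hab)
    hY (fun _ : PUnit.{u + 1} => hX) (g := fun _ => f)
    (fun _ => bc_fppf_of_isFppfCover hY (fun _ : PUnit.{u + 1} => hX) (g := fun _ => f)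
      ⟨fun _ => ⟨hfl, hfp⟩, fun y => ⟨⟨⟩, hs y⟩⟩ ⟨⟩)
    (fun y => ⟨⟨⟩, hs y⟩) fun _ => bc_of_locP hpre EtaleLocal.descends hX hB h)

/-- A property descends from a composite with a surjection of fppf sheaves. -/
theorem locP_of_comp_isLocallySurjective {P : MorphismProperty Scheme.{u}} [EtaleLocal P]
    (hle : ∀ ⦃A B : Scheme.{u}⦄ (a : A ⟶ B), Flat a → LocallyOfFinitePresentation a → P a)
    (hret : ∀ ⦃A B C : Scheme.{u}⦄ (c : A ⟶ B) (s : B ⟶ A) (f : B ⟶ C),
      s ≫ c = 𝟙 B → P (c ≫ f) → P f)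
    (hsrc : ∀ ⦃A B C : Scheme.{u}⦄ (a : A ⟶ B) (b : B ⟶ C), Flat a →
      LocallyOfFinitePresentation a → Surjective a → P (a ≫ b) → P b)
    {X Y Z : Sp S} (hX : IsAlgSpace X) (hY : IsAlgSpace Y) (hZ : IsAlgSpace Z) (g : X ⟶ Y) (h : Y ⟶ Z)
    [Sheaf.IsLocallySurjective g] (hgh : LocP P (g ≫ h)) : LocP P h := by
  obtain ⟨U, V, a, b, k, hae, has, hbe, hbs, w⟩ := exists_chart_square hY hZ h
  refine locP_of_one_chart a b k hae has hbe w ?_
  obtain ⟨W, v, l, hv₁, hv₂, hv₃, hl⟩ := exists_single_cover_lift g a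
  have sqW := IsPullback.of_hasPullback g ((yon S).map v ≫ a)
  have hWa : RepWith flatLfp ((yon S).map v ≫ a) := by
    refine repWith_comp ((repWith_yon_map_iff _ _).2 ⟨hv₁, hv₃⟩)
      (repWith_mono (fun _ _ e (he : Etale e) => ?_) hae)
    exact ⟨inferInstance, inferInstance⟩
  obtain ⟨A, r, hre, hrs⟩ := (isAlgSpace_pullback hY hX (IsAlgSpace.yon_obj W) sqW).atlas
  obtain ⟨c, hc⟩ := (yon S).map_surjective (r ≫ pullback.snd g ((yon S).map v ≫ a))
  let σ := sqW.lift l (𝟙 _) (by rw [hl, Category.id_comp])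
  obtain ⟨W', j, s, sqσ⟩ := hre.1 σ
  obtain ⟨s, rfl⟩ := (yon S).map_surjective s
  have hje : Etale j.left := hre.2 σ _ _ sqσ
  have hjs : Surjective j.left := hrs.2 σ _ _ sqσ
  have hsj : s ≫ c = j := (yon S).map_injective (by
    rw [Functor.map_comp, hc, reassoc_of% sqσ.w, sqW.lift_snd, Category.comp_id])
  have hPA : P (c ≫ v ≫ k).left := by
    have hr : LocP P (r ≫ pullback.fst g ((yon S).map v ≫ a)) := locP_of_repWith hX
      (repWith_mono (fun _ _ e he => hle e he.1 he.2)
        (repWith_comp (repWith_mono (fun _ _ e (he : Etale e) => ⟨inferInstance, inferInstance⟩) hre)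
          (repWith_of_isPullback sqW.flip hWa)))
    refine locP_comp (IsAlgSpace.yon_obj A) hX hZ hr hgh (𝟙 _) b (c ≫ v ≫ k) (repWith_id _ A) hbe ?_
    rw [Category.id_comp]
    simp only [Functor.map_comp, Category.assoc]
    rw [← w, hc]
    simp only [Category.assoc]
    rw [sqW.w_assoc]
    simp only [Category.assoc]
  have sqA := (IsPullback.of_hasPullback c j).map (Over.forget S)
  have he : Etale (pullback.fst c j).left := MorphismProperty.of_isPullback (P := @Etale) sqA.flip hje
  have hP' : P (pullback.fst c j ≫ c ≫ v ≫ k).left := by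
    rw [Over.comp_left]; exact EtaleLocal.etale_comp P he hPA
  have hret' : P (j ≫ v ≫ k).left := by
    refine hret (pullback.snd c j).left (pullback.lift s (𝟙 _) (by rw [hsj, Category.id_comp])).left
      _ ?_ ?_
    · rw [← Over.comp_left, pullback.lift_snd]; rfl
    · rw [← Over.comp_left, ← Category.assoc, ← pullback.condition, Category.assoc]
      exact hP'
  rw [← Category.assoc, Over.comp_left] at hret'
  refine hsrc _ _ ?_ ?_ ?_ hret' <;> (rw [Over.comp_left]; infer_instance)

/-- Regularity of schemes goes up along étale maps. -/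
theorem regular_up {A B : Scheme.{u}} (f : A ⟶ B) (hf : Etale f)
    (h : IsLocallyNoetherian B ∧ ∀ b : B, IsRegularLocalRing (B.presheaf.stalk b)) :
    IsLocallyNoetherian A ∧ ∀ a : A, IsRegularLocalRing (A.presheaf.stalk a) := by
  have := h.1
  exact ⟨LocallyOfFiniteType.isLocallyNoetherian f, fun a => WeilExt.isRegularLocalRing_of_smooth f h.2 a⟩

/-- Regularity of schemes descends along flat surjections locally of finite presentation. -/
theorem regular_down {A B : Scheme.{u}} (f : A ⟶ B) (hf : Flat f)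
    (hfp : LocallyOfFinitePresentation f) (hs : Surjective f)
    (h : IsLocallyNoetherian A ∧ ∀ a : A, IsRegularLocalRing (A.presheaf.stalk a)) :
    IsLocallyNoetherian B ∧ ∀ b : B, IsRegularLocalRing (B.presheaf.stalk b) := by
  have := h.1
  have hB := isLocallyNoetherian_of_fppf f
  refine ⟨hB, fun b => ?_⟩
  obtain ⟨a, rfl⟩ := f.surjective b
  have := h.2 a
  algebraize [(f.stalkMap a).hom]
  have : Module.Flat (B.presheaf.stalk (f a)) (A.presheaf.stalk a) := Flat.stalkMap f a
  have : IsLocalHom (algebraMap (B.presheaf.stalk (f a)) (A.presheaf.stalk a)) :=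
    inferInstanceAs (IsLocalHom (f.stalkMap a).hom)
  exact RegLoc.isRegularLocalRing_of_flat (B.presheaf.stalk (f a)) (A.presheaf.stalk a)

theorem etaleLocally_regular_of_fppf_surjective {X Y : Sp S} (hX : IsAlgSpace X) (hY : IsAlgSpace Y)
    {f : X ⟶ Y} (hfp : LocP @LocallyOfFinitePresentation f) (hfl : LocP @Flat f)
    (hs : IsSurjectiveMor f)
    (hP : EtaleLocally (fun U => IsLocallyNoetherian U ∧
      ∀ u : ↥U, IsRegularLocalRing ↥(U.presheaf.stalk u)) X) :
    EtaleLocally (fun U => IsLocallyNoetherian U ∧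
      ∀ u : ↥U, IsRegularLocalRing ↥(U.presheaf.stalk u)) Y :=
  etaleLocally_of_surjective (K := flatLfp) (fun _ _ e he h => regular_up e he h)
    (fun _ _ e (_ : Etale e) hse h => regular_down e inferInstance inferInstance hse h)
    (fun _ _ e he hse h => regular_down e he.1 he.2 hse h) hX hY (locP_flatLfp hfl hfp) hs hP

theorem isLocalOnSource_fppf_lfp :
    IsLocalOnSource (IsFppfCover (S := S)) (LocP @LocallyOfFinitePresentation) := by
  have := descendsAlong_inf (P := @Flat.{u}) (P' := @LocallyOfFinitePresentation)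
    (Q := @Surjective ⊓ @Flat ⊓ @QuasiCompact)
  have := isZariskiLocalAtSource_inf (P := @Flat.{u}) (P' := @LocallyOfFinitePresentation)
  exact isLocalOnSource_locP (K := flatLfp) precompEtale_lfp
    descendsEtaleSource_locallyOfFinitePresentation (precompEtale_inf precompEtale_flat precompEtale_lfp)
    (descendsEtaleSource_inf descendsEtaleSource_flat descendsEtaleSource_locallyOfFinitePresentation)
    (fun _ _ _ a b ha hb => have := ha.2; have := hb; inferInstance)
    (fun _ _ _ a b ha hs h => have := ha.1; have := ha.2; have := h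
      FppfSource.locallyOfFinitePresentation_of_fppf_comp a b)
    fun _ _ _ g _ _ hg => ⟨fun i => locP_flatLfp (hg.1 i).1 (hg.1 i).2, hg.2⟩

theorem isLocalOnSource_fppf_lft :
    IsLocalOnSource (IsFppfCover (S := S)) (LocP @LocallyOfFiniteType) := by
  have := descendsAlong_inf (P := @Flat.{u}) (P' := @LocallyOfFinitePresentation)
    (Q := @Surjective ⊓ @Flat ⊓ @QuasiCompact)
  have := isZariskiLocalAtSource_inf (P := @Flat.{u}) (P' := @LocallyOfFinitePresentation)
  exact isLocalOnSource_locP (K := flatLfp) precompEtale_lft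
    descendsEtaleSource_locallyOfFiniteType (precompEtale_inf precompEtale_flat precompEtale_lfp)
    (descendsEtaleSource_inf descendsEtaleSource_flat descendsEtaleSource_locallyOfFinitePresentation)
    (fun _ _ _ a b ha hb => have := ha.2; have := hb; inferInstance)
    (fun _ _ _ a b ha hs h => locallyOfFiniteType_of_fppf_comp a b ha.1 ha.2 hs h)
    fun _ _ _ g _ _ hg => ⟨fun i => locP_flatLfp (hg.1 i).1 (hg.1 i).2, hg.2⟩

end Groth.Agent.AlgSpDescent
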