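import Mathlib.RingTheory.Flat.EquationalCriterion
import Mathlib.RingTheory.Idempotents
import Mathlib.RingTheory.Nakayama
import Mathlib.RingTheory.RingHom.Finite
import Mathlib.RingTheory.RingHom.Flat
import Mathlib.RingTheory.RingHom.FinitePresentation
import Mathlib.RingTheory.FinitePresentation
import Mathlib.Algebra.Module.FinitePresentation
import Mathlib.Algebra.Module.Torsion.Basic
import Mathlib.RingTheory.Finiteness.ModuleFinitePresentation

/-!
# Deformations along nilpotent ideals of flat modules and algebras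
-/

universe u

namespace Groth.Agent.AlgSpDescent

section Module

variable {A C : Type u} [CommRing A] [CommRing C] [Algebra A C]
  {P M : Type u} [AddCommGroup P] [AddCommGroup M] [Module C P] [Module C M] [Module A P]
  [Module A M] [IsScalarTower A C P] [IsScalarTower A C M] (J : Ideal A)

theorem mem_smul_of_mem_map_smul {x : P}
    (hx : x ∈ J.map (algebraMap A C) • (⊤ : Submodule C P)) : x ∈ J • (⊤ : Submodule A P) := by
  refine Submodule.smul_induction_on hx (fun c hc y _ => ?_) fun a b ha hb => add_mem ha hb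
  refine Submodule.span_induction (p := fun c _ => ∀ y : P, c • y ∈ J • (⊤ : Submodule A P))
    ?_ ?_ ?_ ?_ hc y
  · rintro _ ⟨j, hj, rfl⟩ y
    rw [algebraMap_smul]
    exact Submodule.smul_mem_smul hj trivial
  · exact fun y => by rw [zero_smul]; exact zero_mem _
  · exact fun a b _ _ ha hb y => by rw [add_smul]; exact add_mem (ha y) (hb y)
  · exact fun r a _ ha y => by rw [smul_eq_mul, mul_comm, mul_smul]; exact ha _

/-- A surjection onto a flat module with kernel inside `J P` has kernel `J` times itself. -/
theorem ker_le_smul_of_flat [Module.Flat A M] (π : P →ₗ[C] M) (hπ : Function.Surjective π)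
    (hker : LinearMap.ker π ≤ J.map (algebraMap A C) • ⊤) :
    LinearMap.ker π ≤ J.map (algebraMap A C) • LinearMap.ker π := by
  intro x hx
  have hx' : x ∈ J • Submodule.span A (Set.range (id : P → P)) := by
    rw [Set.range_id, Submodule.span_univ]
    exact mem_smul_of_mem_map_smul J (hker hx)
  obtain ⟨a, ha, hsum⟩ := (Submodule.mem_ideal_smul_span_iff_exists_sum J (id : P → P) x).1 hx'
  have hrel : ∑ k : a.support, a k • π k = 0 := by
    have : π (∑ k : a.support, a k • (k : P)) = 0 := by
      rw [Finset.univ_eq_attach, Finset.sum_attach a.support (fun k => a k • k)]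
      change π (a.sum fun i c => c • id i) = 0
      rw [hsum]
      exact hx
    simpa only [map_sum, LinearMap.map_smul_of_tower] using this
  obtain ⟨r, b, y, hy, hb⟩ := Module.Flat.isTrivialRelation_of_sum_smul_eq_zero hrel
  choose z hz using fun i => hπ (y i)
  have hexp : x = ∑ k : a.support, a k • ((k : P) - ∑ i, b k i • z i) := by
    simp only [smul_sub, Finset.sum_sub_distrib, Finset.smul_sum, smul_smul]
    rw [Finset.sum_comm (f := fun (k : a.support) i => (a k * b k i) • z i)]
    simp only [← Finset.sum_smul, hb, zero_smul, Finset.sum_const_zero, sub_zero]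
    rw [Finset.univ_eq_attach, Finset.sum_attach a.support (fun k => a k • k)]
    exact hsum.symm
  rw [hexp]
  refine Submodule.sum_mem _ fun k _ => ?_
  rw [← algebraMap_smul C (a k)]
  refine Submodule.smul_mem_smul (Ideal.mem_map_of_mem _ (ha _)) ?_
  rw [LinearMap.mem_ker, map_sub, show π k = ∑ i, b k i • y i from hy k, map_sum]
  simp only [LinearMap.map_smul_of_tower, hz, sub_self]

variable {J} {m : ℕ}

theorem eq_bot_of_le_smul {I : Ideal C} (hm : I ^ m = ⊥) {N : Submodule C P} (h : N ≤ I • N) :
    N = ⊥ := by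
  have : ∀ k : ℕ, N ≤ I ^ k • N := by
    intro k
    induction k with
    | zero => simp
    | succ k ih =>
      refine ih.trans ?_
      rw [pow_succ, Submodule.mul_smul]
      exact smul_mono_right _ h
  simpa [hm] using this m

theorem surjective_of_smul {I : Ideal C} (hm : I ^ m = ⊥) (π : P →ₗ[C] M)
    (h : ⊤ ≤ LinearMap.range π ⊔ I • ⊤) : Function.Surjective π := by
  have : ∀ k : ℕ, (⊤ : Submodule C M) ≤ LinearMap.range π ⊔ I ^ k • ⊤ := by
    intro k
    induction k with
    | zero => simp
    | succ k ih =>
      refine ih.trans (sup_le le_sup_left ?_)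
      refine (smul_mono_right _ h).trans ?_
      rw [Submodule.smul_sup, pow_succ, Submodule.mul_smul]
      exact sup_le (le_sup_of_le_left Submodule.smul_le_right) le_sup_right
  intro x
  have := this m (show x ∈ (⊤ : Submodule C M) from trivial)
  rw [hm, Submodule.bot_smul, sup_bot_eq] at this
  exact this

/-- A linear map to a flat module which is bijective modulo a nilpotent ideal is bijective. -/
theorem bijective_of_flat [Module.Flat A M] (hm : J.map (algebraMap A C) ^ m = ⊥) (π : P →ₗ[C] M)
    (hs : ⊤ ≤ LinearMap.range π ⊔ J.map (algebraMap A C) • ⊤)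
    (hi : LinearMap.ker π ≤ J.map (algebraMap A C) • ⊤) : Function.Bijective π := by
  have hsurj := surjective_of_smul hm π hs
  exact ⟨LinearMap.ker_eq_bot.1 (eq_bot_of_le_smul hm (ker_le_smul_of_flat J π hsurj hi)), hsurj⟩

/-- Lifting of finite projective modules, abstractly. -/
theorem projective_of_lift [Module.Finite C M] (I : Ideal C)
    (hnil : ∀ (n : ℕ) (g : Module.End C (Fin n → C)),
      (∀ z, g z ∈ I • (⊤ : Submodule C (Fin n → C))) → IsNilpotent g)
    (hb : ∀ (Q : Type u) [AddCommGroup Q] [Module C Q] [Module.Finite C Q] [Module.Projective C Q]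
      (π : Q →ₗ[C] M), ⊤ ≤ LinearMap.range π ⊔ I • ⊤ → LinearMap.ker π ≤ I • ⊤ → Function.Bijective π)
    [Module.Projective (C ⧸ I) (M ⧸ (I • ⊤ : Submodule C M))] : Module.Projective C M := by
  obtain ⟨n, σ, hσ⟩ := Module.Finite.exists_fin' C M
  let N : Submodule C (Fin n → C) := I • ⊤
  let N' : Submodule C M := I • ⊤
  have hN : N ≤ N'.comap σ := by
    refine Submodule.map_le_iff_le_comap.1 ?_
    rw [Submodule.map_smul'']
    exact smul_mono_right _ le_top
  let σb : ((Fin n → C) ⧸ N) →ₗ[C] M ⧸ N' := N.mapQ N' σ hN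
  have hσb : Function.Surjective σb := fun y => by
    obtain ⟨y, rfl⟩ := Submodule.Quotient.mk_surjective N' y
    obtain ⟨x, rfl⟩ := hσ y
    exact ⟨Submodule.Quotient.mk x, rfl⟩
  obtain ⟨s, hs⟩ := Module.projective_lifting_property
    (σb.extendScalarsOfSurjective (Ideal.Quotient.mk_surjective (I := I)))
    (LinearMap.id : (M ⧸ N') →ₗ[C ⧸ I] M ⧸ N') hσb
  have hs' : ∀ y, σb (s y) = y := fun y => LinearMap.congr_fun hs y
  let eb : Module.End C ((Fin n → C) ⧸ N) := (s.restrictScalars C).comp σb
  have heb : IsIdempotentElem eb := LinearMap.ext fun y => congrArg s (hs' (σb y))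
  have hend : ∀ g : Module.End C (Fin n → C), N ≤ N.comap g := fun g => by
    refine Submodule.map_le_iff_le_comap.1 ?_
    rw [Submodule.map_smul'']
    exact smul_mono_right _ le_top
  let q : Module.End C (Fin n → C) →+* Module.End C ((Fin n → C) ⧸ N) :=
    { toFun := fun g => N.mapQ N g (hend g)
      map_one' := Submodule.linearMap_qext _ (LinearMap.ext fun _ => rfl)
      map_mul' := fun g g' => Submodule.linearMap_qext _ (LinearMap.ext fun _ => rfl)
      map_zero' := Submodule.linearMap_qext _ (LinearMap.ext fun _ => rfl)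
      map_add' := fun g g' => Submodule.linearMap_qext _ (LinearMap.ext fun _ => rfl) }
  have hq : ∀ g z, q g (Submodule.Quotient.mk z) = Submodule.Quotient.mk (g z) := fun g z => rfl
  have hnil' : ∀ g ∈ RingHom.ker q, IsNilpotent g := by
    intro g hg
    have hgI : ∀ z, g z ∈ N := fun z => by
      rw [← Submodule.Quotient.mk_eq_zero, ← hq, show q g = 0 from RingHom.mem_ker.1 hg]
      rfl
    exact hnil n g hgI
  obtain ⟨e₀, he₀⟩ := Module.projective_lifting_property N.mkQ (eb.comp N.mkQ) N.mkQ_surjective
  obtain ⟨e, he, hqe⟩ := exists_isIdempotentElem_eq_of_ker_isNilpotent q hnil' eb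
    ⟨e₀, Submodule.linearMap_qext _ he₀⟩ heb
  have hee : ∀ z, e (e z) = e z := fun z => LinearMap.congr_fun he z
  let Q := LinearMap.range e
  let π : Q →ₗ[C] M := σ.comp Q.subtype
  have hqe' : ∀ z, N.mkQ (e z) = s (σb (N.mkQ z)) := fun z => by
    rw [Submodule.mkQ_apply, ← hq e z, hqe]
    rfl
  have : Module.Projective C Q := Module.Projective.of_split Q.subtype e.rangeRestrict
    (LinearMap.ext fun ⟨w, v, hv⟩ => Subtype.ext (by
      change e w = w
      rw [← hv, hee]))
  have : Module.Finite C Q := Module.Finite.range e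
  have hbij : Function.Bijective π := by
    refine hb Q π (fun y _ => ?_) fun y hy => ?_
    · obtain ⟨z, hz⟩ := hσ y
      have h₁ : N'.mkQ (σ (e z)) = N'.mkQ y := by
        rw [show N'.mkQ (σ (e z)) = σb (N.mkQ (e z)) from rfl, hqe', hs', ← hz]
        rfl
      refine Submodule.mem_sup.2 ⟨σ (e z), ⟨⟨e z, ⟨z, rfl⟩⟩, rfl⟩, y - σ (e z), ?_, by simp⟩
      exact (Submodule.Quotient.eq N').1 h₁.symm
    · obtain ⟨z, hz⟩ := y.2
      have hy' : σ (e z) = 0 := by rw [hz]; exact hy
      have h₁ : N.mkQ (e z) = 0 := by
        have h₂ := hqe' z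
        have h₃ : σb (N.mkQ (e z)) = 0 := by
          rw [show σb (N.mkQ (e z)) = N'.mkQ (σ (e z)) from rfl, hy', map_zero]
        rw [h₂, hs'] at h₃
        rw [h₂, h₃, map_zero]
      have hmem : e z ∈ N := (Submodule.Quotient.mk_eq_zero N).1 h₁
      have hy₂ : y = e.rangeRestrict (e z) := Subtype.ext (by rw [← hz]; exact (hee z).symm)
      rw [hy₂]
      have hle : N.map e.rangeRestrict ≤ I • (⊤ : Submodule C Q) := by
        rw [Submodule.map_smul'']
        exact smul_mono_right _ le_top
      exact hle ⟨_, hmem, rfl⟩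
  exact Module.Projective.of_equiv (LinearEquiv.ofBijective π hbij)

/-- A finite module flat over the base which is projective modulo a nilpotent ideal is projective. -/
theorem projective_of_flat [Module.Flat A M] [Module.Finite C M]
    (hm : J.map (algebraMap A C) ^ m = ⊥)
    [Module.Projective (C ⧸ J.map (algebraMap A C))
      (M ⧸ (J.map (algebraMap A C) • ⊤ : Submodule C M))] : Module.Projective C M := by
  refine projective_of_lift (J.map (algebraMap A C)) (fun n g hgI => ?_) fun Q _ _ _ _ π hs hk => ?_
  · let I := J.map (algebraMap A C)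
    have hk : ∀ k z, (g ^ k) z ∈ I ^ k • (⊤ : Submodule C (Fin n → C)) := by
      intro k
      induction k with
      | zero => intro z; rw [pow_zero I, Ideal.one_eq_top, Submodule.top_smul]; trivial
      | succ k ih =>
        intro z
        rw [pow_succ' g, Module.End.mul_apply]
        have hle : (I ^ k • (⊤ : Submodule C (Fin n → C))).map g ≤ I ^ (k + 1) • ⊤ := by
          rw [Submodule.map_smul'', pow_succ, Submodule.mul_smul]
          exact smul_mono_right _ fun w ⟨v, _, hv⟩ => hv ▸ hgI v
        exact hle ⟨_, ih z, rfl⟩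
    exact ⟨m, LinearMap.ext fun z => by simpa [show I ^ m = ⊥ from hm] using hk m z⟩
  · letI : Module A Q := Module.compHom Q (algebraMap A C)
    have : IsScalarTower A C Q := IsScalarTower.of_algebraMap_smul fun _ _ => rfl
    exact bijective_of_flat hm π hs hk

/-- A linear map between finite modules to a flat module, bijective modulo an ideal of nilpotent
elements, is bijective when its kernel is finitely generated. -/
theorem bijective_of_flat_nil [Module.Flat A M] [Module.Finite C M]
    (hJ : J.map (algebraMap A C) ≤ nilradical C) (π : P →ₗ[C] M)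
    (hfg : Function.Surjective π → (LinearMap.ker π).FG)
    (hs : ⊤ ≤ LinearMap.range π ⊔ J.map (algebraMap A C) • ⊤)
    (hi : LinearMap.ker π ≤ J.map (algebraMap A C) • ⊤) : Function.Bijective π := by
  have hjac : J.map (algebraMap A C) ≤ Ideal.jacobson ⊥ := fun x hx => Ideal.mem_sInf.2 fun {I} hI => by
    have := hI.2.isPrime
    exact nilradical_le_prime I (hJ hx)
  have hsurj : Function.Surjective π := LinearMap.range_eq_top.1
    (top_le_iff.1 (Submodule.le_of_le_smul_of_le_jacobson_bot Module.Finite.fg_top hjac hs))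
  exact ⟨LinearMap.ker_eq_bot.1 (Submodule.eq_bot_of_le_smul_of_le_jacobson_bot _ _ (hfg hsurj)
    (ker_le_smul_of_flat J π hsurj hi) hjac), hsurj⟩

/-- A finitely presented module flat over the base which is projective modulo an ideal of nilpotent
elements is projective. -/
theorem projective_of_flat_nil [Module.Flat A M] [Module.FinitePresentation C M]
    (hJ : J.map (algebraMap A C) ≤ nilradical C)
    [Module.Projective (C ⧸ J.map (algebraMap A C))
      (M ⧸ (J.map (algebraMap A C) • ⊤ : Submodule C M))] : Module.Projective C M := by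
  classical
  refine projective_of_lift (J.map (algebraMap A C)) (fun n g hgI => ?_) fun Q _ _ _ _ π hs hk => ?_
  · let s : Finset C := Finset.univ.image fun p : Fin n × Fin n => g (Pi.single p.1 1) p.2
    let I₀ := Ideal.span (s : Set C)
    have hI₀ : I₀ ≤ nilradical C := by
      refine Ideal.span_le.2 fun c hc => ?_
      obtain ⟨p, -, rfl⟩ := Finset.mem_image.1 hc
      refine hJ ?_
      have hle : J.map (algebraMap A C) • (⊤ : Submodule C (Fin n → C)) ≤
          Submodule.comap (LinearMap.proj p.2) (J.map (algebraMap A C)) := by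
        refine Submodule.smul_le.2 fun a ha x _ => ?_
        exact Ideal.mul_mem_right _ _ ha
      exact hle (hgI _)
    obtain ⟨k, hk⟩ : IsNilpotent I₀ := by
      obtain ⟨k, hk⟩ := Ideal.exists_pow_le_of_le_radical_of_fg (hI₀ : I₀ ≤ (⊥ : Ideal C).radical)
        ⟨s, rfl⟩
      exact ⟨k, le_bot_iff.1 hk⟩
    have hg₀ : ∀ z, g z ∈ I₀ • (⊤ : Submodule C (Fin n → C)) := by
      intro z
      rw [show g z = ∑ i, z i • g (Pi.single i 1) from by
        conv_lhs => rw [pi_eq_sum_univ z]
        simp only [map_sum, LinearMap.map_smul]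
        exact Finset.sum_congr rfl fun i _ => by congr 2; ext j; simp [Pi.single_apply, eq_comm]]
      refine Submodule.sum_mem _ fun i _ => Submodule.smul_mem _ _ ?_
      rw [show g (Pi.single i 1) = ∑ j, g (Pi.single i 1) j • (Pi.single j 1 : Fin n → C) from
        pi_eq_sum_univ' _]
      refine Submodule.sum_mem _ fun j _ => Submodule.smul_mem_smul ?_ trivial
      exact Ideal.subset_span (Finset.mem_image.2 ⟨(i, j), Finset.mem_univ _, rfl⟩)
    have hpow : ∀ l z, (g ^ l) z ∈ I₀ ^ l • (⊤ : Submodule C (Fin n → C)) := by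
      intro l
      induction l with
      | zero => intro z; rw [pow_zero I₀, Ideal.one_eq_top, Submodule.top_smul]; trivial
      | succ l ih =>
        intro z
        rw [pow_succ' g, Module.End.mul_apply]
        have hle : (I₀ ^ l • (⊤ : Submodule C (Fin n → C))).map g ≤ I₀ ^ (l + 1) • ⊤ := by
          rw [Submodule.map_smul'', pow_succ, Submodule.mul_smul]
          exact smul_mono_right _ fun w ⟨v, _, hv⟩ => hv ▸ hg₀ v
        exact hle ⟨_, ih z, rfl⟩
    exact ⟨k, LinearMap.ext fun z => by simpa [show I₀ ^ k = ⊥ from hk] using hpow k z⟩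
  · letI : Module A Q := Module.compHom Q (algebraMap A C)
    have : IsScalarTower A C Q := IsScalarTower.of_algebraMap_smul fun _ _ => rfl
    exact bijective_of_flat_nil hJ π (fun hsurj => Module.FinitePresentation.fg_ker π hsurj) hs hk

end Module

section Hom

variable {A C D : Type u} [CommRing A] [CommRing C] [CommRing D] {J : Ideal A} {m : ℕ} (φ : A →+* C) (ψ : C →+* D)

/-- A map to a flat algebra which is bijective modulo a nilpotent ideal is bijective. -/
theorem ringHom_bijective_of_flat (hflat : (ψ.comp φ).Flat) (hm : J.map φ ^ m = ⊥)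
    (h : Function.Bijective (Ideal.quotientMap ((J.map φ).map ψ) ψ Ideal.le_comap_map)) :
    Function.Bijective ψ := by
  letI := φ.toAlgebra
  letI := ψ.toAlgebra
  letI := (ψ.comp φ).toAlgebra
  have : IsScalarTower A C D := IsScalarTower.of_algebraMap_eq' rfl
  have : Module.Flat A D := hflat
  refine bijective_of_flat (A := A) hm (Algebra.linearMap C D) (fun d _ => ?_) fun c hc => ?_
  · obtain ⟨c, hc⟩ := h.2 (Ideal.Quotient.mk _ d)
    obtain ⟨c, rfl⟩ := Ideal.Quotient.mk_surjective c
    rw [Ideal.quotientMap_mk, Ideal.Quotient.eq] at hc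
    refine Submodule.mem_sup.2 ⟨ψ c, ⟨c, rfl⟩, d - ψ c, ?_, add_sub_cancel _ _⟩
    rw [Ideal.smul_top_eq_map]
    have := neg_mem hc
    rwa [neg_sub] at this
  · have : Ideal.quotientMap ((J.map φ).map ψ) ψ Ideal.le_comap_map (Ideal.Quotient.mk _ c) = 0 := by
      rw [Ideal.quotientMap_mk, show ψ c = 0 from hc, map_zero]
    have := h.1 (this.trans (map_zero _).symm)
    rw [smul_eq_mul, Ideal.mul_top]
    exact Ideal.Quotient.eq_zero_iff_mem.1 this

/-- A finite algebra flat over the base which is finite locally free modulo a nilpotent ideal is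
finite locally free. -/
theorem ringHom_flat_fp_of_flat (hflat : (ψ.comp φ).Flat) (hm : J.map φ ^ m = ⊥) (hfin : ψ.Finite)
    (h₁ : (Ideal.quotientMap ((J.map φ).map ψ) ψ Ideal.le_comap_map).Flat)
    (h₂ : (Ideal.quotientMap ((J.map φ).map ψ) ψ Ideal.le_comap_map).FinitePresentation) :
    ψ.Flat ∧ ψ.FinitePresentation := by
  letI := φ.toAlgebra
  letI := ψ.toAlgebra
  letI := (ψ.comp φ).toAlgebra
  have : IsScalarTower A C D := IsScalarTower.of_algebraMap_eq' rfl
  have : Module.Flat A D := hflat
  have : Module.Finite C D := hfin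
  let I := J.map (algebraMap A C)
  let ψb := Ideal.quotientMap ((J.map φ).map ψ) ψ Ideal.le_comap_map
  letI := ψb.toAlgebra
  have : Algebra.FinitePresentation (C ⧸ I) (D ⧸ I.map ψ) := h₂
  have : Module.Flat (C ⧸ I) (D ⧸ I.map ψ) := h₁
  have : IsScalarTower C (C ⧸ I) (D ⧸ I.map ψ) := IsScalarTower.of_algebraMap_eq fun c => rfl
  have : Module.Finite C (D ⧸ I.map ψ) :=
    Module.Finite.of_surjective ((Ideal.Quotient.mkₐ C (I.map ψ)).toLinearMap)
      Ideal.Quotient.mk_surjective
  have : Module.Finite (C ⧸ I) (D ⧸ I.map ψ) := Module.Finite.of_restrictScalars_finite C _ _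
  have : Module.FinitePresentation (C ⧸ I) (D ⧸ I.map ψ) :=
    Module.FinitePresentation.of_finite_of_finitePresentation _ _
  have : Module.Projective (C ⧸ I) (D ⧸ I.map ψ) := Module.Flat.projective_of_finitePresentation
  let E : (D ⧸ I.map ψ) ≃ₗ[C] D ⧸ (I • ⊤ : Submodule C D) :=
    (Submodule.Quotient.restrictScalarsEquiv C (I.map ψ)).symm.trans
      (Submodule.quotEquivOfEq _ _ (Ideal.smul_top_eq_map I).symm)
  have : Module.Projective (C ⧸ I) (D ⧸ (I • ⊤ : Submodule C D)) :=
    Module.Projective.of_equiv (E.extendScalarsOfSurjective Ideal.Quotient.mk_surjective)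
  have : Module.Projective C D := projective_of_flat (A := A) hm
  have : Module.FinitePresentation C D := Module.finitePresentation_of_projective C D
  exact ⟨RingHom.flat_algebraMap_iff.2 inferInstance,
    RingHom.finitePresentation_algebraMap.2 (Algebra.FinitePresentation.of_finitePresentation C D)⟩

/-- A map of finitely presented algebras onto a flat one, bijective modulo an ideal of nilpotent
elements, is bijective. -/
theorem ringHom_bijective_of_flat_nil (hflat : (ψ.comp φ).Flat) (hJ : J.map φ ≤ nilradical C)
    (hft : φ.FiniteType) (hfp : (ψ.comp φ).FinitePresentation) (hfin : ψ.Finite)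
    (h : Function.Bijective (Ideal.quotientMap ((J.map φ).map ψ) ψ Ideal.le_comap_map)) :
    Function.Bijective ψ := by
  letI := φ.toAlgebra
  letI := ψ.toAlgebra
  letI := (ψ.comp φ).toAlgebra
  have : IsScalarTower A C D := IsScalarTower.of_algebraMap_eq' rfl
  have : Module.Flat A D := hflat
  have : Module.Finite C D := hfin
  have : Algebra.FinitePresentation C D := RingHom.FinitePresentation.of_comp_finiteType φ hfp hft
  refine bijective_of_flat_nil (A := A) hJ (Algebra.linearMap C D)
    (fun hsurj => Algebra.FinitePresentation.ker_fG_of_surjective (Algebra.ofId C D) hsurj)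
    (fun d _ => ?_) fun c hc => ?_
  · obtain ⟨c, hc⟩ := h.2 (Ideal.Quotient.mk _ d)
    obtain ⟨c, rfl⟩ := Ideal.Quotient.mk_surjective c
    rw [Ideal.quotientMap_mk, Ideal.Quotient.eq] at hc
    refine Submodule.mem_sup.2 ⟨ψ c, ⟨c, rfl⟩, d - ψ c, ?_, add_sub_cancel _ _⟩
    rw [Ideal.smul_top_eq_map]
    have := neg_mem hc
    rwa [neg_sub] at this
  · have : Ideal.quotientMap ((J.map φ).map ψ) ψ Ideal.le_comap_map (Ideal.Quotient.mk _ c) = 0 := by
      rw [Ideal.quotientMap_mk, show ψ c = 0 from hc, map_zero]
    have := h.1 (this.trans (map_zero _).symm)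
    rw [smul_eq_mul, Ideal.mul_top]
    exact Ideal.Quotient.eq_zero_iff_mem.1 this

/-- A finite algebra, finitely presented and flat over the base, which is finite locally free modulo
an ideal of nilpotent elements is finite locally free. -/
theorem ringHom_flat_fp_of_flat_nil (hflat : (ψ.comp φ).Flat) (hJ : J.map φ ≤ nilradical C)
    (hft : φ.FiniteType) (hfp : (ψ.comp φ).FinitePresentation) (hfin : ψ.Finite)
    (h₁ : (Ideal.quotientMap ((J.map φ).map ψ) ψ Ideal.le_comap_map).Flat)
    (h₂ : (Ideal.quotientMap ((J.map φ).map ψ) ψ Ideal.le_comap_map).FinitePresentation) :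
    ψ.Flat ∧ ψ.FinitePresentation := by
  letI := φ.toAlgebra
  letI := ψ.toAlgebra
  letI := (ψ.comp φ).toAlgebra
  have : IsScalarTower A C D := IsScalarTower.of_algebraMap_eq' rfl
  have : Module.Flat A D := hflat
  have : Module.Finite C D := hfin
  let I := J.map (algebraMap A C)
  let ψb := Ideal.quotientMap ((J.map φ).map ψ) ψ Ideal.le_comap_map
  letI := ψb.toAlgebra
  have : Algebra.FinitePresentation (C ⧸ I) (D ⧸ I.map ψ) := h₂
  have : Module.Flat (C ⧸ I) (D ⧸ I.map ψ) := h₁
  have : IsScalarTower C (C ⧸ I) (D ⧸ I.map ψ) := IsScalarTower.of_algebraMap_eq fun c => rfl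
  have : Module.Finite C (D ⧸ I.map ψ) :=
    Module.Finite.of_surjective ((Ideal.Quotient.mkₐ C (I.map ψ)).toLinearMap)
      Ideal.Quotient.mk_surjective
  have : Module.Finite (C ⧸ I) (D ⧸ I.map ψ) := Module.Finite.of_restrictScalars_finite C _ _
  have : Module.FinitePresentation (C ⧸ I) (D ⧸ I.map ψ) :=
    Module.FinitePresentation.of_finite_of_finitePresentation _ _
  have : Module.Projective (C ⧸ I) (D ⧸ I.map ψ) := Module.Flat.projective_of_finitePresentation
  let E : (D ⧸ I.map ψ) ≃ₗ[C] D ⧸ (I • ⊤ : Submodule C D) :=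
    (Submodule.Quotient.restrictScalarsEquiv C (I.map ψ)).symm.trans
      (Submodule.quotEquivOfEq _ _ (Ideal.smul_top_eq_map I).symm)
  have : Module.Projective (C ⧸ I) (D ⧸ (I • ⊤ : Submodule C D)) :=
    Module.Projective.of_equiv (E.extendScalarsOfSurjective Ideal.Quotient.mk_surjective)
  have : Algebra.FinitePresentation C D := RingHom.FinitePresentation.of_comp_finiteType φ hfp hft
  have : Module.FinitePresentation C D := Module.FinitePresentation.of_finite_of_finitePresentation _ _
  have : Module.Projective C D := projective_of_flat_nil (A := A) hJ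
  exact ⟨RingHom.flat_algebraMap_iff.2 inferInstance,
    RingHom.finitePresentation_algebraMap.2 (Algebra.FinitePresentation.of_finitePresentation C D)⟩

end Hom

end Groth.Agent.AlgSpDescent
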