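import Mathlib.RingTheory.RingHom.QuasiFinite
import Mathlib.RingTheory.RingHom.Unramified
import Mathlib.RingTheory.RingHom.FiniteType
import Mathlib.RingTheory.Kaehler.Basic

/-!
# Properties of ring maps which can be checked modulo a nilpotent ideal
-/

universe u

namespace Groth.Agent.AlgSpDescent

variable {A B : Type u} [CommRing A] [CommRing B] {φ : A →+* B} {J : Ideal A}

open TensorProduct in
/-- Finite type can be checked modulo a nilpotent ideal. -/
theorem finiteType_of_nilpotent {m : ℕ} (hm : J.map φ ^ m = ⊥)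
    (h : (Ideal.quotientMap (J.map φ) φ Ideal.le_comap_map).FiniteType) : φ.FiniteType := by
  classical
  letI := φ.toAlgebra
  have h₁ : ((Ideal.Quotient.mk (J.map φ)).comp φ).FiniteType :=
    h.comp (RingHom.FiniteType.of_surjective (Ideal.Quotient.mk J) Ideal.Quotient.mk_surjective)
  obtain ⟨s, hs⟩ := (RingHom.finiteType_algebraMap (A := A) (B := B ⧸ J.map φ)).1 h₁
  choose l hl using fun x : B ⧸ J.map φ => Ideal.Quotient.mk_surjective x
  let C : Subalgebra A B := Algebra.adjoin A ((s.image l : Finset B) : Set B)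
  have base : ∀ x : B, ∃ c ∈ C, x - c ∈ J.map φ := by
    intro x
    have htop : C.map (Ideal.Quotient.mkₐ A (J.map φ)) = ⊤ := by
      rw [eq_top_iff, ← hs]
      refine Algebra.adjoin_le fun y hy => ⟨l y, Algebra.subset_adjoin ?_, hl y⟩
      exact Finset.mem_coe.2 (Finset.mem_image_of_mem l hy)
    obtain ⟨c, hc, e⟩ : Ideal.Quotient.mk (J.map φ) x ∈ C.map (Ideal.Quotient.mkₐ A (J.map φ)) := by
      rw [htop]; trivial
    exact ⟨c, hc, Ideal.Quotient.eq.1 e.symm⟩
  have step : ∀ k : ℕ, ∀ y ∈ (J ^ k).map φ, ∃ c ∈ C, y - c ∈ (J ^ (k + 1)).map φ := by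
    intro k y hy
    refine Submodule.span_induction (p := fun y _ => ∀ z : B, ∃ c ∈ C, z * y - c ∈ (J ^ (k + 1)).map φ)
      ?_ ?_ ?_ ?_ hy 1 |>.imp fun c => by simp
    · rintro _ ⟨a, ha, rfl⟩ z
      obtain ⟨c, hc, hzc⟩ := base z
      refine ⟨algebraMap A B a * c, C.mul_mem (C.algebraMap_mem a) hc, ?_⟩
      rw [show z * φ a - algebraMap A B a * c = φ a * (z - c) from by
        change z * φ a - φ a * c = _; ring, pow_succ, Ideal.map_mul]
      exact Ideal.mul_mem_mul (Ideal.mem_map_of_mem φ ha) hzc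
    · exact fun z => ⟨0, C.zero_mem, by simp⟩
    · intro a b _ _ ha hb z
      obtain ⟨c, hc, hc'⟩ := ha z
      obtain ⟨d, hd, hd'⟩ := hb z
      refine ⟨c + d, C.add_mem hc hd, ?_⟩
      rw [show z * (a + b) - (c + d) = (z * a - c) + (z * b - d) from by ring]
      exact add_mem hc' hd'
    · intro r a _ ha z
      obtain ⟨c, hc, hc'⟩ := ha (z * r)
      exact ⟨c, hc, by rw [smul_eq_mul, ← mul_assoc]; exact hc'⟩
  have key : ∀ k : ℕ, ∀ x : B, ∃ c ∈ C, x - c ∈ (J ^ k).map φ := by
    intro k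
    induction k with
    | zero => exact fun x => ⟨0, C.zero_mem, by simp [Ideal.map_top]⟩
    | succ k ih =>
      intro x
      obtain ⟨c, hc, hc'⟩ := ih x
      obtain ⟨d, hd, hd'⟩ := step k _ hc'
      exact ⟨c + d, C.add_mem hc hd, by rw [← sub_sub]; exact hd'⟩
  refine ⟨⟨s.image l, ?_⟩⟩
  rw [eq_top_iff]
  intro x _
  obtain ⟨c, hc, hx⟩ := key m x
  rw [Ideal.map_pow, hm, Ideal.mem_bot, sub_eq_zero] at hx
  exact hx ▸ hc

open TensorProduct in
/-- The differentials are killed modulo an ideal along which the map is formally unramified. -/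
theorem kaehler_le_smul
    (h : (Ideal.quotientMap (J.map φ) φ Ideal.le_comap_map).FormallyUnramified) :
    letI := φ.toAlgebra
    (⊤ : Submodule B Ω[B⁄A]) ≤ J.map φ • ⊤ := by
  letI := φ.toAlgebra
  let K := J.map φ
  have h₁ : ((Ideal.Quotient.mk K).comp φ).FormallyUnramified :=
    RingHom.FormallyUnramified.stableUnderComposition (Ideal.Quotient.mk J)
      (Ideal.quotientMap K φ Ideal.le_comap_map)
      (RingHom.FormallyUnramified.of_surjective Ideal.Quotient.mk_surjective) h
  have : Algebra.FormallyUnramified A (B ⧸ K) := RingHom.formallyUnramified_algebraMap.1 h₁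
  have hzero : ∀ x ∈ K, (1 : B ⧸ K) ⊗ₜ[B] KaehlerDifferential.D A B x = 0 := by
    intro x hx
    refine Submodule.span_induction (p := fun x _ => (1 : B ⧸ K) ⊗ₜ[B] KaehlerDifferential.D A B x = 0)
      ?_ (by simp) (fun a b _ _ ha hb => by simp [map_add, tmul_add, ha, hb]) ?_ hx
    · rintro _ ⟨a, _, rfl⟩
      rw [show φ a = algebraMap A B a from rfl, Derivation.map_algebraMap, tmul_zero]
    · intro r a ha ih
      rw [smul_eq_mul, Derivation.leibniz, tmul_add, tmul_smul, ih, smul_zero, zero_add,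
        ← smul_tmul, Algebra.smul_def, mul_one, Ideal.Quotient.algebraMap_eq,
        Ideal.Quotient.eq_zero_iff_mem.2 (show a ∈ K from ha), zero_tmul]
  have hten : Subsingleton ((B ⧸ K) ⊗[B] Ω[B⁄A]) := by
    refine subsingleton_of_forall_eq 0 fun z => ?_
    obtain ⟨y, rfl⟩ := ((KaehlerDifferential.exact_kerCotangentToTensor_mapBaseChange A B (B ⧸ K)
      Ideal.Quotient.mk_surjective) z).1 (Subsingleton.elim _ _)
    obtain ⟨⟨x, hx⟩, rfl⟩ := Ideal.toCotangent_surjective _ y
    rw [KaehlerDifferential.kerCotangentToTensor_toCotangent]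
    exact hzero x (Ideal.Quotient.eq_zero_iff_mem.1 (RingHom.mem_ker.1 hx))
  have : Subsingleton (Ω[B⁄A] ⧸ (K • ⊤ : Submodule B Ω[B⁄A])) :=
    (TensorProduct.quotTensorEquivQuotSMul Ω[B⁄A] K).symm.toEquiv.subsingleton
  rw [top_le_iff]
  exact Submodule.Quotient.subsingleton_iff.1 this

/-- Formal unramifiedness can be checked modulo a nilpotent ideal. -/
theorem formallyUnramified_of_nilpotent {m : ℕ} (hm : J.map φ ^ m = ⊥)
    (h : (Ideal.quotientMap (J.map φ) φ Ideal.le_comap_map).FormallyUnramified) :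
    φ.FormallyUnramified := by
  letI := φ.toAlgebra
  let K := J.map φ
  have htop : (⊤ : Submodule B Ω[B⁄A]) ≤ K • ⊤ := kaehler_le_smul h
  have hpow : ∀ k : ℕ, (⊤ : Submodule B Ω[B⁄A]) ≤ K ^ k • ⊤ := by
    intro k
    induction k with
    | zero => simp
    | succ k ih =>
      refine ih.trans ?_
      rw [pow_succ, Submodule.mul_smul]
      exact smul_mono_right _ htop
  have hbot : (⊤ : Submodule B Ω[B⁄A]) = ⊥ := by
    have := hpow m
    rwa [show K ^ m = ⊥ from hm, Submodule.bot_smul, le_bot_iff] at this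
  refine RingHom.formallyUnramified_algebraMap.2 ⟨subsingleton_of_forall_eq 0 fun z => ?_⟩
  have hz : z ∈ (⊤ : Submodule B Ω[B⁄A]) := trivial
  rwa [hbot, Submodule.mem_bot] at hz

/-- For a map of finite type, formal unramifiedness can be checked modulo an ideal of nilpotent
elements. -/
theorem formallyUnramified_of_nilradical (hJ : J.map φ ≤ nilradical B) (hft : φ.FiniteType)
    (h : (Ideal.quotientMap (J.map φ) φ Ideal.le_comap_map).FormallyUnramified) :
    φ.FormallyUnramified := by
  letI := φ.toAlgebra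
  have : Algebra.FiniteType A B := RingHom.finiteType_algebraMap.1 hft
  have hbot : (⊤ : Submodule B Ω[B⁄A]) = ⊥ :=
    Submodule.eq_bot_of_le_smul_of_le_jacobson_bot (J.map φ) ⊤ Module.Finite.fg_top
      (kaehler_le_smul h) (fun x hx => Ideal.mem_sInf.2 fun {I} hI => by
        have := hI.2.isPrime
        exact nilradical_le_prime I (hJ hx))
  refine RingHom.formallyUnramified_algebraMap.2 ⟨subsingleton_of_forall_eq 0 fun z => ?_⟩
  have hz : z ∈ (⊤ : Submodule B Ω[B⁄A]) := trivial
  rwa [hbot, Submodule.mem_bot] at hz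

/-- Quasi-finiteness can be checked modulo an ideal of nilpotent elements. -/
theorem quasiFinite_of_nilradical (hJ : J.map φ ≤ nilradical B)
    (h : (Ideal.quotientMap (J.map φ) φ Ideal.le_comap_map).QuasiFinite) (hft : φ.FiniteType) :
    φ.QuasiFinite := by
  letI := φ.toAlgebra
  have : Algebra.FiniteType A B := RingHom.finiteType_algebraMap.1 hft
  letI := (Ideal.quotientMap (J.map φ) φ Ideal.le_comap_map).toAlgebra
  have : Algebra.QuasiFinite (A ⧸ J) (B ⧸ J.map φ) := RingHom.quasiFinite_algebraMap.1 h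
  refine RingHom.quasiFinite_algebraMap.2
    (Algebra.QuasiFinite.iff_finite_comap_preimage_singleton.2 fun x => ?_)
  have hf : (PrimeSpectrum.comap (Ideal.Quotient.mk J) ⁻¹' {x}).Finite :=
    Set.Subsingleton.finite fun a ha b hb =>
      PrimeSpectrum.comap_injective_of_surjective _ Ideal.Quotient.mk_surjective
        ((Set.mem_singleton_iff.1 ha).trans (Set.mem_singleton_iff.1 hb).symm)
  refine ((hf.biUnion fun y _ => Algebra.QuasiFinite.finite_comap_preimage_singleton
    (R := A ⧸ J) (S := B ⧸ J.map φ) y).image (PrimeSpectrum.comap (Ideal.Quotient.mk (J.map φ)))).subset ?_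
  intro p hp
  have hJp : J.map φ ≤ p.asIdeal := hJ.trans (nilradical_le_prime p.asIdeal)
  obtain ⟨q, rfl⟩ : p ∈ Set.range (PrimeSpectrum.comap (Ideal.Quotient.mk (J.map φ))) := by
    rw [range_comap_of_surjective _ _ Ideal.Quotient.mk_surjective, Ideal.mk_ker]
    exact hJp
  refine ⟨q, Set.mem_biUnion (x := PrimeSpectrum.comap (Ideal.quotientMap (J.map φ) φ
    Ideal.le_comap_map) q) ?_ rfl, rfl⟩
  rw [Set.mem_preimage, Set.mem_singleton_iff, ← Set.mem_singleton_iff.1 hp]
  rfl

end Groth.Agent.AlgSpDescent
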