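import Groth.Agent.Lib.AlgSpDescent.RingSource
import Mathlib.AlgebraicGeometry.Morphisms.Etale
import Mathlib.AlgebraicGeometry.Morphisms.QuasiFinite
import Mathlib.AlgebraicGeometry.Morphisms.UniversallyOpen

/-!
# Properties of morphisms of schemes descend along étale surjections of the source
-/

universe u

open CategoryTheory CategoryTheory.Limits AlgebraicGeometry MorphismProperty

namespace Groth.Agent.AlgSpDescent

/-- `P` descends along étale surjections of the source. -/
def DescendsEtaleSource (P : MorphismProperty Scheme.{u}) : Prop :=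
  ∀ ⦃W X Y : Scheme.{u}⦄ (g : W ⟶ X) (f : X ⟶ Y), Etale g → Surjective g → P (g ≫ f) → P f

/-- Finitely many affine opens of the source of an open surjection onto a quasi-compact scheme
already surject. -/
theorem exists_affine_etale_surjective {W X : Scheme.{u}} (g : W ⟶ X) [Etale g] [Surjective g]
    [CompactSpace X] :
    ∃ (ι : Type u) (_ : Finite ι) (V : ι → W.Opens), (∀ i, IsAffineOpen (V i)) ∧
      Surjective (Sigma.desc fun i => (V i).ι ≫ g) := by
  have hopen : IsOpenMap g := g.isOpenMap
  let J := { U : W.Opens // IsAffineOpen U }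
  have hcov : (Set.univ : Set X) ⊆ ⋃ U : J, g '' (U.1 : Set W) := by
    intro x _
    obtain ⟨w, rfl⟩ := g.surjective x
    obtain ⟨U, hU, hw, -⟩ := exists_isAffineOpen_mem_and_subset (X := W) (x := w) (U := ⊤) trivial
    exact Set.mem_iUnion.2 ⟨⟨U, hU⟩, w, hw, rfl⟩
  obtain ⟨t, ht⟩ := isCompact_univ.elim_finite_subcover (fun U : J => g '' (U.1 : Set W))
    (fun U => hopen _ U.1.2) hcov
  refine ⟨{ U // U ∈ t }, inferInstance, fun U => U.1.1, fun U => U.1.2,
    Surjective.sigmaDesc_of_union_range_eq_univ (Set.eq_univ_iff_forall.2 fun x => ?_)⟩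
  obtain ⟨U, hU, w, hw, rfl⟩ := Set.mem_iUnion₂.1 (ht (Set.mem_univ x))
  exact Set.mem_iUnion.2 ⟨⟨U, hU⟩, ⟨w, hw⟩, rfl⟩

/-- Étale descent on the source from the corresponding fact about rings. -/
theorem descendsEtaleSource_of_ring (P : MorphismProperty Scheme.{u})
    {Q : ∀ {R S : Type u} [CommRing R] [CommRing S], (R →+* S) → Prop}
    [HasRingHomProperty P Q] [P.IsStableUnderBaseChange]
    (hQ : ∀ (A B C : Type u) [CommRing A] [CommRing B] [CommRing C] [Algebra A B] [Algebra B C]
      [Algebra A C] [IsScalarTower A B C] [Module.FaithfullyFlat B C] [Algebra.Etale B C],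
      Q (algebraMap A C) → Q (algebraMap A B)) :
    DescendsEtaleSource P := by
  intro W X Y g f hg hs hgf
  -- reduce to an affine target
  wlog hY : IsAffine Y generalizing W X Y
  · refine IsZariskiLocalAtTarget.of_openCover (P := P) Y.affineCover fun i => ?_
    let W' := pullback g (pullback.fst f (Y.affineCover.f i))
    refine this (pullback.snd g (pullback.fst f (Y.affineCover.f i))) _
      (MorphismProperty.pullback_snd (P := @Etale) _ _ hg)
      (MorphismProperty.pullback_snd (P := @Surjective) _ _ hs) ?_ inferInstance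
    exact MorphismProperty.of_isPullback (P := P)
      (((IsPullback.of_hasPullback g (pullback.fst f (Y.affineCover.f i))).flip.paste_horiz
        (IsPullback.of_hasPullback f (Y.affineCover.f i)).flip).flip) hgf
  -- reduce to an affine source
  wlog hX : IsAffine X generalizing W X
  · refine IsZariskiLocalAtSource.of_openCover (P := P) X.affineCover fun i => ?_
    refine this (pullback.snd g (X.affineCover.f i)) _
      (MorphismProperty.pullback_snd (P := @Etale) _ _ hg)
      (MorphismProperty.pullback_snd (P := @Surjective) _ _ hs) ?_ inferInstance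
    rw [← Category.assoc, ← pullback.condition, Category.assoc]
    exact IsZariskiLocalAtSource.comp hgf _
  obtain ⟨ι, _, V, hV, hsurj⟩ := exists_affine_etale_surjective g
  let d := Sigma.desc fun i => (V i).ι ≫ g
  have (i : ι) : IsAffine (V i).toScheme := hV i
  have hd : Etale d := IsZariskiLocalAtSource.sigmaDesc fun i => inferInstance
  have hdP : P (d ≫ f) := by
    have : d ≫ f = Sigma.desc (fun i => (V i).ι ≫ g ≫ f) := by
      apply Sigma.hom_ext; intro i; simp [d]
    rw [this]
    exact IsZariskiLocalAtSource.sigmaDesc fun i => IsZariskiLocalAtSource.comp hgf _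
  rw [HasRingHomProperty.iff_of_isAffine (P := P)] at hdP ⊢
  rw [Scheme.Hom.comp_appTop, CommRingCat.hom_comp] at hdP
  have hff : d.appTop.hom.FaithfullyFlat :=
    (Flat.flat_and_surjective_iff_faithfullyFlat_of_isAffine d).1 ⟨inferInstance, hsurj⟩
  have het : d.appTop.hom.Etale := HasRingHomProperty.appTop (P := @Etale) d hd
  algebraize [f.appTop.hom, d.appTop.hom, d.appTop.hom.comp f.appTop.hom]
  exact hQ _ _ _ hdP

theorem descendsEtaleSource_locallyOfFiniteType : DescendsEtaleSource @LocallyOfFiniteType.{u} :=
  descendsEtaleSource_of_ring _ fun A B C _ _ _ _ _ _ _ _ _ h => by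
    rw [RingHom.finiteType_algebraMap] at h ⊢
    exact finiteType_of_smooth_faithfullyFlat A B C

theorem descendsEtaleSource_locallyOfFinitePresentation :
    DescendsEtaleSource @LocallyOfFinitePresentation.{u} :=
  descendsEtaleSource_of_ring _ fun A B C _ _ _ _ _ _ _ _ _ h => by
    rw [RingHom.finitePresentation_algebraMap] at h ⊢
    exact finitePresentation_of_smooth_faithfullyFlat A B C

theorem descendsEtaleSource_formallyUnramified :
    DescendsEtaleSource @FormallyUnramified.{u} :=
  descendsEtaleSource_of_ring _ fun A B C _ _ _ _ _ _ _ _ _ h => by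
    rw [RingHom.formallyUnramified_algebraMap] at h ⊢
    exact formallyUnramified_of_etale_source A B C

theorem descendsEtaleSource_locallyQuasiFinite :
    DescendsEtaleSource @LocallyQuasiFinite.{u} :=
  descendsEtaleSource_of_ring _ fun A B C _ _ _ _ _ _ _ _ _ h => by
    rw [RingHom.quasiFinite_algebraMap] at h ⊢
    exact quasiFinite_of_faithfullyFlat_source A B C

theorem descendsEtaleSource_etale : DescendsEtaleSource @Etale.{u} :=
  descendsEtaleSource_of_ring _ fun A B C _ _ _ _ _ _ _ _ _ h => by
    rw [RingHom.etale_algebraMap] at h ⊢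
    exact etale_of_etale_source A B C

/-- Flatness descends along arbitrary flat surjections of the source. -/
theorem flat_of_comp_flat_surjective {W X Y : Scheme.{u}} (g : W ⟶ X) (f : X ⟶ Y) [Flat g]
    [Surjective g] [Flat (g ≫ f)] : Flat f := by
  refine Flat.of_stalkMap f fun x => ?_
  obtain ⟨w, rfl⟩ := g.surjective x
  have h : ((g ≫ f).stalkMap w).hom.Flat := Flat.stalkMap (g ≫ f) w
  rw [Scheme.Hom.stalkMap_comp] at h
  change ((g.stalkMap w).hom.comp (f.stalkMap (g w)).hom).Flat at h
  have hg : (g.stalkMap w).hom.Flat := Flat.stalkMap g w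
  algebraize [(f.stalkMap (g w)).hom, (g.stalkMap w).hom,
    (g.stalkMap w).hom.comp (f.stalkMap (g w)).hom]
  have : Module.FaithfullyFlat (X.presheaf.stalk (g w)) (W.presheaf.stalk w) :=
    @Module.FaithfullyFlat.of_flat_of_isLocalHom _ _ _ _ _ _ _ ‹_› (g.toLRSHom.prop w)
  exact flat_of_faithfullyFlat_source (Y.presheaf.stalk (f (g w))) (X.presheaf.stalk (g w))
    (W.presheaf.stalk w)

theorem descendsEtaleSource_flat : DescendsEtaleSource @Flat.{u} := fun _ _ _ g f hg hs h =>
  @flat_of_comp_flat_surjective _ _ _ g f inferInstance hs h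

theorem descendsEtaleSource_inf {P P' : MorphismProperty Scheme.{u}} (h : DescendsEtaleSource P)
    (h' : DescendsEtaleSource P') : DescendsEtaleSource (P ⊓ P') :=
  fun _ _ _ g f hg hs hgf => ⟨h g f hg hs hgf.1, h' g f hg hs hgf.2⟩

end Groth.Agent.AlgSpDescent
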