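import Groth.Agent.Lib.AlgSpDescent.RingSmooth
import Groth.Agent.Lib.AlgSpDescent.SrcInstances
import Mathlib.AlgebraicGeometry.Morphisms.Smooth

/-!
# Smoothness descends along smooth surjections of the source
-/

universe u

set_option backward.isDefEq.respectTransparency.types false

open CategoryTheory CategoryTheory.Limits AlgebraicGeometry MorphismProperty

namespace Groth.Agent.AlgSpDescent

/-- Finitely many affine opens of the source of an open surjection onto a quasi-compact scheme
already surject. -/
theorem exists_affine_open_surjective {W X : Scheme.{u}} (g : W ⟶ X) [Surjective g]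
    (hopen : IsOpenMap g) [CompactSpace X] :
    ∃ (ι : Type u) (_ : Finite ι) (V : ι → W.Opens), (∀ i, IsAffineOpen (V i)) ∧
      Surjective (Sigma.desc fun i => (V i).ι ≫ g) := by
  let J := { U : W.Opens // IsAffineOpen U }
  have hcov : (Set.univ : Set X) ⊆ ⋃ U : J, g '' (U.1 : Set W) := by
    intro x _
    obtain ⟨w, rfl⟩ := g.surjective x
    obtain ⟨U, hU, hw, -⟩ := exists_isAffineOpen_mem_and_subset (X := W) (x := w) (U := ⊤) trivial
    exact Set.mem_iUnion.2 ⟨⟨U, hU⟩, w, hw, rfl⟩
  obtain ⟨t, ht⟩ := isCompact_univ.elim_finite_subcover (fun U : J => g '' (U.1 : Set W))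
    (fun U => hopen _ U.1.2) hcov
  refine ⟨{ U // U ∈ t }, inferInstance, fun U => U.1.1, fun U => U.1.2,
    Surjective.sigmaDesc_of_union_range_eq_univ (Set.eq_univ_iff_forall.2 fun x => ?_)⟩
  obtain ⟨U, hU, w, hw, rfl⟩ := Set.mem_iUnion₂.1 (ht (Set.mem_univ x))
  exact Set.mem_iUnion.2 ⟨⟨U, hU⟩, ⟨w, hw⟩, rfl⟩

/-- Descent along smooth surjections of the source from the corresponding fact about rings. -/
theorem descends_smooth_surjective_of_ring (P : MorphismProperty Scheme.{u})
    {Q : ∀ {R S : Type u} [CommRing R] [CommRing S], (R →+* S) → Prop}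
    [HasRingHomProperty P Q] [P.IsStableUnderBaseChange]
    (hQ : ∀ (A B C : Type u) [CommRing A] [CommRing B] [CommRing C] [Algebra A B] [Algebra B C]
      [Algebra A C] [IsScalarTower A B C] [Module.FaithfullyFlat B C] [Algebra.Smooth B C],
      Q (algebraMap A C) → Q (algebraMap A B))
    {W X Y : Scheme.{u}} (g : W ⟶ X) (f : X ⟶ Y) (hg : Smooth g) (hs : Surjective g)
    (hgf : P (g ≫ f)) : P f := by
  -- reduce to an affine target
  wlog hY : IsAffine Y generalizing W X Y
  · refine IsZariskiLocalAtTarget.of_openCover (P := P) Y.affineCover fun i => ?_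
    refine this (pullback.snd g (pullback.fst f (Y.affineCover.f i))) _
      (MorphismProperty.pullback_snd (P := @Smooth) _ _ hg)
      (MorphismProperty.pullback_snd (P := @Surjective) _ _ hs) ?_ inferInstance
    exact MorphismProperty.of_isPullback (P := P)
      (((IsPullback.of_hasPullback g (pullback.fst f (Y.affineCover.f i))).flip.paste_horiz
        (IsPullback.of_hasPullback f (Y.affineCover.f i)).flip).flip) hgf
  -- reduce to an affine source
  wlog hX : IsAffine X generalizing W X
  · refine IsZariskiLocalAtSource.of_openCover (P := P) X.affineCover fun i => ?_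
    refine this (pullback.snd g (X.affineCover.f i)) _
      (MorphismProperty.pullback_snd (P := @Smooth) _ _ hg)
      (MorphismProperty.pullback_snd (P := @Surjective) _ _ hs) ?_ inferInstance
    rw [← Category.assoc, ← pullback.condition, Category.assoc]
    exact IsZariskiLocalAtSource.comp hgf _
  obtain ⟨ι, _, V, hV, hsurj⟩ := exists_affine_open_surjective g g.isOpenMap
  let d := Sigma.desc fun i => (V i).ι ≫ g
  have (i : ι) : IsAffine (V i).toScheme := hV i
  have hd : Smooth d := IsZariskiLocalAtSource.sigmaDesc fun i => inferInstance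
  have hdP : P (d ≫ f) := by
    have : d ≫ f = Sigma.desc (fun i => (V i).ι ≫ g ≫ f) := by
      apply Sigma.hom_ext; intro i; simp [d]
    rw [this]
    exact IsZariskiLocalAtSource.sigmaDesc fun i => IsZariskiLocalAtSource.comp hgf _
  rw [HasRingHomProperty.iff_of_isAffine (P := P)] at hdP ⊢
  rw [Scheme.Hom.comp_appTop, CommRingCat.hom_comp] at hdP
  have hff : d.appTop.hom.FaithfullyFlat :=
    (Flat.flat_and_surjective_iff_faithfullyFlat_of_isAffine d).1 ⟨inferInstance, hsurj⟩
  have hsm : d.appTop.hom.Smooth := HasRingHomProperty.appTop (P := @Smooth) d hd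
  algebraize [f.appTop.hom, d.appTop.hom, d.appTop.hom.comp f.appTop.hom]
  exact hQ _ _ _ hdP

theorem smooth_of_smooth_surjective_comp {W X Y : Scheme.{u}} (g : W ⟶ X) (f : X ⟶ Y)
    (hg : Smooth g) (hs : Surjective g) (h : Smooth (g ≫ f)) : Smooth f :=
  descends_smooth_surjective_of_ring _ (fun A B C _ _ _ _ _ _ _ _ _ h => by
    rw [RingHom.smooth_algebraMap] at h ⊢
    exact smooth_of_smooth_faithfullyFlat A B C) g f hg hs h

theorem descendsEtaleSource_smooth : DescendsEtaleSource @Smooth.{u} :=
  fun _ _ _ g f hg hs h => smooth_of_smooth_surjective_comp g f inferInstance hs h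

theorem etale_le_smooth : (@Etale : MorphismProperty Scheme.{u}) ≤ @Smooth :=
  fun _ _ _ _ => inferInstance

theorem precompEtale_smooth : PrecompEtale @Smooth.{u} :=
  precompEtale_of_isStableUnderComposition etale_le_smooth

open AlgSp

variable {S : Scheme.{u}}

/-- Smoothness is local on the source for smooth coverings. -/
theorem isLocalOnSource_sm_smooth : IsLocalOnSource (IsSmCover (S := S)) (LocP @Smooth) :=
  isLocalOnSource_locP precompEtale_smooth descendsEtaleSource_smooth precompEtale_smooth
    descendsEtaleSource_smooth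
    (fun _ _ _ a b ha hb => MorphismProperty.comp_mem (W := (@Smooth : MorphismProperty Scheme.{u})) a b ha hb)
    (fun _ _ _ a b ha hs h => smooth_of_smooth_surjective_comp a b ha hs h)
    fun _ _ _ _ _ _ hg => hg

end Groth.Agent.AlgSpDescent
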