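import Groth.Agent.Lib.AlgSpDescent.RepBase
import Groth.Agent.Lib.AlgSpDescent.Instances
import Groth.Agent.Lib.AlgSpace.LqfScheme
import Groth.Agent.Lib.AlgSpace.Affine
import Groth.Agent.Lib.H12.DescImm
import Groth.Prelude.Def_AlgSpMor5

/-!
# Separated locally quasi-finite properties are local on the base

A property of morphisms of schemes implying separated, locally quasi-finite and locally of finite
type gives a property of morphisms of algebraic spaces which is fpqc local on the base: the morphism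
is representable.
-/

universe u

set_option backward.isDefEq.respectTransparency.types false

open CategoryTheory CategoryTheory.Limits AlgebraicGeometry Opposite MorphismProperty

namespace Groth.Agent.AlgSpDescent

open AlgSp Groth.Agent.AlgSpace Groth.Agent.AlgSpDecent

variable {S : Scheme.{u}}

/-- A morphism is representable if its base changes along an fpqc covering are separated, locally
quasi-finite and representable. -/
theorem representable_of_fpqc_sepLqf {P : MorphismProperty Scheme.{u}}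
    (hP : ∀ ⦃A B : Scheme.{u}⦄ (j : A ⟶ B), P j →
      LocallyQuasiFinite j ∧ LocallyOfFiniteType j ∧ IsSeparated j)
    {ι : Type u} {X Y : Sp S} {Yi Xi : ι → Sp S} {g : ∀ i, Yi i ⟶ Y} {f : X ⟶ Y}
    {p : ∀ i, Xi i ⟶ Yi i} {q : ∀ i, Xi i ⟶ X} (hY : IsAlgSpace Y) (hYi : ∀ i, IsAlgSpace (Yi i))
    (hX : IsAlgSpace X) (hXi : ∀ i, IsAlgSpace (Xi i)) (hg : IsFpqcCover Yi g)
    (sq : ∀ i, IsPullback (q i) (p i) f (g i)) (hp : ∀ i, RepWith P (p i)) : Representable f := by
  have hd1 := FpqcDesc.descendsAlong_locallyQuasiFinite.{u}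
  refine representable_of_lqf_separated hX hY f ?_ ?_
  · refine (isLocalOnBase_fpqc_isSeparatedMor Yi g hY hYi hg f hX Xi p q hXi sq).2 fun i => ?_
    exact (isSeparatedMor_iff_of_representable (hXi i) (hYi i) (hp i).1).2
      (repWith_mono (fun _ _ j hj => (hP j hj).2.2) (hp i))
  · refine (isLocalOnBase_fpqc_locP (P := @LocallyQuasiFinite ⊓ @LocallyOfFiniteType)
      precompEtale_lqf EtaleLocal.descends Yi g hY hYi hg f hX Xi p q hXi sq).2 fun i => ?_
    exact locP_of_repWith (hYi i) (repWith_mono (fun _ _ j hj => ⟨(hP j hj).1, (hP j hj).2.1⟩) (hp i))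

/-- A separated locally quasi-finite property of representable morphisms is fpqc local on the base. -/
theorem isLocalOnBase_fpqc_repWith_sepLqf (P : MorphismProperty Scheme.{u})
    [P.IsStableUnderBaseChange] [IsZariskiLocalAtTarget P]
    [P.DescendsAlong (@Surjective ⊓ @Flat ⊓ @QuasiCompact)]
    (hP : ∀ ⦃A B : Scheme.{u}⦄ (j : A ⟶ B), P j →
      LocallyQuasiFinite j ∧ LocallyOfFiniteType j ∧ IsSeparated j) :
    IsLocalOnBase (IsFpqcCover (S := S)) (RepWith P) := by
  intro ι Y Yi g hY hYi hg X f hX Xi p q hXi sq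
  exact ⟨fun hf i => repWith_of_isPullback (sq i) hf, fun hp =>
    repWith_of_fpqc hg sq (representable_of_fpqc_sepLqf hP hY hYi hX hXi hg sq hp) hp⟩

theorem sepLqf_of_isIso {A B : Scheme.{u}} (j : A ⟶ B) [IsIso j] :
    LocallyQuasiFinite j ∧ LocallyOfFiniteType j ∧ IsSeparated j :=
  ⟨inferInstance, inferInstance, inferInstance⟩

theorem sepLqf_of_isImmersion {A B : Scheme.{u}} (j : A ⟶ B) [IsImmersion j] :
    LocallyQuasiFinite j ∧ LocallyOfFiniteType j ∧ IsSeparated j :=
  ⟨inferInstance, inferInstance, inferInstance⟩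

theorem sepLqf_of_isFinite {A B : Scheme.{u}} (j : A ⟶ B) [IsFinite j] :
    LocallyQuasiFinite j ∧ LocallyOfFiniteType j ∧ IsSeparated j :=
  ⟨inferInstance, inferInstance, inferInstance⟩

theorem isLocalOnBase_fpqc_isomorphisms :
    IsLocalOnBase (IsFpqcCover (S := S)) (MorphismProperty.isomorphisms (Sp S)) := by
  have key : ∀ {A B : Sp S} (f : A ⟶ B),
      IsIso f ↔ RepWith (MorphismProperty.isomorphisms Scheme.{u}) f := fun f =>
    ⟨fun _ => repWith_isomorphisms_of_isIso _, isIso_of_repWith_isomorphisms⟩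
  intro ι Y Yi g hY hYi hg X f hX Xi p q hXi sq
  simp only [MorphismProperty.isomorphisms.iff, key]
  exact isLocalOnBase_fpqc_repWith_sepLqf _ (fun _ _ j (_ : IsIso j) => sepLqf_of_isIso j)
    Yi g hY hYi hg f hX Xi p q hXi sq

theorem isLocalOnBase_fpqc_repWith_isOpenImmersion :
    IsLocalOnBase (IsFpqcCover (S := S)) (RepWith @IsOpenImmersion) :=
  isLocalOnBase_fpqc_repWith_sepLqf _ fun _ _ j (_ : IsOpenImmersion j) => sepLqf_of_isImmersion j

theorem isLocalOnBase_fpqc_repWith_isClosedImmersion :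
    IsLocalOnBase (IsFpqcCover (S := S)) (RepWith @IsClosedImmersion) :=
  have := FpqcDesc.descendsAlong_isClosedImmersion.{u}
  isLocalOnBase_fpqc_repWith_sepLqf _ fun _ _ j (_ : IsClosedImmersion j) => sepLqf_of_isImmersion j

theorem isLocalOnBase_fpqc_repWith_qcImmersion :
    IsLocalOnBase (IsFpqcCover (S := S)) (RepWith (@IsImmersion ⊓ @QuasiCompact)) :=
  have := H12.descendsAlong_isImmersion_qc.{u}
  isLocalOnBase_fpqc_repWith_sepLqf _ fun _ _ j hj =>
    have := hj.1; sepLqf_of_isImmersion j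

theorem isLocalOnBase_fpqc_isFiniteMor :
    IsLocalOnBase (IsFpqcCover (S := S)) IsFiniteMor := by
  have := FpqcDesc.descendsAlong_isFinite.{u}
  intro ι Y Yi g hY hYi hg X f hX Xi p q hXi sq
  simp only [isFiniteMor_iff_repWith]
  exact isLocalOnBase_fpqc_repWith_sepLqf _ (fun _ _ j (_ : IsFinite j) => sepLqf_of_isFinite j)
    Yi g hY hYi hg f hX Xi p q hXi sq

theorem finLocFree_eq :
    (finLocFree.{u}) = (@IsFinite ⊓ @Flat ⊓ @LocallyOfFinitePresentation : MorphismProperty Scheme.{u}) := by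
  ext A B f
  exact ⟨fun h => ⟨⟨h.1, h.2.1⟩, h.2.2⟩, fun h => ⟨h.1.1, h.1.2, h.2⟩⟩

theorem isLocalOnBase_fpqc_isFinLocFreeMor :
    IsLocalOnBase (IsFpqcCover (S := S)) IsFinLocFreeMor := by
  have := FpqcDesc.descendsAlong_isFinite.{u}
  have := descendsAlong_inf (P := @IsFinite.{u}) (P' := @Flat)
    (Q := @Surjective ⊓ @Flat ⊓ @QuasiCompact)
  have := descendsAlong_inf (P := (@IsFinite ⊓ @Flat : MorphismProperty Scheme.{u}))
    (P' := @LocallyOfFinitePresentation) (Q := @Surjective ⊓ @Flat ⊓ @QuasiCompact)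
  unfold IsFinLocFreeMor
  rw [finLocFree_eq]
  exact isLocalOnBase_fpqc_repWith_sepLqf _ fun _ _ j hj =>
    have := hj.1.1; sepLqf_of_isFinite j

theorem isLocalOnBase_fppf_repWith_isImmersion :
    IsLocalOnBase (IsFppfCover (S := S)) (RepWith @IsImmersion) := by
  intro ι Y Yi g hY hYi hg X f hX Xi p q hXi sq
  refine ⟨fun hf i => repWith_of_isPullback (sq i) hf, fun hp => ?_⟩
  have hfr := representable_of_fpqc_sepLqf (fun _ _ j (_ : IsImmersion j) => sepLqf_of_isImmersion j)
    hY hYi hX hXi (isFpqcCover_of_isFppfCover hY hYi hg) sq hp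
  refine ⟨hfr, fun T V t fst snd sqT => ?_⟩
  obtain ⟨A, c, l, hc, hl, hcs⟩ :=
    exists_lifts_of_bc hY hYi (bc_fppf_of_isFppfCover hY hYi hg) hg.2 T t
  have := H12.descendsAlong_isImmersion_fppf.{u}
  let Q : (∐ fun i => (A i).left) ⟶ T.left := Sigma.desc fun i => (c i).left
  have hQ : (@Surjective ⊓ @Flat ⊓ @LocallyOfFinitePresentation : MorphismProperty Scheme.{u}) Q := by
    refine ⟨⟨Surjective.sigmaDesc_of_union_range_eq_univ (Set.eq_univ_iff_forall.2 fun z =>
      Set.mem_iUnion.2 (hcs z)), ?_⟩, ?_⟩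
    · exact IsZariskiLocalAtSource.sigmaDesc fun i => (hc i).1
    · exact IsZariskiLocalAtSource.sigmaDesc fun i => (hc i).2
  refine MorphismProperty.of_isPullback_of_descendsAlong (P := @IsImmersion)
    (Q := @Surjective ⊓ @Flat ⊓ @LocallyOfFinitePresentation)
    (IsPullback.of_hasPullback snd.left Q).flip hQ ?_
  refine (IsZariskiLocalAtTarget.iff_of_openCover (P := @IsImmersion)
    (sigmaOpenCover fun i => (A i).left)).2 fun i => ?_
  have sqc := (IsPullback.of_hasPullback (pullback.snd snd.left Q)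
    (Sigma.ι (fun i => (A i).left) i)).paste_horiz (IsPullback.of_hasPullback snd.left Q)
  change IsImmersion (pullback.snd (pullback.snd snd.left Q) (Sigma.ι (fun i => (A i).left) i))
  rw [← sqc.isoPullback_hom_snd]
  refine (MorphismProperty.cancel_left_of_respectsIso @IsImmersion _ _).2 ?_
  rw [show Sigma.ι (fun i => (A i).left) i ≫ Q = (c i).left from Sigma.ι_desc _ _]
  have sqW := IsPullback.of_hasPullback snd (c i)
  obtain ⟨Z, m', s, n, sqm, sqn⟩ := exists_test_square sq sqT ((yon S).map (c i)) i (l i) (hl i)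
  let e := sqm.isoIsPullback _ _ (sqW.map (yon S))
  have sqn' := IsPullback.of_iso sqn e (Iso.refl _) (Iso.refl _) (Iso.refl _)
    (fst' := e.inv ≫ n) (snd' := (yon S).map (pullback.snd snd (c i))) (f' := p i) (g' := l i)
    (by simp) (by rw [Iso.refl_hom, Category.comp_id, IsPullback.isoIsPullback_hom_snd]) (by simp)
    (by simp)
  exact (MorphismProperty.arrow_mk_iso_iff (P := @IsImmersion) (Arrow.isoMk'
      (pullback.snd snd (c i)).left (pullback.snd snd.left (c i).left)
      ((sqW.map (Over.forget S)).isoPullback) (Iso.refl _) (by simp))).1 ((hp i).2 _ _ _ sqn')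

end Groth.Agent.AlgSpDescent
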