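import Groth.Agent.Lib.AlgSpDescent.SchemeSmooth
import Groth.Agent.Lib.AlgSpace.LocP
import Groth.Prelude.Def_AlgSpCov

/-!
# Smooth and étale-smooth locality on source-and-target
-/

universe u

set_option backward.isDefEq.respectTransparency.types false

open CategoryTheory CategoryTheory.Limits AlgebraicGeometry Opposite MorphismProperty

namespace Groth.Agent.AlgSpDescent

open AlgSp Groth.Agent.AlgSpace Groth.Agent.AlgSpDecent

variable {S : Scheme.{u}}

/-- Cancellation for étale morphisms of spaces. -/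
theorem locP_etale_of_comp {X Y Z : Sp S} (hX : IsAlgSpace X) (hY : IsAlgSpace Y)
    (hZ : IsAlgSpace Z) {f : X ⟶ Y} {g : Y ⟶ Z} (hfg : LocP @Etale (f ≫ g)) (hg : LocP @Etale g) :
    LocP @Etale f :=
  locP_of_comp (fun _ _ _ k l (h₁ : Etale (k ≫ l)) (h₂ : Etale l) => Etale.of_comp k l)
    hX hY hZ hfg hg

/-- `IsSmoothLocalST` from locality on the source and the base. -/
theorem isSmoothLocalST_of_local (P : MorphismProperty (Sp S))
    (h1 : IsLocalOnSource (IsSmCover (S := S)) P) (h2 : IsLocalOnBase (IsSmCover (S := S)) P)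
    (h3 : ∀ ⦃X Y Z : Sp S⦄, IsAlgSpace X → IsAlgSpace Y → IsAlgSpace Z → ∀ (f : X ⟶ Y) (g : Y ⟶ Z),
      P f → LocP @Smooth g → P (f ≫ g)) : IsSmoothLocalST P := by
  have pre : ∀ ⦃X Y Z : Sp S⦄, IsAlgSpace X → IsAlgSpace Y → IsAlgSpace Z →
      ∀ (f : X ⟶ Y) (g : Y ⟶ Z), LocP @Smooth f → P g → P (f ≫ g) := by
    intro X Y Z hX hY hZ f g hf hg
    let F : PUnit.{u + 1} ⊕ PUnit.{u + 1} → Sp S := Sum.elim (fun _ => X) fun _ => Y
    let k : ∀ i, F i ⟶ Y := fun i => match i with | .inl _ => f | .inr _ => 𝟙 Y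
    have hF : ∀ i, IsAlgSpace (F i) := fun i => match i with | .inl _ => hX | .inr _ => hY
    have hk : IsSmCover F k := ⟨fun i => match i with | .inl _ => hf | .inr _ => locP_id hY,
      fun x => ⟨.inr ⟨⟩, x, Points.map_id x⟩⟩
    exact (h1 F k hY hF hk g hZ).1 hg (.inl ⟨⟩)
  refine ⟨pre, ?_, ?_⟩
  · intro X Y X' Y' hX hY hX' hY' f g f' g' sq hg hf
    let F : PUnit.{u + 1} ⊕ PUnit.{u + 1} → Sp S := Sum.elim (fun _ => Y') fun _ => Y
    let k : ∀ i, F i ⟶ Y := fun i => match i with | .inl _ => g | .inr _ => 𝟙 Y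
    let G : PUnit.{u + 1} ⊕ PUnit.{u + 1} → Sp S := Sum.elim (fun _ => X') fun _ => X
    let p : ∀ i, G i ⟶ F i := fun i => match i with | .inl _ => f' | .inr _ => f
    let q : ∀ i, G i ⟶ X := fun i => match i with | .inl _ => g' | .inr _ => 𝟙 X
    have hF : ∀ i, IsAlgSpace (F i) := fun i => match i with | .inl _ => hY' | .inr _ => hY
    have hG : ∀ i, IsAlgSpace (G i) := fun i => match i with | .inl _ => hX' | .inr _ => hX
    have hk : IsSmCover F k := ⟨fun i => match i with | .inl _ => hg | .inr _ => locP_id hY,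
      fun x => ⟨.inr ⟨⟩, x, Points.map_id x⟩⟩
    have hsq : ∀ i, IsPullback (q i) (p i) f (k i) := fun i => match i with
      | .inl _ => sq
      | .inr _ => IsPullback.id_horiz f
    exact (h2 F k hY hF hk f hX G p q hG hsq).1 hf (.inl ⟨⟩)
  · intro X Y hX hY f
    refine ⟨fun hf x => ⟨X, Y, 𝟙 X, 𝟙 Y, f, x, hX, hY, locP_id hX, locP_id hY, by simp,
      by simp, hf⟩, fun H => ?_⟩
    obtain ⟨U₀, p₀, -, hs₀⟩ := hX.atlas
    choose U V a b h v hU hV ha hb hw hv hP using fun z : ↥U₀.left => H (Points.ofPt p₀ z)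
    refine (h1 U a hX hU ⟨ha, fun x => ?_⟩ f hY).2 fun z => ?_
    · obtain ⟨z, rfl⟩ := surjective_ofPt hs₀ x
      exact ⟨z, v z, hv z⟩
    · rw [hw]
      exact h3 (hU z) (hV z) hY _ _ (hP z) (hb z)

/-- Consequences of `IsSmoothLocalST`. -/
theorem local_of_isSmoothLocalST {P : MorphismProperty (Sp S)} (hP : IsSmoothLocalST P) :
    IsLocalOnSource (IsSmCover (S := S)) P ∧ IsLocalOnBase (IsSmCover (S := S)) P ∧
    (∀ ⦃X Y Z : Sp S⦄, IsAlgSpace X → IsAlgSpace Y → IsAlgSpace Z → ∀ (f : X ⟶ Y) (g : Y ⟶ Z),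
      P f → LocP @Smooth g → P (f ≫ g)) := by
  refine ⟨?_, ?_, ?_⟩
  · intro ι X Xi g hX hXi hg Y f hY
    refine ⟨fun hf i => hP.precomp (hXi i) hX hY _ _ (hg.1 i) hf,
      fun H => (hP.locality hX hY f).2 fun x => ?_⟩
    obtain ⟨i, w, rfl⟩ := hg.2 x
    obtain ⟨U, V, a, b, h, v, hU, hV, ha, hb, hw, rfl, hh⟩ :=
      (hP.locality (hXi i) hY _).1 (H i) w
    exact ⟨U, V, a ≫ g i, b, h, v, hU, hV, locP_comp hU (hXi i) hX ha (hg.1 i), hb,
      by rw [Category.assoc, hw], Points.map_comp a (g i) v, hh⟩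
  · intro ι Y Yi g hY hYi hg X f hX Xi p q hXi sq
    refine ⟨fun hf i => hP.baseChange hX hY (hXi i) (hYi i) f (g i) (p i) (q i) (sq i) (hg.1 i) hf,
      fun H => (hP.locality hX hY f).2 fun x => ?_⟩
    obtain ⟨i, y, hy⟩ := hg.2 (Points.map f x)
    obtain ⟨w, rfl, -⟩ := exists_point_lift (sq i) x y hy.symm
    obtain ⟨U, V, a, b, h, v, hU, hV, ha, hb, hw, rfl, hh⟩ :=
      (hP.locality (hXi i) (hYi i) _).1 (H i) w
    refine ⟨U, V, a ≫ q i, b ≫ g i, h, v, hU, hV,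
      locP_comp hU (hXi i) hX ha (locP_of_isPullback (hYi i) hY hX (sq i).flip (hg.1 i)),
      locP_comp hV (hYi i) hY hb (hg.1 i), ?_, Points.map_comp a (q i) v, hh⟩
    rw [Category.assoc, (sq i).w, ← Category.assoc, hw, Category.assoc]
  · intro X Y Z hX hY hZ f g hf hg
    refine (hP.locality hX hZ _).2 fun x => ?_
    obtain ⟨U, V, a, b, h, v, hU, hV, ha, hb, hw, hv, hh⟩ := (hP.locality hX hY f).1 hf x
    exact ⟨U, V, a, b ≫ g, h, v, hU, hV, ha, locP_comp hV hY hZ hb hg,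
      by rw [← Category.assoc, hw, Category.assoc], hv, hh⟩

/-- Consequences of `IsEtaleSmoothLocalST`. -/
theorem local_of_isEtaleSmoothLocalST {P : MorphismProperty (Sp S)} (hP : IsEtaleSmoothLocalST P) :
    IsLocalOnSource (IsEtCover (S := S)) P ∧ IsLocalOnBase (IsSmCover (S := S)) P ∧
    (∀ ⦃X Y Z : Sp S⦄, IsAlgSpace X → IsAlgSpace Y → IsAlgSpace Z → ∀ (f : X ⟶ Y) (g : Y ⟶ Z),
      P f → IsEtaleMor g → P (f ≫ g)) ∧
    (∀ ⦃X Y Z : Sp S⦄, IsAlgSpace X → IsAlgSpace Y → IsAlgSpace Z → ∀ (f : X ⟶ Y) (g : Y ⟶ Z),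
      IsEtaleMor g → P (f ≫ g) → P f) := by
  refine ⟨?_, ?_, ?_, ?_⟩
  · intro ι X Xi g hX hXi hg Y f hY
    refine ⟨fun hf i => hP.precomp (hXi i) hX hY _ _ (hg.1 i) hf,
      fun H => (hP.locality hX hY f).2 fun x => ?_⟩
    obtain ⟨i, w, rfl⟩ := hg.2 x
    obtain ⟨V, W', U, b, p', q', e, v, hV, hW', hU, hb, sq', he, rfl, hh⟩ :=
      (hP.locality (hXi i) hY _).1 (H i) w
    have sqW := IsPullback.of_hasPullback f b
    have hW := isAlgSpace_pullback hY hX hV sqW
    let m := sqW.lift (p' ≫ g i) q' (by rw [Category.assoc]; exact sq'.w)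
    have sqm : IsPullback p' m (g i) (pullback.fst f b) :=
      IsPullback.of_bot (by simpa [m] using sq') (by simp [m]) sqW
    have hm : LocP @Etale m :=
      locP_of_isPullback (hXi i) hX hW sqm (locP_etale_of_isEtaleMor (hg.1 i))
    refine ⟨V, _, U, b, _, _, e ≫ m, v, hV, hW, hU, hb, sqW,
      isEtaleMor_of_locP_etale hU hW (locP_comp hU hW' hW (locP_etale_of_isEtaleMor he) hm), ?_, ?_⟩
    · rw [← Points.map_comp]
      simp [m]
    · simpa [m] using hh
  · intro ι Y Yi g hY hYi hg X f hX Xi p q hXi sq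
    refine ⟨fun hf i => hP.baseChange hX hY (hXi i) (hYi i) f (g i) (p i) (q i) (sq i) (hg.1 i) hf,
      fun H => (hP.locality hX hY f).2 fun x => ?_⟩
    obtain ⟨i, y, hy⟩ := hg.2 (Points.map f x)
    obtain ⟨w, rfl, -⟩ := exists_point_lift (sq i) x y hy.symm
    obtain ⟨V, W', U, b, p', q', e, v, hV, hW', hU, hb, sq', he, rfl, hh⟩ :=
      (hP.locality (hXi i) (hYi i) _).1 (H i) w
    refine ⟨V, W', U, b ≫ g i, p' ≫ q i, q', e, v, hV, hW', hU, locP_comp hV (hYi i) hY hb (hg.1 i),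
      sq'.paste_horiz (sq i), he, ?_, hh⟩
    rw [← Points.map_comp]
    simp
  · intro X Y Z hX hY hZ f g hf hg
    refine (hP.locality hX hZ _).2 fun x => ?_
    obtain ⟨V, W, U, b, p, q, e, v, hV, hW, hU, hb, sq, he, hv, hh⟩ := (hP.locality hX hY f).1 hf x
    have hg' := locP_etale_of_isEtaleMor hg
    have sqZ := IsPullback.of_hasPullback (f ≫ g) (b ≫ g)
    have hW' := isAlgSpace_pullback hZ hX hV sqZ
    have sqY := IsPullback.of_hasPullback g (b ≫ g)
    have hT := isAlgSpace_pullback hZ hY hV sqY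
    let σ := sqY.lift b (𝟙 V) (by simp)
    have hσ : LocP @Etale σ := locP_etale_of_comp hV hT hV
      (g := pullback.snd g (b ≫ g)) (by simp [σ, locP_id (P := @Etale) hV])
      (locP_of_isPullback hY hZ hV sqY hg')
    let n := sqY.lift (pullback.fst (f ≫ g) (b ≫ g) ≫ f) (pullback.snd (f ≫ g) (b ≫ g))
      (by rw [Category.assoc]; exact sqZ.w)
    let m := sqZ.lift p q (by rw [← Category.assoc, sq.w, Category.assoc])
    have sqn : IsPullback n (pullback.fst (f ≫ g) (b ≫ g)) (pullback.fst g (b ≫ g)) f :=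
      (IsPullback.of_right (h₁₁ := n) (by simpa [n] using sqZ.flip) (by simp [n]) sqY.flip)
    have sqm : IsPullback q m σ n :=
      IsPullback.of_bot (by simpa [σ, m] using sq.flip) (by
        apply sqY.hom_ext
        · simp [σ, n, m, sq.w]
        · simp [σ, n, m]) sqn
    have hm : LocP @Etale m := locP_of_isPullback hV hT hW' sqm hσ
    refine ⟨V, _, U, b ≫ g, _, _, e ≫ m, v, hV, hW', hU, locP_comp hV hY hZ hb (locP_of_isEtaleMor hg),
      sqZ, isEtaleMor_of_locP_etale hU hW' (locP_comp hU hW hW' (locP_etale_of_isEtaleMor he) hm), ?_, ?_⟩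
    · have : (e ≫ m) ≫ pullback.fst (f ≫ g) (b ≫ g) = e ≫ p := by simp [m]
      rw [this, hv]
    · simpa [m] using hh
  · intro X Y Z hX hY hZ f g hg hfg
    have sqP := IsPullback.of_hasPullback (f ≫ g) g
    have hT := isAlgSpace_pullback hZ hX hY sqP
    have h2 : P (pullback.snd (f ≫ g) g) :=
      hP.baseChange hX hZ hT hY _ _ _ _ sqP (locP_of_isEtaleMor hg) hfg
    let γ := sqP.lift (𝟙 X) f (by simp)
    have hγ : LocP @Etale γ := locP_etale_of_comp hX hT hX
      (g := pullback.fst (f ≫ g) g) (by simp [γ, locP_id (P := @Etale) hX])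
      (locP_of_isPullback hY hZ hX sqP.flip (locP_etale_of_isEtaleMor hg))
    have := hP.precomp hX hT hY γ _ (isEtaleMor_of_locP_etale hX hT hγ) h2
    simpa [γ] using this

end Groth.Agent.AlgSpDescent
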