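import Groth.Agent.Lib.AlgSpDescent.SrcLocal
import Groth.Agent.Lib.AlgSpace.Points
import Groth.Prelude.Def_AlgSpCov
import Mathlib.AlgebraicGeometry.Morphisms.FlatDescent

/-!
# Topological properties of morphisms of spaces are fpqc local on the base
-/

universe u

set_option backward.isDefEq.respectTransparency.types false

open CategoryTheory CategoryTheory.Limits AlgebraicGeometry Opposite MorphismProperty Topology

namespace Groth.Agent.AlgSpDescent

open AlgSp Groth.Agent.AlgSpace Groth.Agent.AlgSpDecent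

variable {S : Scheme.{u}}

/-- A point of a space over an fpqc covered space comes from an affine scheme lifting to the
covering. -/
theorem exists_affine_test {ι : Type u} {Y : Sp S} {Yi : ι → Sp S} {g : ∀ i, Yi i ⟶ Y}
    (hg : IsFpqcCover Yi g) {Z : Sp S} (h : Z ⟶ Y) (z : Points Z) :
    ∃ (W : Over S) (_ : IsAffine W.left) (w : (yon S).obj W ⟶ Z) (i : ι)
      (l : (yon S).obj W ⟶ Yi i), l ≫ g i = w ≫ h ∧ z ∈ Set.range (Points.map w) := by
  induction z using Points.ind with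
  | h p =>
    obtain ⟨m, W, c, hW, -, hc, hl⟩ :=
      hg.2 p.pt (inferInstanceAs (IsAffine (Spec (CommRingCat.of p.K)))) (p.toHom ≫ h)
    obtain ⟨j, w, hw⟩ := hc (IsLocalRing.closedPoint p.K)
    obtain ⟨i, l, hli⟩ := hl j
    refine ⟨W j, hW j, (yon S).map (c j) ≫ p.toHom, i, l, by rw [hli, Category.assoc],
      Points.ofScheme (W j) w, ?_⟩
    rw [Points.map_comp, map_toHom_eq]

/-- Openness can be tested on affine schemes lifting to an fpqc covering. -/
theorem isOpen_of_affine_test {ι : Type u} {Y : Sp S} {Yi : ι → Sp S} {g : ∀ i, Yi i ⟶ Y}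
    (hg : IsFpqcCover Yi g) {Z : Sp S} (h : Z ⟶ Y) {D : Set (Points Z)}
    (hD : ∀ (W : Over S), IsAffine W.left → ∀ (w : (yon S).obj W ⟶ Z) (i : ι)
      (l : (yon S).obj W ⟶ Yi i), l ≫ g i = w ≫ h → IsOpen (Points.map w ⁻¹' D)) : IsOpen D := by
  refine Points.isOpen_iff.2 fun T t => isOpen_iff_forall_mem_open.2 fun x hx => ?_
  obtain ⟨O, hO, hxO, -⟩ :=
    exists_isAffineOpen_mem_and_subset (X := T.left) (x := x) (U := ⊤) trivial
  let A : Over S := Over.mk (O.ι ≫ T.hom)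
  let a : (yon S).obj A ⟶ Z := (yon S).map (Over.homMk O.ι rfl : A ⟶ T) ≫ t
  have : IsAffine A.left := hO
  suffices hA : IsOpen (Points.ofPt a ⁻¹' D) by
    refine ⟨O.ι '' (Points.ofPt a ⁻¹' D), ?_, O.ι.isOpenEmbedding.isOpenMap _ hA,
      ⟨x, hxO⟩, ?_, rfl⟩
    · rintro _ ⟨y, hy, rfl⟩
      rw [Set.mem_preimage, ofPt_map_comp] at hy
      exact hy
    · rw [Set.mem_preimage, ofPt_map_comp]
      exact hx
  obtain ⟨m, W, c, hW, hc, hcs, hl⟩ := hg.2 A hO (a ≫ h)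
  let d := Sigma.desc fun j => (c j).left
  have : Surjective d := Surjective.sigmaDesc_of_union_range_eq_univ
    (Set.eq_univ_iff_forall.2 fun y => by
      obtain ⟨j, hj⟩ := hcs y
      exact Set.mem_iUnion.2 ⟨j, hj⟩)
  have : ∀ j, IsAffine (W j).left := hW
  have : Flat d := IsZariskiLocalAtSource.sigmaDesc hc
  rw [← (Flat.isQuotientMap_of_surjective d).isOpen_preimage]
  refine isOpen_iff_forall_mem_open.2 fun s hs => ?_
  obtain ⟨j, w, rfl⟩ := (sigmaOpenCover (fun j => (W j).left)).exists_eq s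
  change Points.ofPt a (d (Sigma.ι (fun j => (W j).left) j w)) ∈ D at hs
  rw [← Scheme.Hom.comp_apply, Sigma.ι_desc, ← ofPt_map_comp] at hs
  obtain ⟨i, l, hli⟩ := hl j
  have ho := (hD (W j) (hW j) ((yon S).map (c j) ≫ a) i l (by rw [hli]; simp [a])).preimage
    (Points.schemeHomeo (W j)).continuous
  have key : ∀ v : ↥(W j).left, Points.map ((yon S).map (c j) ≫ a) (Points.schemeHomeo (W j) v) =
      Points.ofPt a (d (Sigma.ι (fun j => (W j).left) j v)) := fun v => by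
    rw [← Scheme.Hom.comp_apply, Sigma.ι_desc, ← ofPt_map_comp]
    exact (Points.ofPt_eq_map_ofScheme _ v).symm
  refine ⟨Sigma.ι (fun j => (W j).left) j ''
    (Points.schemeHomeo (W j) ⁻¹' (Points.map ((yon S).map (c j) ≫ a) ⁻¹' D)), ?_,
    (Sigma.ι (fun j => (W j).left) j).isOpenEmbedding.isOpenMap _ ho, w, ?_, rfl⟩
  · rintro _ ⟨v, hv, rfl⟩
    change Points.ofPt a _ ∈ D
    rw [← key]
    exact hv
  · change _ ∈ D
    rw [key, ← Scheme.Hom.comp_apply, Sigma.ι_desc, ← ofPt_map_comp]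
    exact hs

/-- The base change to an affine scheme lifting to the covering is a base change of a member. -/
theorem exists_test_square {ι : Type u} {X Y : Sp S} {Yi Xi : ι → Sp S} {g : ∀ i, Yi i ⟶ Y}
    {f : X ⟶ Y} {p : ∀ i, Xi i ⟶ Yi i} {q : ∀ i, Xi i ⟶ X}
    (sq : ∀ i, IsPullback (q i) (p i) f (g i)) {Z Z' : Sp S} {h : Z ⟶ Y} {fst : Z' ⟶ X}
    {snd : Z' ⟶ Z} (sqZ : IsPullback fst snd f h) {W : Sp S} (w : W ⟶ Z) (i : ι) (l : W ⟶ Yi i)
    (hl : l ≫ g i = w ≫ h) :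
    ∃ (P : Sp S) (m : P ⟶ Z') (s : P ⟶ W) (n : P ⟶ Xi i),
      IsPullback m s snd w ∧ IsPullback n s (p i) l := by
  have sqm := IsPullback.of_hasPullback snd w
  have sqX := sqm.paste_horiz sqZ
  let n := (sq i).lift (pullback.fst snd w ≫ fst) (pullback.snd snd w ≫ l)
    (by rw [Category.assoc (pullback.snd snd w), hl]; exact sqX.w)
  exact ⟨_, _, _, n, sqm,
    IsPullback.of_right (h₁₁ := n) (by simpa [n, hl] using sqX) (by simp [n]) (sq i)⟩

variable {ι : Type u} {X Y : Sp S} {Yi Xi : ι → Sp S} {g : ∀ i, Yi i ⟶ Y}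
  {f : X ⟶ Y} {p : ∀ i, Xi i ⟶ Yi i} {q : ∀ i, Xi i ⟶ X}

/-- Universal properties of morphisms pass to base changes. -/
theorem univSp_of_isPullback {Q : MorphismProperty (Sp S)} {X' Y' : Sp S} {a : X' ⟶ X}
    {f' : X' ⟶ Y'} {b : Y' ⟶ Y} (sq : IsPullback a f' f b) (h : UnivSp Q f) : UnivSp Q f' :=
  fun _ _ hZ g fst snd sqZ => h hZ (g ≫ b) (fst ≫ a) snd (sqZ.paste_horiz sq)

section Point

variable (hg : IsFpqcCover Yi g) (sq : ∀ i, IsPullback (q i) (p i) f (g i))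
include hg sq

theorem injective_of_fpqc {Z Z' : Sp S} {h : Z ⟶ Y} {fst : Z' ⟶ X} {snd : Z' ⟶ Z}
    (sqZ : IsPullback fst snd f h) (hp : ∀ i, UnivSp (fun _ _ f => Function.Injective (Points.map f)) (p i)) :
    Function.Injective (Points.map snd) := by
  intro a b hab
  obtain ⟨W, hW, w, i, l, hl, v, hv⟩ := exists_affine_test hg h (Points.map snd a)
  obtain ⟨P, m, s, n, sqm, sqn⟩ := exists_test_square sq sqZ w i l hl
  obtain ⟨a', rfl, ha⟩ := exists_point_lift sqm a v hv.symm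
  obtain ⟨b', rfl, hb⟩ := exists_point_lift sqm b v (hab ▸ hv.symm)
  rw [hp i (IsAlgSpace.yon_obj W) l n s sqn (ha.trans hb.symm)]

theorem surjective_of_fpqc {Z Z' : Sp S} {h : Z ⟶ Y} {fst : Z' ⟶ X} {snd : Z' ⟶ Z}
    (sqZ : IsPullback fst snd f h) (hp : ∀ i, UnivSp IsSurjectiveMor (p i)) :
    Function.Surjective (Points.map snd) := by
  intro z
  obtain ⟨W, hW, w, i, l, hl, v, rfl⟩ := exists_affine_test hg h z
  obtain ⟨P, m, s, n, sqm, sqn⟩ := exists_test_square sq sqZ w i l hl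
  obtain ⟨u, rfl⟩ := hp i (IsAlgSpace.yon_obj W) l n s sqn v
  exact ⟨Points.map m u, by rw [← Points.map_comp, sqm.w, Points.map_comp]⟩

omit hg sq in
theorem preimage_image_of_isPullback {P Z' Z W : Sp S} {m : P ⟶ Z'} {s : P ⟶ W} {snd : Z' ⟶ Z}
    {w : W ⟶ Z} (sqm : IsPullback m s snd w) (C : Set (Points Z')) :
    Points.map w ⁻¹' (Points.map snd '' C) = Points.map s '' (Points.map m ⁻¹' C) := by
  ext v
  constructor
  · rintro ⟨c, hc, he⟩
    obtain ⟨u, hu, hu'⟩ := exists_point_lift sqm c v he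
    exact ⟨u, show Points.map m u ∈ C from hu ▸ hc, hu'⟩
  · rintro ⟨u, hu, rfl⟩
    exact ⟨_, hu, by rw [← Points.map_comp, sqm.w, Points.map_comp]⟩

theorem isOpenMap_of_fpqc {Z Z' : Sp S} {h : Z ⟶ Y} {fst : Z' ⟶ X} {snd : Z' ⟶ Z}
    (sqZ : IsPullback fst snd f h) (hp : ∀ i, IsUnivOpenMor (p i)) : IsOpenMap (Points.map snd) := by
  intro C hC
  refine isOpen_of_affine_test hg h fun W hW w i l hl => ?_
  obtain ⟨P, m, s, n, sqm, sqn⟩ := exists_test_square sq sqZ w i l hl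
  rw [preimage_image_of_isPullback sqm]
  exact hp i (IsAlgSpace.yon_obj W) l n s sqn _ (hC.preimage (Points.continuous_map m))

theorem isClosedMap_of_fpqc {Z Z' : Sp S} {h : Z ⟶ Y} {fst : Z' ⟶ X} {snd : Z' ⟶ Z}
    (sqZ : IsPullback fst snd f h) (hp : ∀ i, IsUnivClosedMor (p i)) :
    IsClosedMap (Points.map snd) := by
  intro C hC
  rw [← isOpen_compl_iff]
  refine isOpen_of_affine_test hg h fun W hW w i l hl => ?_
  obtain ⟨P, m, s, n, sqm, sqn⟩ := exists_test_square sq sqZ w i l hl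
  rw [Set.preimage_compl, preimage_image_of_isPullback sqm, isOpen_compl_iff]
  exact hp i (IsAlgSpace.yon_obj W) l n s sqn _ (hC.preimage (Points.continuous_map m))

theorem isQuotientMap_of_fpqc {Z Z' : Sp S} {h : Z ⟶ Y} {fst : Z' ⟶ X} {snd : Z' ⟶ Z}
    (sqZ : IsPullback fst snd f h) (hp : ∀ i, IsUnivSubmersiveMor (p i)) :
    IsQuotientMap (Points.map snd) := by
  refine (isQuotientMap_iff _).2 ⟨isCoinducing_iff.2 fun D =>
    ⟨fun hD => isOpen_of_affine_test hg h fun W hW w i l hl => ?_,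
      fun hD => hD.preimage (Points.continuous_map snd)⟩,
    surjective_of_fpqc hg sq sqZ fun i _ _ hW l a b sqn => (hp i hW l a b sqn).surjective⟩
  obtain ⟨P, m, s, n, sqm, sqn⟩ := exists_test_square sq sqZ w i l hl
  rw [← (hp i (IsAlgSpace.yon_obj W) l n s sqn).isOpen_preimage, ← Set.preimage_comp]
  convert hD.preimage (Points.continuous_map m) using 1
  ext x
  simp only [Set.mem_preimage, Function.comp_apply, ← Points.map_comp, sqm.w]

theorem isHomeomorph_of_fpqc {Z Z' : Sp S} {h : Z ⟶ Y} {fst : Z' ⟶ X} {snd : Z' ⟶ Z}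
    (sqZ : IsPullback fst snd f h) (hp : ∀ i, IsUnivHomeoMor (p i)) :
    IsHomeomorph (Points.map snd) :=
  ⟨Points.continuous_map snd,
    isOpenMap_of_fpqc hg sq sqZ fun i _ _ hW l a b s => (hp i hW l a b s).isOpenMap,
    injective_of_fpqc hg sq sqZ fun i _ _ hW l a b s => (hp i hW l a b s).bijective.1,
    surjective_of_fpqc hg sq sqZ fun i _ _ hW l a b s => (hp i hW l a b s).bijective.2⟩

theorem isQuasiCompactMor_of_fpqc (hY : IsAlgSpace Y) (hYi : ∀ i, IsAlgSpace (Yi i))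
    (hX : IsAlgSpace X) (hXi : ∀ i, IsAlgSpace (Xi i)) (hp : ∀ i, IsQuasiCompactMor (p i)) :
    IsQuasiCompactMor f := by
  intro Z Z' hZ hZc h fst snd sqZ
  have hZ' : IsAlgSpace Z' := isAlgSpace_pullback hY hX hZ sqZ
  refine (isQuasiCompactSp_iff hZ').2 ⟨?_⟩
  obtain ⟨U, π, hU, hπe, hπs⟩ := exists_affine_chart hZc
  obtain ⟨k, W, c, hW, -, hcs, hl⟩ := hg.2 U hU (π ≫ h)
  choose i l hl using hl
  choose P m s n sqm sqn using fun j =>
    exists_test_square sq sqZ ((yon S).map (c j) ≫ π) (i j) (l j) (by rw [hl, Category.assoc])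
  have hP : ∀ j, CompactSpace (Points (P j)) := fun j => by
    have := hW j
    refine (isQuasiCompactSp_iff (isAlgSpace_pullback (hYi (i j)) (hXi (i j)) (IsAlgSpace.yon_obj _)
      (sqn j))).1 (hp (i j) (IsAlgSpace.yon_obj _) ?_ _ _ _ (sqn j))
    exact ⟨W j, 𝟙 _, repWith_id _ _, repWith_id _ _, inferInstance⟩
  have : (Set.univ : Set (Points Z')) = ⋃ j, Set.range (Points.map (m j)) := by
    refine (Set.eq_univ_iff_forall.2 fun z' => ?_).symm
    obtain ⟨u, hu⟩ := surjective_ofPt hπs (Points.map snd z')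
    obtain ⟨j, v, rfl⟩ := hcs u
    obtain ⟨x, hx, -⟩ := exists_point_lift (sqm j) z' (Points.ofScheme (W j) v) (by
      rw [← hu, ← ofPt_map_comp, Points.ofPt_eq_map_ofScheme])
    exact Set.mem_iUnion.2 ⟨j, x, hx⟩
  rw [this]
  exact isCompact_iUnion fun j => isCompact_range (Points.continuous_map _)

end Point

theorem isLocalOnBase_fpqc_isQuasiCompactMor :
    IsLocalOnBase (IsFpqcCover (S := S)) IsQuasiCompactMor :=
  fun _ _ _ _ hY hYi hg _ _ hX _ _ _ hXi sq =>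
    ⟨fun hf i _ _ hZ hZc a b c s => hf hZ hZc (a ≫ _) (b ≫ _) c (s.paste_horiz (sq i)),
      fun hp => isQuasiCompactMor_of_fpqc hg sq hY hYi hX hXi hp⟩

theorem isLocalOnBase_fpqc_isUnivClosedMor :
    IsLocalOnBase (IsFpqcCover (S := S)) IsUnivClosedMor :=
  fun _ _ _ _ _ _ hg _ _ _ _ _ _ _ sq =>
    ⟨fun hf i => univSp_of_isPullback (sq i) hf,
      fun hp _ _ _ _ _ _ sqZ => isClosedMap_of_fpqc hg sq sqZ hp⟩

theorem isLocalOnBase_fpqc_isUnivOpenMor :
    IsLocalOnBase (IsFpqcCover (S := S)) IsUnivOpenMor :=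
  fun _ _ _ _ _ _ hg _ _ _ _ _ _ _ sq =>
    ⟨fun hf i => univSp_of_isPullback (sq i) hf,
      fun hp _ _ _ _ _ _ sqZ => isOpenMap_of_fpqc hg sq sqZ hp⟩

theorem isLocalOnBase_fpqc_isUnivSubmersiveMor :
    IsLocalOnBase (IsFpqcCover (S := S)) IsUnivSubmersiveMor :=
  fun _ _ _ _ _ _ hg _ _ _ _ _ _ _ sq =>
    ⟨fun hf i => univSp_of_isPullback (sq i) hf,
      fun hp _ _ _ _ _ _ sqZ => isQuotientMap_of_fpqc hg sq sqZ hp⟩

theorem isLocalOnBase_fpqc_isUnivInjectiveMor :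
    IsLocalOnBase (IsFpqcCover (S := S)) IsUnivInjectiveMor :=
  fun _ _ _ _ _ _ hg _ _ _ _ _ _ _ sq =>
    ⟨fun hf i => univSp_of_isPullback (sq i) hf,
      fun hp _ _ _ _ _ _ sqZ => injective_of_fpqc hg sq sqZ hp⟩

theorem isLocalOnBase_fpqc_isUnivHomeoMor :
    IsLocalOnBase (IsFpqcCover (S := S)) IsUnivHomeoMor :=
  fun _ _ _ _ _ _ hg _ _ _ _ _ _ _ sq =>
    ⟨fun hf i => univSp_of_isPullback (sq i) hf,
      fun hp _ _ _ _ _ _ sqZ => isHomeomorph_of_fpqc hg sq sqZ hp⟩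

theorem isLocalOnBase_and {τ : CovNotion S} {P Q : MorphismProperty (Sp S)}
    (hP : IsLocalOnBase τ P) (hQ : IsLocalOnBase τ Q) :
    IsLocalOnBase τ (fun _ _ f => P f ∧ Q f) := by
  intro ι Y Yi g hY hYi hg X f hX Xi p q hXi sq
  exact (and_congr (hP Yi g hY hYi hg f hX Xi p q hXi sq)
    (hQ Yi g hY hYi hg f hX Xi p q hXi sq)).trans forall_and.symm

end Groth.Agent.AlgSpDescent
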