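import Groth.Agent.Lib.AlgSpDescent.FpqcCalc
import Groth.Agent.Lib.AlgSpDescent.FpqcTop
import Groth.Agent.Lib.AlgSpace.Glue
import Mathlib.CategoryTheory.Sites.LeftExact
import Mathlib.CategoryTheory.Extensive

/-!
# fpqc locality on the base from a criterion on affine schemes
-/

universe u

set_option backward.isDefEq.respectTransparency.types false

open CategoryTheory CategoryTheory.Limits AlgebraicGeometry Opposite MorphismProperty

namespace Groth.Agent.AlgSpDescent

open AlgSp Groth.Agent.AlgSpace Groth.Agent.AlgSpDecent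

variable {S : Scheme.{u}}

/-- A disjoint union of schemes over `S`. -/
noncomputable abbrev coprodOver {κ : Type u} (W : κ → Over S) : Over S :=
  Over.mk (Sigma.desc fun j => (W j).hom : (∐ fun j => (W j).left) ⟶ S)

/-- The components of a disjoint union of schemes over `S`. -/
noncomputable abbrev coprodOverι {κ : Type u} (W : κ → Over S) (j : κ) : W j ⟶ coprodOver W :=
  Over.homMk (Sigma.ι (fun j => (W j).left) j) (by simp)

/-- `h` of a disjoint union of schemes is the coproduct of the sheaves. -/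
theorem nonempty_isColimit_coprodOver {κ : Type u} (W : κ → Over S) :
    Nonempty (IsColimit (Cofan.mk ((yon S).obj (coprodOver W))
      fun j => (yon S).map (coprodOverι W j))) := by
  have hπ : ∀ j, IsOpenImmersion (coprodOverι W j).left := fun j =>
    inferInstanceAs (IsOpenImmersion (Sigma.ι (fun j => (W j).left) j))
  have hc : ∀ t : ↥(coprodOver W).left, ∃ j v, (coprodOverι W j).left v = t := fun t =>
    (sigmaOpenCover (fun j => (W j).left)).exists_eq t
  have hl : ∀ {F : Sp S} (l : ∀ j, (yon S).obj (W j) ⟶ F) (i j : κ) (Z : Over S) (a : Z ⟶ W i)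
      (b : Z ⟶ W j), a ≫ coprodOverι W i = b ≫ coprodOverι W j →
        (yon S).map a ≫ l i = (yon S).map b ≫ l j := by
    intro F l i j Z a b h
    rcases eq_or_ne i j with rfl | hij
    · have : Mono (coprodOverι W i).left := have := hπ i; inferInstance
      have := (Over.forget S).mono_of_mono_map (f := coprodOverι W i) this
      rw [(cancel_mono _).1 h]
    · have hE : IsEmpty ↥Z.left :=
        isEmpty_of_commSq_sigmaι_of_ne (g := fun j => (W j).left) (a := a.left) (b := b.left)
          ⟨congrArg (fun k => k.left) h⟩ hij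
      exact hom_ext_glue (κ := PEmpty.{u + 1}) (T' := fun k => k.elim) (fun k => k.elim)
        (fun k => k.elim) (fun t => (hE.false t).elim) fun k => k.elim
  choose g hg hg' using fun s : Cofan fun j => (yon S).obj (W j) =>
    existsUnique_glue (coprodOverι W) hπ hc s.inj (hl s.inj)
  exact ⟨mkCofanColimit _ g hg hg'⟩

/-- fpqc locality on the base from the criterion on affine schemes. -/
theorem isLocalOnBase_fpqc_of_affine_criterion (P : MorphismProperty (Sp S))
    (h1 : ∀ ⦃ι : Type u⦄ [Finite ι] (Xi Yi : ι → Sp S) (fi : ∀ i, Xi i ⟶ Yi i)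
      (cX : Cofan Xi) (cY : Cofan Yi) (_hcX : IsColimit cX) (_hcY : IsColimit cY) (m : cX.pt ⟶ cY.pt),
      (∀ i, IsAlgSpace (Xi i)) → (∀ i, IsAlgSpace (Yi i)) →
      IsAlgSpace cX.pt → IsAlgSpace cY.pt →
      (∀ i, cX.inj i ≫ m = fi i ≫ cY.inj i) → (∀ i, P (fi i)) → P m)
    (h2 : ∀ ⦃X Y : Sp S⦄, IsAlgSpace X → IsAlgSpace Y → ∀ (f : X ⟶ Y),
      P f ↔ ∀ (Z : Over S), IsAffine Z.left → ∀ (g : (yon S).obj Z ⟶ Y) (W : Sp S)
        (fst : W ⟶ X) (snd : W ⟶ (yon S).obj Z), IsAlgSpace W → IsPullback fst snd f g → P snd)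
    (h3 : ∀ ⦃Z Z' : Over S⦄ (c : Z' ⟶ Z), IsAffine Z.left → IsAffine Z'.left → Surjective c.left → Flat c.left →
      ∀ ⦃X X' : Sp S⦄ (f : X ⟶ (yon S).obj Z) (fst : X' ⟶ X) (f' : X' ⟶ (yon S).obj Z'),
        IsAlgSpace X → IsAlgSpace X' → IsPullback fst f' f ((yon S).map c) → P f' → P f) :
    IsLocalOnBase (IsFpqcCover (S := S)) P := by
  intro ι Y Yi g hY hYi hg X f hX Xi p q hXi sq
  refine ⟨fun hf i => (h2 (hXi i) (hYi i) (p i)).2 fun Z hZ t W fst snd hW sqW =>
    (h2 hX hY f).1 hf Z hZ _ W _ snd hW (sqW.paste_horiz (sq i)), fun hp => ?_⟩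
  refine (h2 hX hY f).2 fun Z hZ t W fst snd hW sqW => ?_
  obtain ⟨m, V, c, hV, hc, hcs, hl⟩ := hg.2 Z hZ t
  let V' : ULift.{u} (Fin m) → Over S := fun j => V j.down
  let Z' := coprodOver V'
  let c' : Z' ⟶ Z := Over.homMk (Sigma.desc fun j => (c j.down).left)
    (by apply Sigma.hom_ext; intro j; simp [Z', V'])
  have : ∀ j, IsAffine (V' j).left := fun j => hV j.down
  have hZ' : IsAffine Z'.left := inferInstanceAs (IsAffine (∐ fun j => (V' j).left))
  have hcs' : Surjective c'.left := Surjective.sigmaDesc_of_union_range_eq_univ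
    (Set.eq_univ_iff_forall.2 fun z => by
      obtain ⟨j, hj⟩ := hcs z
      exact Set.mem_iUnion.2 ⟨⟨j⟩, hj⟩)
  have hcf : Flat c'.left := IsZariskiLocalAtSource.sigmaDesc fun j => hc j.down
  have sq' := IsPullback.of_hasPullback snd ((yon S).map c')
  have hW' := isAlgSpace_pullback (IsAlgSpace.yon_obj Z) hW (IsAlgSpace.yon_obj Z') sq'
  refine h3 c' hZ hZ' hcs' hcf snd _ _ hW hW' sq' ?_
  obtain ⟨hcY⟩ := nonempty_isColimit_coprodOver V'
  have sqj := fun j => IsPullback.of_hasPullback (pullback.snd snd ((yon S).map c'))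
    ((yon S).map (coprodOverι V' j))
  have hWj := fun j => isAlgSpace_pullback (IsAlgSpace.yon_obj Z') hW' (IsAlgSpace.yon_obj (V' j))
    (sqj j)
  obtain ⟨hcX⟩ := (FinitaryPreExtensive.isUniversal_finiteCoproducts hcY) (Cofan.mk _
      fun j => pullback.fst (pullback.snd snd ((yon S).map c')) ((yon S).map (coprodOverι V' j)))
    (Discrete.natTrans fun j => pullback.snd (pullback.snd snd ((yon S).map c'))
      ((yon S).map (coprodOverι V' j.as))) (pullback.snd snd ((yon S).map c'))
    (by ext ⟨j⟩; simp [pullback.condition]) (.of_discrete _) fun j => sqj j.as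
  refine h1 _ _ (fun j => pullback.snd (pullback.snd snd ((yon S).map c')) ((yon S).map (coprodOverι V' j))) _ _ hcX hcY _ hWj
    (fun j => IsAlgSpace.yon_obj _) hW' (IsAlgSpace.yon_obj Z') (fun j => pullback.condition) ?_
  intro j
  obtain ⟨i, l, hli⟩ := hl j.down
  have sqX := (sqj j).paste_horiz (sq'.paste_horiz sqW)
  have hl' : l ≫ g i = (yon S).map (coprodOverι V' j) ≫ (yon S).map c' ≫ t := by
    rw [hli, ← Functor.map_comp_assoc]
    congr 2
    ext
    simp [c', V']
  let n := (sq i).lift _ (pullback.snd (pullback.snd snd ((yon S).map c')) ((yon S).map (coprodOverι V' j)) ≫ l)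
    (by rw [Category.assoc (pullback.snd (pullback.snd snd ((yon S).map c')) ((yon S).map (coprodOverι V' j))) l (g i), hl']; exact sqX.w)
  exact (h2 (hXi i) (hYi i) (p i)).1 (hp i) (V' j) (hV j.down) l _ n _ (hWj j)
    (IsPullback.of_right (h₁₁ := n) (by simpa only [n, hl', IsPullback.lift_fst] using sqX)
      (by simp [n]) (sq i))

end Groth.Agent.AlgSpDescent
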