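import Groth.Agent.Lib.AlgSpDescent.RepBase2
import Groth.Agent.Lib.AlgSpace.AffineDescent
import Mathlib.AlgebraicGeometry.Sites.Fpqc

/-!
# Fpqc descent of affine morphisms of algebraic spaces

An algebraic space over an affine scheme which becomes affine after a faithfully flat base change to an
affine scheme is affine; hence affine and integral morphisms are fpqc local on the base.
-/

universe u

set_option backward.isDefEq.respectTransparency.types false

open CategoryTheory CategoryTheory.Limits AlgebraicGeometry Opposite MorphismProperty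

namespace Groth.Agent.AlgSpDescent

open AlgSp Groth.Agent.AlgSpace Groth.Agent.AlgSpDecent AffineDescent

variable {S : Scheme.{u}}

/-- The descended affine scheme of a faithfully flat affine base change. -/
theorem exists_descent {X : Sp S} {Z V W : Over S} (π : X ⟶ (yon S).obj Z) (v : V ⟶ Z)
    [IsAffine Z.left] [IsAffine V.left] [IsAffine W.left] [Flat v.left] (p : W ⟶ V)
    (m : (yon S).obj W ⟶ X) (sq : IsPullback m ((yon S).map p) π ((yon S).map v)) :
    ∃ (A : Over S) (i : A ⟶ Z) (h : W ⟶ A), IsAffine A.left ∧ IsPullback h p i v ∧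
      ∀ {T : Over S} (x y : T ⟶ W),
        (yon S).map x ≫ m = (yon S).map y ≫ m → x ≫ h = y ≫ h := by
  let B := Γ(Z.left, ⊤)
  let sZ : Spec B ⟶ S := Z.left.isoSpec.inv ≫ Z.hom
  letI algC : Algebra B Γ(V.left, ⊤) := v.left.appTop.hom.toAlgebra
  letI algO : Algebra B Γ(W.left, ⊤) := (p ≫ v).left.appTop.hom.toAlgebra
  let γ : Γ(V.left, ⊤) →ₐ[B] Γ(W.left, ⊤) :=
    { toRingHom := p.left.appTop.hom, commutes' := fun _ => rfl }
  let eZ : Z ≅ Over.mk sZ := Over.isoMk Z.left.isoSpec (by simp [sZ])
  have hV : V.left.isoSpec.hom ≫ Spec.map v.left.appTop = v.left ≫ Z.left.isoSpec.hom :=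
    Scheme.isoSpec_hom_naturality _
  have hW : W.left.isoSpec.hom ≫ Spec.map (p ≫ v).left.appTop = (p ≫ v).left ≫ Z.left.isoSpec.hom :=
    Scheme.isoSpec_hom_naturality _
  let eV : V ≅ specOver sZ Γ(V.left, ⊤) := Over.isoMk V.left.isoSpec (by
    change V.left.isoSpec.hom ≫ Spec.map v.left.appTop ≫ Z.left.isoSpec.inv ≫ Z.hom = V.hom
    rw [reassoc_of% hV, Iso.hom_inv_id_assoc, Over.w v])
  let eW : W ≅ specOver sZ Γ(W.left, ⊤) := Over.isoMk W.left.isoSpec (by
    change W.left.isoSpec.hom ≫ Spec.map (p ≫ v).left.appTop ≫ Z.left.isoSpec.inv ≫ Z.hom = W.hom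
    rw [reassoc_of% hW, Iso.hom_inv_id_assoc, Over.w (p ≫ v)])
  have hv : eV.hom ≫ toBase sZ Γ(V.left, ⊤) = v ≫ eZ.hom := Over.OverMorphism.ext hV
  have hp : eW.hom ≫ specMap sZ γ = p ≫ eV.hom :=
    Over.OverMorphism.ext (Scheme.isoSpec_hom_naturality p.left)
  have hflat : Module.Flat B Γ(V.left, ⊤) :=
    (HasRingHomProperty.iff_of_isAffine (P := @Flat) (f := v.left)).1 ‹_›
  have sq' : IsPullback ((yon S).map eW.inv ≫ m) ((yon S).map (specMap sZ γ))
      (π ≫ (yon S).map eZ.hom) ((yon S).map (toBase sZ Γ(V.left, ⊤))) := by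
    refine IsPullback.of_iso sq ((yon S).mapIso eW) (Iso.refl _) ((yon S).mapIso eV)
      ((yon S).mapIso eZ) ?_ ?_ ?_ ?_
    · simp
    · simp only [Functor.mapIso_hom, ← Functor.map_comp, hp]
    · simp
    · simp only [Functor.mapIso_hom, ← Functor.map_comp, hv]
  obtain ⟨A, i, h, hA, sqh, -, hdesc⟩ :=
    exists_descent_spec sZ Γ(V.left, ⊤) Γ(W.left, ⊤) _ γ _ sq'
  refine ⟨A, i ≫ eZ.inv, eW.hom ≫ h, hA, ?_, fun x y e => ?_⟩
  · exact IsPullback.of_iso sqh eW.symm (Iso.refl A) eV.symm eZ.symm
      (by simp)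
      (by rw [Iso.symm_hom, Iso.symm_hom, Iso.eq_inv_comp, ← Category.assoc, hp, Category.assoc,
        Iso.hom_inv_id, Category.comp_id])
      (by simp)
      (by rw [Iso.symm_hom, Iso.symm_hom, Iso.eq_inv_comp, ← Category.assoc, hv, Category.assoc,
        Iso.hom_inv_id, Category.comp_id])
  · rw [← Category.assoc, ← Category.assoc]
    exact hdesc _ _ (by simpa using e)

/-- An algebraic space over an affine scheme which is affine after a faithfully flat affine base
change is affine. -/
theorem exists_iso_affine_of_fpqc {X : Sp S} (hX : IsAlgSpace X) {Z V W : Over S} [IsAffine Z.left]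
    [IsAffine V.left] [IsAffine W.left] (π : X ⟶ (yon S).obj Z) (v : V ⟶ Z) [Flat v.left]
    [Surjective v.left] (p : W ⟶ V) (m : (yon S).obj W ⟶ X)
    (sq : IsPullback m ((yon S).map p) π ((yon S).map v)) :
    ∃ (A : Over S) (i : A ⟶ Z) (φ : X ⟶ (yon S).obj A), IsAffine A.left ∧ IsIso φ ∧
      φ ≫ (yon S).map i = π := by
  obtain ⟨A, i, h, hA, sqh, hdesc⟩ := exists_descent π v p m sq
  obtain ⟨U, p₀, hpe, hps⟩ := hX.atlas
  obtain ⟨u, hu⟩ := (yon S).map_surjective (p₀ ≫ π)
  have : QuasiCompact v.left := inferInstance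
  -- maps into a base change of `v` are descended
  have hepi : ∀ {T : Over S} (t : T ⟶ Z), Epi (pullback.fst t v).left ∧
      Flat (pullback.fst t v).left ∧ Surjective (pullback.fst t v).left ∧
      QuasiCompact (pullback.fst t v).left := fun t => by
    have sqt := (IsPullback.of_hasPullback t v).flip.map (Over.forget S)
    have : Flat (pullback.fst t v).left := MorphismProperty.of_isPullback (P := @Flat) sqt ‹_›
    have : Surjective (pullback.fst t v).left :=
      MorphismProperty.of_isPullback (P := @Surjective) sqt ‹_›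
    have : QuasiCompact (pullback.fst t v).left :=
      MorphismProperty.of_isPullback (P := @QuasiCompact) sqt ‹_›
    exact ⟨inferInstance, ‹_›, ‹_›, ‹_›⟩
  have hlift : ∀ {T : Over S} (t : T ⟶ U), ∃ x : Limits.pullback (t ≫ u) v ⟶ W,
      (yon S).map x ≫ m = (yon S).map (pullback.fst _ _ ≫ t) ≫ p₀ := fun {T} t => by
    obtain ⟨x, hx⟩ := (yon S).map_surjective
      (sq.lift ((yon S).map (pullback.fst (t ≫ u) v ≫ t) ≫ p₀) ((yon S).map (pullback.snd (t ≫ u) v))
        (by rw [Category.assoc, ← hu, ← Functor.map_comp, ← Functor.map_comp, Category.assoc,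
          pullback.condition]))
    exact ⟨x, by rw [hx, sq.lift_fst]⟩
  -- the map on the atlas
  let U' := Limits.pullback u v
  let e : U' ⟶ U := pullback.fst u v
  obtain ⟨-, hef, hes, heq⟩ := hepi u
  obtain ⟨w', hw'⟩ := (yon S).map_surjective
    (sq.lift ((yon S).map e ≫ p₀) ((yon S).map (pullback.snd u v))
      (by rw [Category.assoc, ← hu, ← Functor.map_comp, ← Functor.map_comp, pullback.condition]))
  have hw'm : (yon S).map w' ≫ m = (yon S).map e ≫ p₀ := by rw [hw', sq.lift_fst]
  have hc : ∀ {T : Scheme.{u}} (g₁ g₂ : T ⟶ U'.left), g₁ ≫ e.left = g₂ ≫ e.left →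
      g₁ ≫ (w' ≫ h).left = g₂ ≫ (w' ≫ h).left := fun {T} g₁ g₂ eg => by
    let T₀ : Over S := Over.mk (g₁ ≫ U'.hom)
    let a₁ : T₀ ⟶ U' := Over.homMk g₁ rfl
    let a₂ : T₀ ⟶ U' := Over.homMk g₂ (by
      show g₂ ≫ U'.hom = g₁ ≫ U'.hom
      rw [← Over.w e, reassoc_of% eg])
    have he : a₁ ≫ e = a₂ ≫ e := Over.OverMorphism.ext eg
    have := hdesc (a₁ ≫ w') (a₂ ≫ w') (by
      rw [Functor.map_comp_assoc, Functor.map_comp_assoc, hw'm, ← Functor.map_comp_assoc, he,
        Functor.map_comp_assoc])
    rw [Category.assoc, Category.assoc] at this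
    exact congrArg CommaMorphism.left this
  let a₀ : U.left ⟶ A.left := EffectiveEpi.desc e.left (w' ≫ h).left hc
  have ha₀ : e.left ≫ a₀ = (w' ≫ h).left := EffectiveEpi.fac e.left _ hc
  let a : U ⟶ A := Over.homMk a₀ (by
    rw [← cancel_epi e.left, reassoc_of% ha₀, Over.w (w' ≫ h)]
    exact (Over.w e).symm)
  have ha : e ≫ a = w' ≫ h := Over.OverMorphism.ext ha₀
  -- descend to `X`
  have hcomp : ∀ {T : Over S} (t t' : T ⟶ U),
      (yon S).map t ≫ p₀ = (yon S).map t' ≫ p₀ → t ≫ a = t' ≫ a := fun {T} t t' ett => by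
    have etu : t ≫ u = t' ≫ u := (yon S).map_injective (by
      rw [Functor.map_comp, Functor.map_comp, hu, reassoc_of% ett])
    let d := pullback.fst (t ≫ u) v
    obtain ⟨hd, -⟩ := hepi (t ≫ u)
    let l : Limits.pullback (t ≫ u) v ⟶ U' := pullback.lift (d ≫ t) (pullback.snd _ _)
      (by rw [Category.assoc]; exact pullback.condition)
    let l' : Limits.pullback (t ≫ u) v ⟶ U' := pullback.lift (d ≫ t') (pullback.snd _ _)
      (by rw [Category.assoc, ← etu]; exact pullback.condition)
    have := hdesc (l ≫ w') (l' ≫ w') (by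
      simp only [Functor.map_comp_assoc, hw'm]
      simp only [← Functor.map_comp_assoc, l, l', e, pullback.lift_fst]
      rw [Functor.map_comp_assoc, Functor.map_comp_assoc, ett])
    rw [Category.assoc, Category.assoc, ← ha, ← Category.assoc, ← Category.assoc] at this
    simp only [l, l', e, pullback.lift_fst, Category.assoc] at this
    have hd' : Epi d := (Over.forget S).epi_of_epi_map hd
    exact (cancel_epi d).1 this
  have := isLocallySurjective_of_etale hpe hps
  have : Epi p₀ := Sheaf.epi_of_isLocallySurjective' p₀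
  have hreg : IsRegularEpi p₀ := IsRegularEpiCategory.regularEpiOfEpi p₀
  obtain ⟨φ, hφ⟩ := (IsRegularEpi.getStruct p₀).desc' ((yon S).map a) (hom_ext_yon fun T t => by
    obtain ⟨x, hx⟩ := (yon S).map_surjective (t ≫ (IsRegularEpi.getStruct p₀).left)
    obtain ⟨y, hy⟩ := (yon S).map_surjective (t ≫ (IsRegularEpi.getStruct p₀).right)
    rw [← Category.assoc, ← Category.assoc, ← hx, ← hy, ← Functor.map_comp, ← Functor.map_comp]
    refine congrArg _ (hcomp x y ?_)
    rw [hx, hy, Category.assoc, Category.assoc, (IsRegularEpi.getStruct p₀).w])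
  have hau : a ≫ i = u := by
    have : Epi e := (Over.forget S).epi_of_epi_map (hepi u).1
    rw [← cancel_epi e, reassoc_of% ha, sqh.w, ← Category.assoc]
    have : w' ≫ p = pullback.snd u v := (yon S).map_injective (by
      rw [Functor.map_comp, hw', sq.lift_snd])
    rw [this]
    exact pullback.condition.symm
  have hφπ : φ ≫ (yon S).map i = π := by
    rw [← cancel_epi p₀, reassoc_of% hφ, ← Functor.map_comp, hau, hu]
  have hmφ : m ≫ φ = (yon S).map h := by
    obtain ⟨Q, qW, qU, sqQ⟩ := hpe.1 m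
    obtain ⟨qU, rfl⟩ := (yon S).map_surjective qU
    have := isLocallySurjective_of_etale (a := (yon S).map qW)
      ((repWith_yon_map_iff _ _).2 (hpe.2 m _ _ sqQ))
      ((repWith_yon_map_iff _ _).2 (hps.2 m _ _ sqQ))
    have : Epi ((yon S).map qW) := Sheaf.epi_of_isLocallySurjective' _
    rw [← cancel_epi ((yon S).map qW), ← reassoc_of% sqQ.w, hφ, ← Functor.map_comp,
      ← Functor.map_comp]
    refine congrArg _ ?_
    have hl : qU ≫ u = (qW ≫ p) ≫ v := (yon S).map_injective (by
      simp only [Functor.map_comp, hu, Category.assoc]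
      rw [reassoc_of% sqQ.w, sq.w])
    let l : Q ⟶ U' := pullback.lift qU (qW ≫ p) hl
    have hle : l ≫ e = qU := pullback.lift_fst _ _ _
    rw [← hle, Category.assoc, ha, ← Category.assoc]
    refine hdesc _ _ ?_
    rw [Functor.map_comp_assoc, hw'm, ← Functor.map_comp_assoc, hle]
    exact sqQ.w
  have sqI : IsPullback m (𝟙 _) φ ((yon S).map h) := by
    refine IsPullback.of_bot ?_
      (by rw [Category.id_comp, hmφ]) (sqh.map (yon S))
    rw [Category.id_comp, hφπ]
    exact sq
  have sqh' := sqh.map (Over.forget S)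
  have hhf : Flat h.left := MorphismProperty.of_isPullback (P := @Flat) sqh'.flip ‹_›
  have hhs : Surjective h.left := MorphismProperty.of_isPullback (P := @Surjective) sqh'.flip ‹_›
  have hcov : IsFpqcCover (fun _ : PUnit.{u + 1} => (yon S).obj W) (fun _ => (yon S).map h) := by
    refine ⟨fun _ => locP_of_repWith (IsAlgSpace.yon_obj A) ((repWith_yon_map_iff _ _).2 hhf),
      fun T hT g => ?_⟩
    obtain ⟨g, rfl⟩ := (yon S).map_surjective g
    have sqT := IsPullback.of_hasPullback g h
    have : IsAffineHom h.left := inferInstance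
    have hF : Flat (pullback.fst g h).left :=
      MorphismProperty.of_isPullback (P := @Flat) (sqT.flip.map (Over.forget S)) hhf
    have hS : Surjective (pullback.fst g h).left :=
      MorphismProperty.of_isPullback (P := @Surjective) (sqT.flip.map (Over.forget S)) hhs
    have hA' : IsAffineHom (pullback.fst g h).left :=
      MorphismProperty.of_isPullback (P := @IsAffineHom) (sqT.flip.map (Over.forget S)) ‹_›
    refine ⟨1, fun _ => Limits.pullback g h, fun _ => pullback.fst g h,
      fun _ => isAffine_of_isAffineHom (pullback.fst g h).left, fun _ => hF,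
      fun z => ⟨0, hS.surj z⟩, fun _ => ⟨PUnit.unit, (yon S).map (pullback.snd g h), ?_⟩⟩
    rw [← Functor.map_comp, ← Functor.map_comp, pullback.condition]
  have hiso : IsIso φ := (isLocalOnBase_fpqc_isomorphisms (S := S) _ _ (IsAlgSpace.yon_obj A)
    (fun _ => IsAlgSpace.yon_obj W) hcov φ hX (fun _ => (yon S).obj W) (fun _ => 𝟙 _) (fun _ => m)
    (fun _ => IsAlgSpace.yon_obj W) fun _ => sqI).2 fun _ => inferInstanceAs (IsIso (𝟙 _))
  exact ⟨A, i, φ, hA, hiso, hφπ⟩

/-- A morphism is representable if its base changes along an fpqc covering are affine. -/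
theorem representable_of_fpqc_affine {P : MorphismProperty Scheme.{u}} (hP : P ≤ @IsAffineHom)
    {ι : Type u} {X Y : Sp S} {Yi Xi : ι → Sp S} {g : ∀ i, Yi i ⟶ Y} {f : X ⟶ Y}
    {p : ∀ i, Xi i ⟶ Yi i} {q : ∀ i, Xi i ⟶ X} (hY : IsAlgSpace Y) (hX : IsAlgSpace X)
    (hg : IsFpqcCover Yi g) (sq : ∀ i, IsPullback (q i) (p i) f (g i))
    (hp : ∀ i, RepWith P (p i)) : Representable f := by
  refine (repWith_of_affine_family (P := @IsAffineHom) fun Z hZ t => ?_).1
  obtain ⟨n, W, c, hW, hc, hcs, hl⟩ := hg.2 Z hZ t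
  choose k l hl using hl
  let V : Over S := Over.mk (Sigma.desc fun j => (W j).hom)
  have : IsAffine V.left := inferInstanceAs (IsAffine (∐ fun j => (W j).left))
  let inj : ∀ j, W j ⟶ V := fun j => Over.homMk (Sigma.ι (fun j => (W j).left) j) (Sigma.ι_desc _ _)
  let v : V ⟶ Z := Over.homMk (Sigma.desc fun j => (c j).left)
    (Sigma.hom_ext _ _ fun j => by simp [V])
  have hv : ∀ j, inj j ≫ v = c j := fun j => Over.OverMorphism.ext (Sigma.ι_desc _ _)
  have : Flat v.left := IsZariskiLocalAtSource.sigmaDesc hc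
  have : Surjective v.left := Surjective.sigmaDesc_of_union_range_eq_univ
    (Set.eq_univ_iff_forall.2 fun z => Set.mem_iUnion.2 (hcs z))
  have sqX := IsPullback.of_hasPullback f t
  have sqV := IsPullback.of_hasPullback (pullback.snd f t) ((yon S).map v)
  let πV := pullback.snd (pullback.snd f t) ((yon S).map v)
  have := FpqcDesc.descendsAlong_isAffineHom.{u}
  have hπV : RepWith @IsAffineHom πV := by
    have hrep : Representable πV := representable_of_zariski πV fun T g' τ => by
      obtain ⟨g', rfl⟩ := (yon S).map_surjective g'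
      obtain ⟨j, w, hw⟩ := (sigmaOpenCover fun j => (W j).left).exists_eq (g'.left τ)
      let O : T.left.Opens := g'.left ⁻¹ᵁ (Sigma.ι (fun j => (W j).left) j).opensRange
      have hr : Set.range (O.ι ≫ g'.left) ⊆ Set.range (Sigma.ι (fun j => (W j).left) j) := by
        rintro _ ⟨x, rfl⟩; exact x.2
      let k' : Over.mk (O.ι ≫ T.hom) ⟶ W j := Over.homMk (IsOpenImmersion.lift _ _ hr) (by
        change IsOpenImmersion.lift _ _ hr ≫ (W j).hom = O.ι ≫ T.hom
        rw [← Over.w (inj j), ← Over.w g']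
        exact IsOpenImmersion.lift_fac_assoc _ _ hr _)
      have hk' : k' ≫ inj j = overArrow O.ι ≫ g' :=
        Over.OverMorphism.ext (IsOpenImmersion.lift_fac _ _ hr)
      have sql := (hp (k j)).1.isPullback ((yon S).map k' ≫ l j)
      have e : (((yon S).map (overArrow O.ι) ≫ (yon S).map g') ≫ (yon S).map v) ≫ t =
          ((yon S).map k' ≫ l j) ≫ g (k j) := by
        rw [← Functor.map_comp, ← hk', ← Functor.map_comp, Category.assoc, hv, Functor.map_comp, Category.assoc, ← hl,
          Category.assoc]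
      have big := sql.paste_horiz (sq (k j))
      rw [← e] at big
      have big' := IsPullback.of_right' big sqX
      exact ⟨O, ⟨w, hw⟩, _, _, _, IsPullback.of_right' big' sqV⟩
    refine repWith_of_fpqc (ι := ULift.{u} (Fin n)) (Yi := fun j => (yon S).obj (W j.down))
      (g := fun j => (yon S).map (inj j.down)) (Xi := fun j => pullback πV ((yon S).map (inj j.down)))
      (q := fun j => pullback.fst _ _) (p := fun j => pullback.snd _ _) ?_
      (fun j => IsPullback.of_hasPullback _ _) hrep fun ⟨j⟩ => ?_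
    · refine isFpqcCover_of_isFppfCover (IsAlgSpace.yon_obj V) (fun _ => IsAlgSpace.yon_obj _)
        ⟨fun j => ⟨locP_of_repWith (IsAlgSpace.yon_obj V) ((repWith_yon_map_iff _ _).2 ?_),
          locP_of_repWith (IsAlgSpace.yon_obj V) ((repWith_yon_map_iff _ _).2 ?_)⟩, fun x => ?_⟩
      · exact inferInstanceAs (Flat (Sigma.ι (fun j => (W j).left) j.down))
      · exact inferInstanceAs (LocallyOfFinitePresentation (Sigma.ι (fun j => (W j).left) j.down))
      · obtain ⟨y, rfl⟩ := (Points.schemeEquiv V).surjective x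
        obtain ⟨j, w, rfl⟩ := (sigmaOpenCover fun j => (W j).left).exists_eq y
        refine ⟨⟨j⟩, Points.ofScheme _ w, ?_⟩
        rw [← Points.ofPt_eq_map_ofScheme, ofPt_map_eq]
        rfl
    · have sq₂ := ((IsPullback.of_hasPullback πV ((yon S).map (inj j))).paste_horiz sqV).paste_horiz sqX
      rw [← Functor.map_comp, hv j, ← hl] at sq₂
      have sq₃ := IsPullback.of_right' sq₂ (sq (k j))
      exact repWith_mono hP (repWith_of_isPullback sq₃ (hp (k j)))
  obtain ⟨Wv, pv, mv, sqWv⟩ := hπV.1 (𝟙 _)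
  have hpv : IsAffineHom pv.left := hπV.2 _ _ _ sqWv
  have : IsAffine Wv.left := isAffine_of_isAffineHom pv.left
  have sqW' : IsPullback (mv ≫ pullback.fst _ _) ((yon S).map pv) (pullback.snd f t) ((yon S).map v) := by
    simpa using sqWv.paste_horiz sqV
  obtain ⟨A, i, φ, hA, hφ, hφi⟩ := exists_iso_affine_of_fpqc
    (isAlgSpace_pullback hY hX (IsAlgSpace.yon_obj Z) sqX) (pullback.snd f t) v pv _ sqW'
  refine ⟨A, i, inv φ ≫ pullback.fst f t, ?_, inferInstance⟩
  exact IsPullback.of_iso sqX (asIso φ) (Iso.refl _) (Iso.refl _) (Iso.refl _) (by simp)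
    (by simp [hφi]) (by simp) (by simp)

theorem isLocalOnBase_fpqc_isAffineMor : IsLocalOnBase (IsFpqcCover (S := S)) IsAffineMor := by
  intro ι Y Yi g hY hYi hg X f hX Xi p q hXi sq
  simp only [isAffineMor_iff_repWith]
  have := FpqcDesc.descendsAlong_isAffineHom.{u}
  exact ⟨fun hf i => repWith_of_isPullback (sq i) hf, fun hp =>
    repWith_of_fpqc hg sq (representable_of_fpqc_affine le_rfl hY hX hg sq hp) hp⟩

theorem isLocalOnBase_fpqc_isIntegralMor : IsLocalOnBase (IsFpqcCover (S := S)) IsIntegralMor := by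
  intro ι Y Yi g hY hYi hg X f hX Xi p q hXi sq
  simp only [isIntegralMor_iff_repWith]
  have := FpqcDesc.descendsAlong_isIntegralHom.{u}
  exact ⟨fun hf i => repWith_of_isPullback (sq i) hf, fun hp =>
    repWith_of_fpqc hg sq (representable_of_fpqc_affine
      (fun _ _ j (_ : IsIntegralHom j) => inferInstance) hY hX hg sq hp) hp⟩

end Groth.Agent.AlgSpDescent
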