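import Groth.Prelude.Def_AlgSp3
import Groth.Agent.Lib.AlgSpace.Space
import Groth.Agent.Lib.AlgSpDescent.SchemeSource

/-!
# Properties of morphisms of spaces defined étale locally, tested after base change to schemes
-/

universe u

set_option backward.isDefEq.respectTransparency.types false

open CategoryTheory CategoryTheory.Limits AlgebraicGeometry Opposite MorphismProperty

namespace Groth.Agent.AlgSpDescent

open AlgSp Groth.Agent.AlgSpace

variable {S : Scheme.{u}}

/-- For every base change of `f` to a scheme and every scheme étale over it, `P` holds. -/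
def BC (P : MorphismProperty Scheme.{u}) : MorphismProperty (Sp S) := fun X Y f =>
  ∀ ⦃T : Over S⦄ ⦃X' : Sp S⦄ (g : (yon S).obj T ⟶ Y) (fst : X' ⟶ X) (snd : X' ⟶ (yon S).obj T),
    IsPullback fst snd f g → ∀ ⦃U : Over S⦄ (φ : (yon S).obj U ⟶ X') (h : U ⟶ T),
      RepWith @Etale φ → (yon S).map h = φ ≫ snd → P h.left

/-- Precomposition with étale morphisms. -/
def PrecompEtale (P : MorphismProperty Scheme.{u}) : Prop :=
  ∀ ⦃W X Y : Scheme.{u}⦄ (g : W ⟶ X) (f : X ⟶ Y), Etale g → P f → P (g ≫ f)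

/-- `BC` is stable under arbitrary base change. -/
theorem bc_of_isPullback {P : MorphismProperty Scheme.{u}} {X Y X' Y' : Sp S} {a : X' ⟶ X}
    {f' : X' ⟶ Y'} {f : X ⟶ Y} {b : Y' ⟶ Y} (sq : IsPullback a f' f b) (hf : BC P f) : BC P f' :=
  fun _ _ g fst snd sq' _ φ h hφ hh => hf (g ≫ b) (fst ≫ a) snd (sq'.paste_horiz sq) φ h hφ hh

/-- Base change of a chart of a base change. -/
theorem exists_chart_baseChange {X' : Sp S} {T U T' : Over S} (snd : X' ⟶ (yon S).obj T)
    (φ : (yon S).obj U ⟶ X') (h : U ⟶ T) (hφ : RepWith @Etale φ) (hh : (yon S).map h = φ ≫ snd)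
    (c : T' ⟶ T) {X'' : Sp S} (fst'' : X'' ⟶ X') (snd'' : X'' ⟶ (yon S).obj T')
    (sq : IsPullback fst'' snd'' snd ((yon S).map c)) :
    ∃ φ' : (yon S).obj (Limits.pullback h c) ⟶ X'', RepWith @Etale φ' ∧
      (yon S).map (pullback.snd h c) = φ' ≫ snd'' ∧
      φ' ≫ fst'' = (yon S).map (pullback.fst h c) ≫ φ := by
  let φ' := sq.lift ((yon S).map (pullback.fst h c) ≫ φ) ((yon S).map (pullback.snd h c))
    (by rw [Category.assoc, ← hh, ← Functor.map_comp, ← Functor.map_comp, pullback.condition])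
  have hsq : IsPullback ((yon S).map (pullback.fst h c)) φ' φ fst'' :=
    (IsPullback.of_right (h₁₂ := snd'') (h₁₁ := φ')
      (by simpa [φ', ← hh] using ((IsPullback.of_hasPullback h c).map (yon S)).flip)
      (by simp [φ']) sq.flip).flip
  exact ⟨φ', repWith_of_isPullback hsq hφ, by simp [φ'], by simp [φ']⟩

/-- `BC P` implies the chart property. -/
theorem locP_of_bc {P : MorphismProperty Scheme.{u}} {X Y : Sp S} {f : X ⟶ Y} (hf : BC P f) :
    LocP P f := by
  intro U V a b h ha hb w
  have sq := IsPullback.of_hasPullback f b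
  let φ := sq.lift a ((yon S).map h) w
  refine hf b _ _ sq φ h ?_ (by simp [φ])
  have hfst : RepWith @Etale (pullback.fst f b) := repWith_of_isPullback sq.flip hb
  -- `U ×_X X_V` is a scheme
  have hrep : Representable (pullback.fst f b) := hfst.1
  have sqA := hrep.isPullback a
  have hw : Etale (hrep.snd a).left := hfst.2 a _ _ sqA
  let s : U ⟶ hrep.pullback a := hrep.lift φ (𝟙 U) (by simp [φ])
  have hs : Etale s.left := by
    have : Etale (s.left ≫ (hrep.snd a).left) := by
      rw [← Over.comp_left, hrep.lift_snd]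
      exact inferInstanceAs (Etale (𝟙 U.left))
    exact Etale.of_comp s.left (hrep.snd a).left
  have hk : RepWith @Etale (hrep.fst a) := repWith_of_isPullback sqA.flip ha
  have hsk : (yon S).map s ≫ hrep.fst a = φ := hrep.lift_fst _ _ _
  rw [← hsk]
  exact repWith_comp ((repWith_yon_map_iff _ _).2 hs) hk

/-- Descent of a property along a flat surjective quasi-compact map of the target. -/
theorem of_pullback_snd_left {P : MorphismProperty Scheme.{u}} [P.IsStableUnderBaseChange]
    {Q : MorphismProperty Scheme.{u}} [P.DescendsAlong Q] {U T T' : Over S} (h : U ⟶ T)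
    (c : T' ⟶ T) (hc : Q c.left) (hp : P (pullback.snd h c).left) : P h.left :=
  MorphismProperty.of_isPullback_of_descendsAlong
    ((IsPullback.of_hasPullback h c).map (Over.forget S)).flip hc hp

/-- The chart property gives the property after base change to schemes. -/
theorem bc_of_locP {P : MorphismProperty Scheme.{u}} [P.IsStableUnderBaseChange]
    [IsZariskiLocalAtTarget P] [P.DescendsAlong (@Surjective ⊓ @Flat ⊓ @QuasiCompact)]
    (hpre : PrecompEtale P) (hsrc : DescendsEtaleSource P) {X Y : Sp S} (hX : IsAlgSpace X)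
    (hY : IsAlgSpace Y) {f : X ⟶ Y} (hf : LocP P f) : BC P f := by
  intro T₀ X₀ g₀ fst₀ snd₀ sq₀ U₀ φ₀ h₀ hφ₀ hh₀
  obtain ⟨A, a, hae, has⟩ := hX.atlas
  obtain ⟨V, b, hbe, hbs⟩ := hY.atlas
  -- replace the test scheme by one mapping to the atlas of the target
  let T := hbe.1.pullback g₀
  let e : T ⟶ T₀ := hbe.1.snd g₀
  have sqT := hbe.1.isPullback g₀
  have hee : Etale e.left := hbe.2 g₀ _ _ sqT
  have hes : Surjective e.left := hbs.2 g₀ _ _ sqT
  refine of_pullback_snd_left (Q := @Surjective ⊓ @Flat ⊓ @LocallyOfFinitePresentation) h₀ e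
    ⟨⟨hes, inferInstance⟩, inferInstance⟩ ?_
  let c : T ⟶ V := hbe.1.fst' g₀
  have sqX := IsPullback.of_hasPullback snd₀ ((yon S).map e)
  obtain ⟨φ, hφ, hh, -⟩ := exists_chart_baseChange snd₀ φ₀ h₀ hφ₀ hh₀ e _ _ sqX
  have sq : IsPullback (pullback.fst snd₀ ((yon S).map e) ≫ fst₀)
      (pullback.snd snd₀ ((yon S).map e)) f ((yon S).map c ≫ b) := by
    have : (yon S).map c ≫ b = (yon S).map e ≫ g₀ := by
      rw [hbe.1.map_fst']; exact hbe.1.w g₀
    rw [this]
    exact sqX.paste_horiz sq₀
  generalize pullback.fst snd₀ ((yon S).map e) ≫ fst₀ = fst at sq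
  generalize pullback.snd snd₀ ((yon S).map e) = snd at sq hh
  generalize (pullback.snd h₀ e) = h at hh
  generalize Limits.pullback snd₀ ((yon S).map e) = X' at φ hφ fst snd sq hh
  -- chart `W` of the source over the atlas
  let W := hbe.1.pullback (a ≫ f)
  have sqW : IsPullback ((yon S).map (hbe.1.fst' (a ≫ f))) ((yon S).map (hbe.1.snd (a ≫ f)))
      b (a ≫ f) := hbe.1.isPullback' (a ≫ f)
  have hwU : Etale (hbe.1.snd (a ≫ f)).left := hbe.2 _ _ _ (hbe.1.isPullback (a ≫ f))
  have hWP : P (hbe.1.fst' (a ≫ f)).left :=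
    hf ((yon S).map (hbe.1.snd (a ≫ f)) ≫ a) b (hbe.1.fst' (a ≫ f))
      (repWith_comp ((repWith_yon_map_iff _ _).2 hwU) hae) hbe
      (by rw [Category.assoc]; exact sqW.w.symm)
  let WT := Limits.pullback (hbe.1.fst' (a ≫ f)) c
  have hWTP : P (pullback.snd (hbe.1.fst' (a ≫ f)) c).left :=
    MorphismProperty.of_isPullback
      ((IsPullback.of_hasPullback (hbe.1.fst' (a ≫ f)) c).map (Over.forget S)) hWP
  have big : IsPullback
      ((yon S).map (pullback.fst (hbe.1.fst' (a ≫ f)) c) ≫ (yon S).map (hbe.1.snd (a ≫ f)))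
      ((yon S).map (pullback.snd (hbe.1.fst' (a ≫ f)) c)) (a ≫ f) ((yon S).map c ≫ b) :=
    ((IsPullback.of_hasPullback (hbe.1.fst' (a ≫ f)) c).map (yon S)).paste_horiz sqW.flip |>.flip
      |>.flip
  let j : (yon S).obj WT ⟶ X' := sq.lift
    (((yon S).map (pullback.fst (hbe.1.fst' (a ≫ f)) c) ≫ (yon S).map (hbe.1.snd (a ≫ f))) ≫ a)
    ((yon S).map (pullback.snd (hbe.1.fst' (a ≫ f)) c)) (by rw [Category.assoc]; exact big.w)
  have sqj : IsPullback ((yon S).map (pullback.fst (hbe.1.fst' (a ≫ f)) c) ≫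
      (yon S).map (hbe.1.snd (a ≫ f))) j a fst :=
    IsPullback.of_bot (by simpa [j] using big) (by simp [j]) sq
  have hje : RepWith @Etale j := repWith_of_isPullback sqj hae
  have hjs : RepWith @Surjective j := repWith_of_isPullback sqj has
  -- common refinement
  have sqU := hje.1.isPullback φ
  let ν := hje.1.snd φ
  have hνe : Etale ν.left := hje.2 φ _ _ sqU
  have hνs : Surjective ν.left := hjs.2 φ _ _ sqU
  let ω := (yon S).preimage (hje.1.fst φ)
  have hω : Etale ω.left := by
    refine hφ.2 j ((yon S).map ν) ω ?_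
    rw [(yon S).map_preimage]
    exact sqU.flip
  have key : ν ≫ h = ω ≫ pullback.snd (hbe.1.fst' (a ≫ f)) c := by
    apply (yon S).map_injective
    have hw := sqU.w =≫ snd
    rw [Category.assoc, Category.assoc, ← hh] at hw
    simp only [Functor.map_comp, ω, ν, Functor.map_preimage]
    rw [← hw]
    simp [j]
  apply hsrc ν.left h.left hνe hνs
  rw [← Over.comp_left, key, Over.comp_left]
  exact hpre _ _ hω hWTP

end Groth.Agent.AlgSpDescent
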