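import Groth.Agent.Lib.AlgSpDescent.SpaceThick
import Mathlib.RingTheory.RingHom.StandardSmooth
import Mathlib.AlgebraicGeometry.Morphisms.Smooth

/-!
# Lifts into smooth morphisms along thickenings
-/

universe u

set_option backward.isDefEq.respectTransparency.types false

open CategoryTheory CategoryTheory.Limits AlgebraicGeometry Opposite MorphismProperty

namespace Groth.Agent.AlgSpDescent

open AlgSp Groth.Agent.AlgSpace Groth.Agent.AlgSpDecent

/-- Maps into a standard smooth algebra lift along thickenings of affine schemes. -/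
theorem exists_lift_standardSmooth {R C E : CommRingCat.{u}} (r : R ⟶ C)
    (hr : r.hom.IsStandardSmooth) (J : Ideal E)
    [Surjective (Spec.map (CommRingCat.ofHom (Ideal.Quotient.mk J)))] (b : R ⟶ E)
    (g : C ⟶ CommRingCat.of (E ⧸ J)) (w : r ≫ g = b ≫ CommRingCat.ofHom (Ideal.Quotient.mk J)) :
    ∃ g' : C ⟶ E, g' ≫ CommRingCat.ofHom (Ideal.Quotient.mk J) = g ∧ r ≫ g' = b := by
  obtain ⟨n, θ, hθC, hθ⟩ := hr.exists_etale_mvPolynomial
  let θ' : CommRingCat.of (MvPolynomial (Fin n) R) ⟶ C := CommRingCat.ofHom θ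
  choose c hc using fun i => Ideal.Quotient.mk_surjective (g (θ (MvPolynomial.X i)))
  let π : CommRingCat.of (MvPolynomial (Fin n) R) ⟶ E :=
    CommRingCat.ofHom (MvPolynomial.eval₂Hom b.hom c)
  have e : θ' ≫ g = π ≫ CommRingCat.ofHom (Ideal.Quotient.mk J) := by
    refine CommRingCat.hom_ext (MvPolynomial.ringHom_ext (fun x => ?_) fun i => ?_)
    · change g (θ (MvPolynomial.C x)) = Ideal.Quotient.mk J (π (MvPolynomial.C x))
      rw [show θ (MvPolynomial.C x) = r x from RingHom.congr_fun hθC x,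
        show π (MvPolynomial.C x) = b x from MvPolynomial.eval₂Hom_C b.hom c x]
      exact congrArg (fun k => k.hom x) w
    · change g (θ (MvPolynomial.X i)) = Ideal.Quotient.mk J (π (MvPolynomial.X i))
      rw [show π (MvPolynomial.X i) = c i from MvPolynomial.eval₂Hom_X' b.hom c i, hc]
  have : IsClosedImmersion (Spec.map (CommRingCat.ofHom (Ideal.Quotient.mk J))) :=
    IsClosedImmersion.spec_of_surjective _ Ideal.Quotient.mk_surjective
  have : Etale (Spec.map θ') := (HasRingHomProperty.Spec_iff (P := @Etale)).2 hθ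
  obtain ⟨l, ⟨hl1, hl2⟩, -⟩ := FEtale4.existsUnique_lift (Spec.map θ')
    (Spec.map (CommRingCat.ofHom (Ideal.Quotient.mk J))) (Spec.map g) (Spec.map π)
    (by rw [← Spec.map_comp, ← Spec.map_comp, e])
  obtain ⟨g', rfl⟩ := Spec.map_surjective l
  rw [← Spec.map_comp] at hl1 hl2
  refine ⟨g', Spec.map_injective hl1, CommRingCat.hom_ext (RingHom.ext fun x => ?_)⟩
  have h := congrArg (fun k => k.hom (MvPolynomial.C x)) (Spec.map_injective hl2)
  change g' (θ (MvPolynomial.C x)) = π (MvPolynomial.C x) at h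
  rw [show θ (MvPolynomial.C x) = r x from RingHom.congr_fun hθC x,
    show π (MvPolynomial.C x) = b x from MvPolynomial.eval₂Hom_C b.hom c x] at h
  exact h

/-- Base changes of thickenings of affine schemes are surjective. -/
theorem surjective_quot_map {A E : CommRingCat.{u}} (I : Ideal A) (φ : A ⟶ E)
    [Surjective (Spec.map (CommRingCat.ofHom (Ideal.Quotient.mk I)))] :
    Surjective (Spec.map (CommRingCat.ofHom (Ideal.Quotient.mk (I.map φ.hom)))) :=
  MorphismProperty.of_isPullback (P := @Surjective) (isPullback_quotSpec I φ).flip inferInstance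

/-- Maps into a smooth scheme lift locally along thickenings of affine schemes. -/
theorem exists_smooth_lift_local {U V : Scheme.{u}} (h : U ⟶ V) [Smooth h] {E : CommRingCat.{u}}
    (J : Ideal E) [Surjective (Spec.map (CommRingCat.ofHom (Ideal.Quotient.mk J)))]
    (α : Spec (CommRingCat.of (E ⧸ J)) ⟶ U) (β : Spec E ⟶ V)
    (w : α ≫ h = Spec.map (CommRingCat.ofHom (Ideal.Quotient.mk J)) ≫ β) (p : Spec E) :
    ∃ (E' : CommRingCat.{u}) (φ : E ⟶ E') (γ : Spec E' ⟶ U),
      IsOpenImmersion (Spec.map φ) ∧ p ∈ Set.range (Spec.map φ) ∧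
      Spec.map (CommRingCat.ofHom (Ideal.Quotient.mk (J.map φ.hom))) ≫ γ = quotSpec J φ ≫ α ∧
      γ ≫ h = Spec.map φ ≫ β := by
  let t := Spec.map (CommRingCat.ofHom (Ideal.Quotient.mk J))
  have : IsClosedImmersion t := IsClosedImmersion.spec_of_surjective _ Ideal.Quotient.mk_surjective
  obtain ⟨z, hz⟩ := t.surjective p
  obtain ⟨V₀, hV₀, U₀, hU₀, hzU, hUV, hr⟩ := Smooth.exists_isStandardSmooth h (α z)
  let N : Set (Spec E) := ⇑β ⁻¹' (V₀ : Set V) ∩ ⇑t '' (⇑α ⁻¹' (U₀ : Set U))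
  have hN : IsOpen N := by
    refine (V₀.2.preimage β.continuous).inter ?_
    rw [← isClosed_compl_iff, ← Set.image_compl_eq ⟨t.isClosedEmbedding.injective, t.surjective⟩]
    exact t.isClosedEmbedding.isClosedMap _ (U₀.2.preimage α.continuous).isClosed_compl
  have hpN : p ∈ N := by
    refine ⟨?_, z, hzU, hz⟩
    change β p ∈ V₀
    rw [← hz, ← Scheme.Hom.comp_apply, ← w, Scheme.Hom.comp_apply]
    exact hUV hzU
  obtain ⟨_, ⟨g, rfl⟩, hpg, hgN⟩ :=
    PrimeSpectrum.isTopologicalBasis_basic_opens.exists_subset_of_mem_open hpN hN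
  let φ : E ⟶ CommRingCat.of (Localization.Away g) := CommRingCat.ofHom (algebraMap E _)
  have hrange : Set.range (Spec.map φ) = (PrimeSpectrum.basicOpen g : Set (PrimeSpectrum E)) :=
    PrimeSpectrum.localization_away_comap_range (Localization.Away g) g
  have : IsOpenImmersion (Spec.map φ) :=
    IsOpenImmersion.of_isLocalization g (S := Localization.Away g)
  have : Surjective (Spec.map (CommRingCat.ofHom (Ideal.Quotient.mk (J.map φ.hom)))) :=
    surjective_quot_map J φ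
  obtain ⟨bR, hbR⟩ := Spec.map_surjective (IsOpenImmersion.lift hV₀.fromSpec (Spec.map φ ≫ β) (by
    rintro _ ⟨q, rfl⟩
    rw [hV₀.range_fromSpec, Scheme.Hom.comp_apply]
    exact (hgN (hrange.le ⟨q, rfl⟩)).1))
  have hbR' : Spec.map bR ≫ hV₀.fromSpec = Spec.map φ ≫ β := by
    rw [hbR, IsOpenImmersion.lift_fac]
  obtain ⟨gC, hgC⟩ := Spec.map_surjective (IsOpenImmersion.lift hU₀.fromSpec (quotSpec J φ ≫ α) (by
    rintro _ ⟨q, rfl⟩
    rw [hU₀.range_fromSpec, Scheme.Hom.comp_apply]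
    obtain ⟨-, z', hz', e⟩ := hgN (hrange.le ⟨Spec.map (CommRingCat.ofHom (Ideal.Quotient.mk _)) q, rfl⟩)
    have : quotSpec J φ q = z' := t.isClosedEmbedding.injective (by
      rw [e, ← Scheme.Hom.comp_apply, ← Scheme.Hom.comp_apply, quotSpec_comm])
    rw [this]
    exact hz'))
  have hgC' : Spec.map gC ≫ hU₀.fromSpec = quotSpec J φ ≫ α := by
    rw [hgC, IsOpenImmersion.lift_fac]
  obtain ⟨g', hg1, hg2⟩ := exists_lift_standardSmooth (h.appLE V₀ U₀ hUV) hr (J.map φ.hom) bR gC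
    (Spec.map_injective ((cancel_mono hV₀.fromSpec).1 (by
      rw [Spec.map_comp, Spec.map_comp, Category.assoc, Category.assoc,
        IsAffineOpen.SpecMap_appLE_fromSpec h hV₀ hU₀ hUV, reassoc_of% hgC', hbR', w,
        reassoc_of% quotSpec_comm J φ])))
  refine ⟨_, φ, Spec.map g' ≫ hU₀.fromSpec, inferInstance, hrange.ge hpg, ?_, ?_⟩
  · rw [← Spec.map_comp_assoc, hg1, hgC']
  · rw [Category.assoc, ← IsAffineOpen.SpecMap_appLE_fromSpec h hV₀ hU₀ hUV, ← Spec.map_comp_assoc,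
      hg2, hbR']

variable {S : Scheme.{u}}

/-- The map of closed points over `S` induced by a ring map. -/
noncomputable abbrev quotTop {A E : CommRingCat.{u}} (I : Ideal A) (φ : A ⟶ E) (str : Spec A ⟶ S) :
    Over.mk (Spec.map (CommRingCat.ofHom (Ideal.Quotient.mk (I.map φ.hom))) ≫ Spec.map φ ≫ str) ⟶
      Over.mk (Spec.map (CommRingCat.ofHom (Ideal.Quotient.mk I)) ≫ str) :=
  Over.homMk (quotSpec I φ) (subTop_w I φ str)

/-- The map of points over `S` induced by a ring map. -/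
noncomputable abbrev specArrow {A E : CommRingCat.{u}} (φ : A ⟶ E) (str : Spec A ⟶ S) :
    Over.mk (Spec.map φ ≫ str) ⟶ Over.mk str :=
  Over.homMk (Spec.map φ) rfl

theorem isPullback_quotTop {A E : CommRingCat.{u}} (I : Ideal A) (φ : A ⟶ E) (str : Spec A ⟶ S) :
    IsPullback ((yon S).map (quotTop I φ str))
      ((yon S).map (quotArrow (I.map φ.hom) (Spec.map φ ≫ str))) ((yon S).map (quotArrow I str))
      ((yon S).map (specArrow φ str)) :=
  ((IsPullback.of_map (Over.forget S) (f := quotArrow (I.map φ.hom) (Spec.map φ ≫ str))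
    (g := quotTop I φ str) (h := specArrow φ str) (i := quotArrow I str)
    (Over.OverMorphism.ext (quotSpec_comm I φ).symm) (isPullback_quotSpec I φ)).map (yon S)).flip

/-- Smooth morphisms of spaces lift étale locally along thickenings. -/
theorem exists_smooth_lift {X Y T T' : Sp S} (hX : IsAlgSpace X) (hY : IsAlgSpace Y)
    (hT' : IsAlgSpace T') {f : X ⟶ Y} (hf : LocP @Smooth f) {i : T ⟶ T'} (hi : IsThickMor i)
    {a : T ⟶ X} {b : T' ⟶ Y} (w : a ≫ f = i ≫ b) (t' : Points T') :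
    ∃ (V : Over S) (e : (yon S).obj V ⟶ T') (ℓ : (yon S).obj V ⟶ X),
      RepWith @Etale e ∧ t' ∈ Set.range (Points.ofPt e) ∧ ℓ ≫ f = e ≫ b ∧
      ∀ (P : Sp S) (p₁ : P ⟶ T) (p₂ : P ⟶ (yon S).obj V),
        IsPullback p₁ p₂ i e → p₂ ≫ ℓ = p₁ ≫ a := by
  obtain ⟨U, V, p, q, h, hp, hps, hq, hqs, wh⟩ := exists_chart_square hX hY f
  have hh : Smooth h.left := hf p q h hp hq wh
  obtain ⟨U', q', hq', hqs'⟩ := hT'.atlas
  obtain ⟨u', rfl⟩ := surjective_ofPt hqs' t'
  have hic : RepWith @IsClosedImmersion i := repWith_mono (fun _ _ _ h => h.1) hi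
  obtain ⟨A, I, str, g, t, hg, ⟨y, hy⟩, sqc⟩ := exists_closed_chart hic q' u'
  have hIs : Surjective (Spec.map (CommRingCat.ofHom (Ideal.Quotient.mk I))) := (hi.2 _ _ _ sqc).2
  obtain ⟨z, hz⟩ := (Spec.map (CommRingCat.ofHom (Ideal.Quotient.mk I))).surjective y
  have sqP := hp.1.isPullback (t ≫ a)
  have hse : Etale (hp.1.snd (t ≫ a)).left := hp.2 _ _ _ sqP
  have hss : Surjective (hp.1.snd (t ≫ a)).left := hps.2 _ _ _ sqP
  obtain ⟨wpt, hw⟩ := hss.surj z
  obtain ⟨E, φ, κ, hφ, ⟨v, hv⟩, hκ⟩ := exists_etale_nbhd I (hp.1.snd (t ≫ a)).left wpt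
  let κO : Over.mk (Spec.map (CommRingCat.ofHom (Ideal.Quotient.mk (I.map φ.hom))) ≫ Spec.map φ ≫ str) ⟶
      hp.1.pullback (t ≫ a) := Over.homMk κ (by
    rw [← Over.w (hp.1.snd (t ≫ a)), reassoc_of% hκ]
    exact subTop_w I φ str)
  have hκO : κO ≫ hp.1.snd (t ≫ a) = quotTop I φ str := Over.OverMorphism.ext hκ
  obtain ⟨α, hα⟩ := (yon S).map_surjective ((yon S).map κO ≫ hp.1.fst (t ≫ a))
  have hαp : (yon S).map α ≫ p = (yon S).map (quotTop I φ str) ≫ t ≫ a := by
    rw [hα, Category.assoc, sqP.w, ← Functor.map_comp_assoc, hκO]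
  let bE := (yon S).map (specArrow φ str) ≫ (yon S).map g ≫ q' ≫ b
  have sqZ := hq.1.isPullback bE
  have hZe : Etale (hq.1.snd bE).left := hq.2 _ _ _ sqZ
  have wσ : (yon S).map (α ≫ h) ≫ q =
      (yon S).map (quotArrow (I.map φ.hom) (Spec.map φ ≫ str)) ≫ bE := by
    rw [Functor.map_comp, Category.assoc, ← wh, reassoc_of% hαp, w]
    simp only [bE, reassoc_of% sqc.w]
    exact (reassoc_of% (isPullback_quotTop I φ str).w) _
  let σ := hq.1.lift _ _ wσ
  have : Surjective (Spec.map (CommRingCat.ofHom (Ideal.Quotient.mk (I.map φ.hom)))) :=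
    surjective_quot_map I φ
  have : IsClosedImmersion (Spec.map (CommRingCat.ofHom (Ideal.Quotient.mk (I.map φ.hom)))) :=
    IsClosedImmersion.spec_of_surjective _ Ideal.Quotient.mk_surjective
  obtain ⟨s, ⟨hs1, hs2⟩, -⟩ := FEtale4.existsUnique_lift (hq.1.snd bE).left
    (Spec.map (CommRingCat.ofHom (Ideal.Quotient.mk (I.map φ.hom)))) σ.left (𝟙 (Spec E)) (by
      rw [← Over.comp_left, hq.1.lift_snd]
      exact Category.comp_id _)
  let sO : Over.mk (Spec.map φ ≫ str) ⟶ hq.1.pullback bE := Over.homMk s (by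
    rw [← Over.w (hq.1.snd bE), reassoc_of% hs2]
    rfl)
  obtain ⟨βV, hβV⟩ := (yon S).map_surjective ((yon S).map sO ≫ hq.1.fst bE)
  have hβq : (yon S).map βV ≫ q = bE := by
    rw [hβV, Category.assoc, sqZ.w, ← Functor.map_comp_assoc,
      show sO ≫ hq.1.snd bE = 𝟙 _ from Over.OverMorphism.ext hs2, (yon S).map_id, Category.id_comp]
  have hσ : quotArrow (I.map φ.hom) (Spec.map φ ≫ str) ≫ sO = σ := Over.OverMorphism.ext hs1
  have hjβ : quotArrow (I.map φ.hom) (Spec.map φ ≫ str) ≫ βV = α ≫ h := (yon S).map_injective (by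
    rw [Functor.map_comp, hβV, ← Functor.map_comp_assoc, hσ]
    exact hq.1.lift_fst _ _ _)
  obtain ⟨E', ψ, γ, hψ, ⟨x, hx⟩, hγ1, hγ2⟩ := exists_smooth_lift_local h.left (I.map φ.hom) α.left
    βV.left (congrArg CommaMorphism.left hjβ).symm
    (Spec.map (CommRingCat.ofHom (Ideal.Quotient.mk (I.map φ.hom))) v)
  let γO : Over.mk (Spec.map ψ ≫ Spec.map φ ≫ str) ⟶ U := Over.homMk γ (by
    rw [← Over.w h, reassoc_of% hγ2, Over.w βV]
    rfl)
  have hγO : γO ≫ h = specArrow ψ (Spec.map φ ≫ str) ≫ βV := Over.OverMorphism.ext hγ2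
  have hjγ : quotArrow ((I.map φ.hom).map ψ.hom) (Spec.map ψ ≫ Spec.map φ ≫ str) ≫ γO =
      quotTop (I.map φ.hom) ψ (Spec.map φ ≫ str) ≫ α := Over.OverMorphism.ext hγ1
  refine ⟨Over.mk (Spec.map ψ ≫ Spec.map φ ≫ str),
    (yon S).map (specArrow ψ (Spec.map φ ≫ str)) ≫ (yon S).map (specArrow φ str) ≫
      (yon S).map g ≫ q', (yon S).map γO ≫ p, ?_, ⟨x, ?_⟩, ?_, fun P p₁ p₂ sqp => ?_⟩
  · exact repWith_comp ((repWith_yon_map_iff @Etale _).2 (inferInstanceAs (Etale (Spec.map ψ))))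
      (repWith_comp ((repWith_yon_map_iff @Etale _).2 hφ)
        (repWith_comp ((repWith_yon_map_iff @Etale g).2 inferInstance) hq'))
  · rw [ofPt_map_comp, ofPt_map_comp, ofPt_map_comp]
    congr 1
    have e : Spec.map φ (Spec.map ψ x) = y := by
      rw [hx, ← Scheme.Hom.comp_apply, ← quotSpec_comm, Scheme.Hom.comp_apply, ← hκ,
        Scheme.Hom.comp_apply, hv, hw, hz]
    rw [← hy, ← e]
    rfl
  · rw [Category.assoc, wh, ← Functor.map_comp_assoc, hγO, Functor.map_comp_assoc, hβq]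
    simp only [bE, Category.assoc]
  · have sq₀ := (isPullback_quotTop (I.map φ.hom) ψ (Spec.map φ ≫ str)).paste_horiz
      ((isPullback_quotTop I φ str).paste_horiz sqc)
    obtain ⟨r, hr1, hr2⟩ := sq₀.exists_lift p₁ p₂ sqp.w
    rw [← hr1, ← hr2]
    simp only [Category.assoc, ← hαp]
    rw [← Functor.map_comp_assoc, hjγ, Functor.map_comp_assoc]

end Groth.Agent.AlgSpDescent
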