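import Groth.Agent.Lib.AlgSpDescent.MonoLft
import Groth.Agent.Lib.AlgSpace.QCQS

/-!
# Topological properties of morphisms of thickenings of spaces
-/

universe u

set_option backward.isDefEq.respectTransparency.types false

open CategoryTheory CategoryTheory.Limits AlgebraicGeometry Opposite MorphismProperty

namespace Groth.Agent.AlgSpDescent

open AlgSp Groth.Agent.AlgSpace Groth.Agent.AlgSpDecent

attribute [local simp] pullback.lift_fst pullback.lift_snd pullback.lift_fst_assoc
  pullback.lift_snd_assoc limit.lift_π limit.lift_π_assoc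

instance : (thick.{u}).IsStableUnderComposition where
  comp_mem f g hf hg := by
    have : IsClosedImmersion f := hf.1
    have : IsClosedImmersion g := hg.1
    have : Surjective f := hf.2
    have : Surjective g := hg.2
    exact ⟨inferInstanceAs (IsClosedImmersion (f ≫ g)), inferInstanceAs (Surjective (f ≫ g))⟩

variable {S : Scheme.{u}} {X X' Y Y' : Sp S} {i : X ⟶ X'} {j : Y ⟶ Y'}

theorem surjective_of_thick (hi : IsThickMor i) : Function.Surjective (Points.map i) :=
  surjective_map_of_repWith (repWith_mono (fun _ _ _ h => h.2) hi)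

theorem closedImmersion_of_thick (hi : IsThickMor i) : RepWith @IsClosedImmersion i :=
  repWith_mono (fun _ _ _ h => h.1) hi

theorem mono_of_thick (hi : IsThickMor i) : Mono i :=
  mono_of_repWith_closedImmersion (closedImmersion_of_thick hi)

theorem universallyOpen_of_thick {A B : Scheme.{u}} (g : A ⟶ B) (h : thick g) :
    UniversallyOpen g := by
  refine ⟨fun A' B' a b g' sq => ?_⟩
  obtain ⟨h₁, h₂⟩ := MorphismProperty.of_isPullback (P := thick) sq.flip h
  have : IsClosedImmersion g' := h₁
  exact (isHomeomorph_iff_isEmbedding_surjective.2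
    ⟨g'.isClosedEmbedding.isEmbedding, h₂.surj⟩).isOpenMap

theorem isUnivOpenMor_of_thick (hi : IsThickMor i) : IsUnivOpenMor i :=
  (repWith_universallyOpen_iff hi.1).1 (repWith_mono (fun _ _ g h => universallyOpen_of_thick g h) hi)

theorem isQuasiCompactMor_of_thick (hX : IsAlgSpace X) (hX' : IsAlgSpace X') (hi : IsThickMor i) :
    IsQuasiCompactMor i :=
  (repWith_quasiCompact_iff hX hX' hi.1).1 (repWith_mono (fun _ _ _ h => by
    have : IsClosedImmersion _ := h.1
    infer_instance) hi)

/-! ### Universal properties along compositions -/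

theorem univSp_comp {Q : MorphismProperty (Sp S)} {Z : Sp S} {f : X ⟶ Y} {g : Y ⟶ Z}
    (hQ : ∀ {A B C : Sp S} (a : A ⟶ B) (b : B ⟶ C), Q a → Q b → Q (a ≫ b))
    (hY : IsAlgSpace Y) (hZ : IsAlgSpace Z) (hf : UnivSp Q f) (hg : UnivSp Q g) :
    UnivSp Q (f ≫ g) := by
  intro W W' hW t fst snd sq
  have sqY := IsPullback.of_hasPullback g t
  let m := sqY.lift (fst ≫ f) snd (by rw [Category.assoc]; exact sq.w)
  have sq' : IsPullback fst m f (pullback.fst g t) :=
    IsPullback.of_bot (by simpa [m] using sq) (by simp [m]) sqY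
  have e : snd = m ≫ pullback.snd g t := by simp [m]
  rw [e]
  exact hQ _ _ (hf (isAlgSpace_baseChange hY hZ hW sqY) _ _ _ sq') (hg hW t _ _ sqY)

theorem univSp_of_surjective_source {Q : MorphismProperty (Sp S)} {a : X ⟶ X'} {f : X' ⟶ Y}
    (hQ : ∀ {A B C : Sp S} (a : A ⟶ B) (b : B ⟶ C), Function.Surjective (Points.map a) →
      Q (a ≫ b) → Q b)
    (ha : Function.Surjective (Points.map a)) (h : UnivSp Q (a ≫ f)) : UnivSp Q f := by
  intro Z Z' hZ t fst snd sq
  have sq' := IsPullback.of_hasPullback a fst
  exact hQ (pullback.snd a fst) snd (surjective_of_isPullback sq' ha)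
    (h hZ t (pullback.fst a fst) _ (sq'.paste_vert sq))

theorem isUnivInjectiveMor_comp {Z : Sp S} {f : X ⟶ Y} {g : Y ⟶ Z} (hY : IsAlgSpace Y)
    (hZ : IsAlgSpace Z) (hf : IsUnivInjectiveMor f) (hg : IsUnivInjectiveMor g) :
    IsUnivInjectiveMor (f ≫ g) :=
  univSp_comp (Q := fun _ _ f => Function.Injective (Points.map f))
    (fun a b ha hb => by
      change Function.Injective (Points.map (a ≫ b))
      rw [map_comp_eq]
      exact hb.comp ha) hY hZ hf hg

theorem isUnivInjectiveMor_of_surjective_source {a : X ⟶ X'} {f : X' ⟶ Y}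
    (ha : Function.Surjective (Points.map a)) (h : IsUnivInjectiveMor (a ≫ f)) :
    IsUnivInjectiveMor f :=
  univSp_of_surjective_source (Q := fun _ _ f => Function.Injective (Points.map f))
    (fun a b hs hab => by
      change Function.Injective (Points.map (a ≫ b)) at hab
      rw [map_comp_eq] at hab
      exact hab.of_comp_right hs) ha h

theorem isUnivOpenMor_comp {Z : Sp S} {f : X ⟶ Y} {g : Y ⟶ Z} (hY : IsAlgSpace Y)
    (hZ : IsAlgSpace Z) (hf : IsUnivOpenMor f) (hg : IsUnivOpenMor g) : IsUnivOpenMor (f ≫ g) :=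
  univSp_comp (Q := IsOpenMor) (fun a b ha hb => by
    change IsOpenMap (Points.map (a ≫ b))
    rw [map_comp_eq]
    exact IsOpenMap.comp hb ha) hY hZ hf hg

theorem isUnivOpenMor_of_surjective_source {a : X ⟶ X'} {f : X' ⟶ Y}
    (ha : Function.Surjective (Points.map a)) (h : IsUnivOpenMor (a ≫ f)) : IsUnivOpenMor f :=
  univSp_of_surjective_source (Q := IsOpenMor) (fun a b hs hab O hO => by
    change IsOpenMap (Points.map (a ≫ b)) at hab
    rw [map_comp_eq] at hab
    rw [← Set.image_preimage_eq O hs, ← Set.image_comp]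
    exact hab _ (hO.preimage (Points.continuous_map _))) ha h

theorem isQuasiCompactMor_of_surjective_source {a : X ⟶ X'} {f : X' ⟶ Y} (hX' : IsAlgSpace X')
    (hY : IsAlgSpace Y) (hX : IsAlgSpace X) (ha : Function.Surjective (Points.map a))
    (h : IsQuasiCompactMor (a ≫ f)) : IsQuasiCompactMor f :=
  isQuasiCompactMor_of_affine hX' hY fun Z hZ g P fst snd sq => by
    have sq' := IsPullback.of_hasPullback a fst
    have := compactSpace_yon_of_affine Z
    have := compactSpace_of_isQuasiCompactMor hX hY h (IsAlgSpace.yon_obj Z) (sq'.paste_vert sq)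
    exact compactSpace_of_surjective (pullback.snd a fst) (surjective_of_isPullback sq' ha)

/-! ### Morphisms of thickenings -/

theorem isPullback_of_mono_comp {f : X ⟶ Y} (hj : Mono j) : IsPullback (𝟙 X) f (f ≫ j) j :=
  IsPullback.of_horiz_isIso_mono ⟨by simp⟩

section

variable {f : X ⟶ Y} {f' : X' ⟶ Y'} (hi : IsThickMor i) (hj : IsThickMor j)
  (hX : IsAlgSpace X) (hX' : IsAlgSpace X') (hY : IsAlgSpace Y) (hY' : IsAlgSpace Y')
  (w : i ≫ f' = f ≫ j)
include hi hj w

omit hY' in
theorem thick_surjective_iff (hY' : IsAlgSpace Y') : IsSurjectiveMor f ↔ IsSurjectiveMor f' := by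
  have e : ∀ x, Points.map f' (Points.map i x) = Points.map j (Points.map f x) := fun x => by
    rw [← Points.map_comp, ← Points.map_comp, w]
  refine ⟨fun h y => ?_, fun h y => ?_⟩
  · obtain ⟨z, rfl⟩ := surjective_of_thick hj y
    obtain ⟨x, rfl⟩ := h z
    exact ⟨_, e x⟩
  · obtain ⟨x', hx'⟩ := h (Points.map j y)
    obtain ⟨x, rfl⟩ := surjective_of_thick hi x'
    have := mono_of_thick hj
    exact ⟨x, isUnivInjectiveMor_of_mono j hY' (𝟙 Y') (𝟙 Y) j IsPullback.of_id_fst
      ((e x).symm.trans hx')⟩

include hX hX' hY hY'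

theorem thick_quasiCompact_iff : IsQuasiCompactMor f ↔ IsQuasiCompactMor f' := by
  have := mono_of_thick hj
  refine ⟨fun h => isQuasiCompactMor_of_surjective_source hX' hY' hX (surjective_of_thick hi) ?_,
    fun h => isQuasiCompactMor_of_isPullback (isPullback_of_mono_comp this) ?_⟩
  · rw [w]; exact isQuasiCompactMor_comp hY hY' h (isQuasiCompactMor_of_thick hY hY' hj)
  · rw [← w]; exact isQuasiCompactMor_comp hX' hY' (isQuasiCompactMor_of_thick hX hX' hi) h

theorem thick_univClosed_iff : IsUnivClosedMor f ↔ IsUnivClosedMor f' := by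
  have := mono_of_thick hj
  refine ⟨fun h => isUnivClosedMor_of_surjective_source (surjective_of_thick hi) ?_,
    fun h => univSp_of_isPullback (isPullback_of_mono_comp this) ?_⟩
  · rw [w]
    exact isUnivClosedMor_comp hY hY' h
      (isUnivClosedMor_of_repWith_closedImmersion (closedImmersion_of_thick hj))
  · rw [← w]
    exact isUnivClosedMor_comp hX' hY'
      (isUnivClosedMor_of_repWith_closedImmersion (closedImmersion_of_thick hi)) h

theorem thick_univInjective_iff : IsUnivInjectiveMor f ↔ IsUnivInjectiveMor f' := by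
  have := mono_of_thick hj
  have := mono_of_thick hi
  refine ⟨fun h => isUnivInjectiveMor_of_surjective_source (surjective_of_thick hi) ?_,
    fun h => univSp_of_isPullback (isPullback_of_mono_comp ‹Mono j›) ?_⟩
  · rw [w]; exact isUnivInjectiveMor_comp hY hY' h (isUnivInjectiveMor_of_mono j)
  · rw [← w]; exact isUnivInjectiveMor_comp hX' hY' (isUnivInjectiveMor_of_mono i) h

theorem thick_univOpen_iff : IsUnivOpenMor f ↔ IsUnivOpenMor f' := by
  have := mono_of_thick hj
  refine ⟨fun h => isUnivOpenMor_of_surjective_source (surjective_of_thick hi) ?_,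
    fun h => univSp_of_isPullback (isPullback_of_mono_comp this) ?_⟩
  · rw [w]; exact isUnivOpenMor_comp hY hY' h (isUnivOpenMor_of_thick hj)
  · rw [← w]; exact isUnivOpenMor_comp hX' hY' (isUnivOpenMor_of_thick hi) h

end

/-- The square of two thickenings is a thickening. -/
theorem isThickMor_map {f : X ⟶ Y} {f' : X' ⟶ Y'} (hi : IsThickMor i) (hj : IsThickMor j)
    (w : i ≫ f' = f ≫ j) : IsThickMor (pullback.map f f f' f' i i j w.symm w.symm) := by
  have := mono_of_thick hj
  let q₁ : pullback f f ⟶ pullback f' (i ≫ f') := pullback.lift (pullback.fst f f ≫ i)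
    (pullback.snd f f) (by rw [Category.assoc, w, pullback.condition_assoc])
  let q₂ : pullback f' (i ≫ f') ⟶ pullback f' f' := pullback.map _ _ _ _ (𝟙 X') i (𝟙 Y')
    (by simp) (by simp)
  have e : pullback.map f f f' f' i i j w.symm w.symm = q₁ ≫ q₂ := by
    apply pullback.hom_ext <;> simp [q₁, q₂]
  have sq₂ : IsPullback q₂ (pullback.snd f' (i ≫ f')) (pullback.snd f' f') i :=
    IsPullback.of_right (by simpa [q₂] using IsPullback.of_hasPullback f' (i ≫ f')) (by simp [q₂])
      (IsPullback.of_hasPullback f' f')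
  have sq₁ : IsPullback (pullback.fst f f) q₁ i (pullback.fst f' (i ≫ f')) := by
    refine IsPullback.of_bot ?_ (by simp [q₁]) (IsPullback.of_hasPullback f' (i ≫ f'))
    have h₁ : IsPullback (pullback.fst f f) (pullback.snd f f) (f ≫ j) (f ≫ j) :=
      ⟨⟨by rw [pullback.condition_assoc]⟩, ⟨PullbackCone.IsLimit.mk _
        (fun s => pullback.lift s.fst s.snd
          ((cancel_mono j).1 (by simpa only [Category.assoc] using s.condition)))
        (fun s => pullback.lift_fst _ _ _) (fun s => pullback.lift_snd _ _ _)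
        (fun s m m₁ m₂ => by apply pullback.hom_ext <;> simp [m₁, m₂])⟩⟩
    simpa [q₁, w] using h₁
  rw [e]
  exact repWith_comp (repWith_of_isPullback sq₁ hi) (repWith_of_isPullback sq₂.flip hi)

section

variable {f : X ⟶ Y} {f' : X' ⟶ Y'} (hi : IsThickMor i) (hj : IsThickMor j)
  (hX : IsAlgSpace X) (hX' : IsAlgSpace X') (hY : IsAlgSpace Y) (hY' : IsAlgSpace Y')
  (w : i ≫ f' = f ≫ j)
include hi hj hX hX' hY hY' w

theorem thick_separated_iff : IsSeparatedMor f ↔ IsSeparatedMor f' := by
  have hP := isAlgSpace_baseChange hX hY hX (IsPullback.of_hasPullback f f)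
  have hP' := isAlgSpace_baseChange hX' hY' hX' (IsPullback.of_hasPullback f' f')
  have key := thick_univClosed_iff (f := pullback.diagonal f) (f' := pullback.diagonal f') hi
    (isThickMor_map hi hj w) hX hX' hP hP' (by apply pullback.hom_ext <;> simp)
  refine ⟨fun h => ?_, fun h => ?_⟩
  · exact repWith_closedImmersion_of_univClosed hX' hP'
      (key.1 (isUnivClosedMor_of_repWith_closedImmersion h))
      (locP_of_repWith hP' (repWith_diagonal_lft hX' f'))
  · exact repWith_closedImmersion_of_univClosed hX hP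
      (key.2 (isUnivClosedMor_of_repWith_closedImmersion h))
      (locP_of_repWith hP (repWith_diagonal_lft hX f))

theorem thick_quasiSeparated_iff : IsQuasiSeparatedMor f ↔ IsQuasiSeparatedMor f' := by
  have hP := isAlgSpace_baseChange hX hY hX (IsPullback.of_hasPullback f f)
  have hP' := isAlgSpace_baseChange hX' hY' hX' (IsPullback.of_hasPullback f' f')
  have key := thick_quasiCompact_iff (f := pullback.diagonal f) (f' := pullback.diagonal f') hi
    (isThickMor_map hi hj w) hX hX' hP hP' (by apply pullback.hom_ext <;> simp)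
  exact ((repWith_quasiCompact_iff hX hP (representable_diagonal hX f)).trans key).trans
    (repWith_quasiCompact_iff hX' hP' (representable_diagonal hX' f')).symm

end

end Groth.Agent.AlgSpDescent
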