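import Groth.Agent.Lib.AlgSpDescent.NilpotentRing
import Groth.Agent.Lib.AlgSpDescent.ThickTop
import Groth.Agent.Lib.AlgSpDescent.SmoothLift
import Groth.Agent.Lib.AlgSpace.Affine
import Groth.Agent.Lib.AlgSpace.ImmDescent

/-!
# Cartesian morphisms of finite order thickenings of spaces
-/

universe u

set_option backward.isDefEq.respectTransparency.types false

open CategoryTheory CategoryTheory.Limits AlgebraicGeometry Opposite MorphismProperty

namespace Groth.Agent.AlgSpDescent

open AlgSp Groth.Agent.AlgSpace Groth.Agent.AlgSpDecent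

/-- An ideal cutting out a closed subscheme of an affine scheme with nilpotent kernel is
nilpotent. -/
theorem pow_eq_bot_of_ker {A : CommRingCat.{u}} (I : Ideal A) {n : ℕ}
    (h : powZero n (Spec.map (CommRingCat.ofHom (Ideal.Quotient.mk I)))) : I ^ (n + 1) = ⊥ := by
  let φ := CommRingCat.ofHom (Ideal.Quotient.mk I)
  let e := (Scheme.ΓSpecIso A).symm.commRingCatIsoToRingEquiv
  have h' : RingHom.ker (Spec.map φ).appTop.hom ^ (n + 1) = ⊥ := by
    have h₀ : (Spec.map φ).ker.ideal ⟨⊤, isAffineOpen_top _⟩ =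
        RingHom.ker (Spec.map φ).appTop.hom :=
      Scheme.Hom.ker_apply (Spec.map φ) ⟨⊤, isAffineOpen_top _⟩
    rw [← h₀, ← Pi.pow_apply, ← Scheme.IdealSheafData.ideal_pow, h]
    rfl
  have key : I.map e.toRingHom ≤ RingHom.ker (Spec.map φ).appTop.hom := by
    refine Ideal.map_le_iff_le_comap.2 fun i hi => ?_
    change (Scheme.ΓSpecIso A).inv i ∈ RingHom.ker (Spec.map φ).appTop.hom
    rw [RingHom.mem_ker, ← ConcreteCategory.comp_apply, ← Scheme.ΓSpecIso_inv_naturality,
      ConcreteCategory.comp_apply]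
    change (Scheme.ΓSpecIso (CommRingCat.of (A ⧸ I))).inv (Ideal.Quotient.mk I i) = 0
    rw [Ideal.Quotient.eq_zero_iff_mem.2 hi, map_zero]
  have hle : (I ^ (n + 1)).map e.toRingHom ≤ ⊥ := by
    rw [Ideal.map_pow, ← h']
    exact Ideal.pow_right_mono key _
  rw [eq_bot_iff]
  intro a ha
  have := hle (Ideal.mem_map_of_mem e.toRingHom ha)
  rw [Ideal.mem_bot] at this
  rw [Ideal.mem_bot]
  exact (map_eq_zero_iff _ e.injective).1 this

variable {S : Scheme.{u}} {X X' Y Y' : Sp S} {i : X ⟶ X'} {j : Y ⟶ Y'}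

/-- A closed subspace pulled back to an affine scheme is a quotient. -/
theorem exists_quot_of_affine (hj : RepWith @IsClosedImmersion j) {A : CommRingCat.{u}}
    (str : Spec A ⟶ S) (β : (yon S).obj (Over.mk str) ⟶ Y') :
    ∃ (I : Ideal A) (t : (yon S).obj (Over.mk (Spec.map (CommRingCat.ofHom (Ideal.Quotient.mk I)) ≫ str)) ⟶ Y),
      IsPullback t ((yon S).map (quotArrow I str)) j β := by
  have sq := hj.1.isPullback β
  have hci : IsClosedImmersion (hj.1.snd β).left := hj.2 _ _ _ sq
  obtain ⟨I, e, he⟩ := IsClosedImmersion.Spec_iff.1 hci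
  let e₀ : Over.mk (Spec.map (CommRingCat.ofHom (Ideal.Quotient.mk I)) ≫ str) ≅ hj.1.pullback β :=
    Over.isoMk e.symm (by
      rw [← Over.w (hj.1.snd β), he, Category.assoc, Iso.symm_hom, Iso.inv_hom_id_assoc]
      rfl)
  have he₀ : e₀.hom ≫ hj.1.snd β = quotArrow I str :=
    Over.OverMorphism.ext (by
      change e.inv ≫ (hj.1.snd β).left = _
      rw [he, Iso.inv_hom_id_assoc]
      rfl)
  refine ⟨I, (yon S).map e₀.hom ≫ hj.1.fst β,
    IsPullback.of_iso sq ((yon S).mapIso e₀.symm) (Iso.refl _) (Iso.refl _) (Iso.refl _)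
      ?_ ?_ (by simp) (by simp)⟩
  · simp [← Functor.map_comp_assoc]
  · simp [← Functor.map_comp, ← he₀]

variable {f : X ⟶ Y} {f' : X' ⟶ Y'} {n : ℕ}

/-- On affine charts, a cartesian morphism of thickenings is a ring map which has the property modulo
an ideal of nilpotent elements, nilpotent for finite order thickenings. -/
theorem exists_quot_chart {P : MorphismProperty Scheme.{u}}
    (hj : RepWith @IsClosedImmersion j) (hi : IsThickMor i)
    (hcart : IsPullback i f f' j) (hf : LocP P f) {U V : Over S} (a : (yon S).obj U ⟶ X')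
    (b : (yon S).obj V ⟶ Y') (h : U ⟶ V) (ha : RepWith @Etale a) (hb : RepWith @Etale b)
    (w : a ≫ f' = (yon S).map h ≫ b) {V₀ : V.left.Opens} (hV : IsAffineOpen V₀) {U₀ : U.left.Opens}
    (hU : IsAffineOpen U₀) (hUV : U₀ ≤ h.left ⁻¹ᵁ V₀) :
    ∃ J : Ideal Γ(V.left, V₀),
      J.map (h.left.appLE V₀ U₀ hUV).hom ≤ nilradical Γ(U.left, U₀) ∧
      (∀ n, AffLocT (powZero n) i → J.map (h.left.appLE V₀ U₀ hUV).hom ^ (n + 1) = ⊥) ∧
      P (quotSpec J (h.left.appLE V₀ U₀ hUV)) := by
  let φ := h.left.appLE V₀ U₀ hUV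
  let str := hV.fromSpec ≫ V.hom
  let g : Over.mk str ⟶ V := Over.homMk hV.fromSpec rfl
  let k : Over.mk (Spec.map φ ≫ str) ⟶ U := Over.homMk hU.fromSpec (by
    change hU.fromSpec ≫ U.hom = Spec.map φ ≫ hV.fromSpec ≫ V.hom
    rw [IsAffineOpen.SpecMap_appLE_fromSpec_assoc h.left hV hU hUV, Over.w h])
  have hk : k ≫ h = specArrow φ str ≫ g :=
    Over.OverMorphism.ext (IsAffineOpen.SpecMap_appLE_fromSpec h.left hV hU hUV).symm
  let β := (yon S).map g ≫ b
  let α := (yon S).map k ≫ a
  have hge : Etale g.left := inferInstanceAs (Etale hV.fromSpec)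
  have hke : Etale k.left := inferInstanceAs (Etale hU.fromSpec)
  have hβ : RepWith @Etale β := repWith_comp ((repWith_yon_map_iff @Etale g).2 hge) hb
  have hα : RepWith @Etale α := repWith_comp ((repWith_yon_map_iff @Etale k).2 hke) ha
  have hαβ : α ≫ f' = (yon S).map (specArrow φ str) ≫ β := by
    simp only [α, β, Category.assoc, w, ← Functor.map_comp_assoc, hk]
  obtain ⟨J, t, sqt⟩ := exists_quot_of_affine hj str β
  let q := (yon S).map (quotArrow (J.map φ.hom) (Spec.map φ ≫ str))
  let r := hcart.lift (q ≫ α) ((yon S).map (quotTop J φ str) ≫ t) (by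
    rw [Category.assoc, hαβ, Category.assoc, sqt.w]
    exact (reassoc_of% (isPullback_quotTop J φ str).w) β |>.symm)
  have hr1 : r ≫ i = q ≫ α := hcart.lift_fst _ _ _
  have hr2 : r ≫ f = (yon S).map (quotTop J φ str) ≫ t := hcart.lift_snd _ _ _
  have sqX : IsPullback r q i α :=
    IsPullback.of_right (h₁₂ := f) (by rw [hr2, hαβ]; exact (isPullback_quotTop J φ str).paste_horiz sqt)
      hr1 hcart.flip
  have hs : Surjective (quotArrow (J.map φ.hom) (Spec.map φ ≫ str)).left := (hi.2 _ _ _ sqX).2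
  have hnil : J.map φ.hom ≤ nilradical Γ(U.left, U₀) := by
    intro x hx
    rw [nilradical_eq_sInf, Ideal.mem_sInf]
    intro p hp
    obtain ⟨z, hz⟩ := hs.surj (⟨p, hp⟩ : PrimeSpectrum Γ(U.left, U₀))
    rw [show p = (PrimeSpectrum.comap (Ideal.Quotient.mk (J.map φ.hom)) z).asIdeal from
      congrArg PrimeSpectrum.asIdeal hz.symm]
    change Ideal.Quotient.mk (J.map φ.hom) x ∈ z.asIdeal
    rw [Ideal.Quotient.eq_zero_iff_mem.2 hx]
    exact zero_mem _
  have hP : P (quotSpec J φ) := hf r t (quotTop J φ str) (repWith_of_isPullback sqX.flip hα)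
    (repWith_of_isPullback sqt.flip hβ) hr2
  refine ⟨J, hnil, fun n hn => ?_, hP⟩
  have hker : powZero n (quotArrow (J.map φ.hom) (Spec.map φ ≫ str)).left :=
    hn α r _ (inferInstanceAs (IsAffine (Spec Γ(U.left, U₀)))) hα sqX
  exact pow_eq_bot_of_ker (A := Γ(U.left, U₀)) (J.map φ.hom) hker

theorem lft_of_thick (hj : RepWith @IsClosedImmersion j) (hi : IsThickMor i)
    (hn : AffLocT (powZero n) i) (hcart : IsPullback i f f' j) (hf : LocP @LocallyOfFiniteType f) :
    LocP @LocallyOfFiniteType f' := fun U V a b h ha hb w =>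
  (HasRingHomProperty.iff_appLE (P := @LocallyOfFiniteType)).2 fun V₀ U₀ hUV => by
    obtain ⟨J, -, hm, hP⟩ := exists_quot_chart hj hi hcart hf a b h ha hb w V₀.2 U₀.2 hUV
    exact finiteType_of_nilpotent (hm n hn) ((HasRingHomProperty.Spec_iff (P := @LocallyOfFiniteType)).1 hP)

theorem unramified_of_thick (hj : RepWith @IsClosedImmersion j) (hi : IsThickMor i)
    (hcart : IsPullback i f f' j) (hl : LocP @LocallyOfFiniteType f')
    (hf : LocP (@LocallyOfFiniteType ⊓ @FormallyUnramified) f) :
    LocP (@LocallyOfFiniteType ⊓ @FormallyUnramified) f' := by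
  intro U V a b h ha hb w
  refine ⟨hl a b h ha hb w, (HasRingHomProperty.iff_appLE (P := @FormallyUnramified)).2 fun V₀ U₀ hUV => ?_⟩
  obtain ⟨J, hJ, -, hP⟩ := exists_quot_chart hj hi hcart hf a b h ha hb w V₀.2 U₀.2 hUV
  exact formallyUnramified_of_nilradical hJ
    (HasRingHomProperty.appLE (P := @LocallyOfFiniteType) h.left (hl a b h ha hb w) V₀ U₀ hUV)
    ((HasRingHomProperty.Spec_iff (P := @FormallyUnramified)).1 hP.2)

theorem lqf_of_thick (hj : RepWith @IsClosedImmersion j) (hi : IsThickMor i)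
    (hcart : IsPullback i f f' j) (hl : LocP @LocallyOfFiniteType f')
    (hf : LocP (@LocallyQuasiFinite ⊓ @LocallyOfFiniteType) f) :
    LocP (@LocallyQuasiFinite ⊓ @LocallyOfFiniteType) f' := by
  intro U V a b h ha hb w
  refine ⟨(HasRingHomProperty.iff_appLE (P := @LocallyQuasiFinite)).2 fun V₀ U₀ hUV => ?_,
    hl a b h ha hb w⟩
  obtain ⟨J, hJ, -, hP⟩ := exists_quot_chart hj hi hcart hf a b h ha hb w V₀.2 U₀.2 hUV
  exact quasiFinite_of_nilradical hJ ((HasRingHomProperty.Spec_iff (P := @LocallyQuasiFinite)).1 hP.1)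
    (HasRingHomProperty.appLE (P := @LocallyOfFiniteType) h.left (hl a b h ha hb w) V₀ U₀ hUV)

/-- An immersion after a surjection, which is a monomorphism locally of finite type, is an
immersion. -/
theorem isImmersion_of_surjective_comp {A W Z : Scheme.{u}} (u : A ⟶ W) (h : W ⟶ Z) [Surjective u]
    [IsImmersion (u ≫ h)] [Mono h] [LocallyOfFiniteType h] : IsImmersion h := by
  let O := (u ≫ h).coborderRange
  have hr : Set.range h ⊆ Set.range O.ι := by
    rintro _ ⟨w, rfl⟩
    obtain ⟨x, rfl⟩ := u.surjective w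
    rw [← Scheme.Hom.comp_apply, ← (u ≫ h).liftCoborder_ι, Scheme.Hom.comp_apply]
    exact ⟨_, rfl⟩
  let h' := IsOpenImmersion.lift O.ι h hr
  have e : h' ≫ O.ι = h := IsOpenImmersion.lift_fac _ _ _
  have e' : u ≫ h' = (u ≫ h).liftCoborder := by
    rw [← cancel_mono O.ι, Category.assoc, e]
    exact ((u ≫ h).liftCoborder_ι).symm
  have : UniversallyClosed (u ≫ h') := by rw [e']; infer_instance
  have : UniversallyClosed h' := UniversallyClosed.of_comp_surjective u h'
  have : Mono (h' ≫ O.ι) := by rw [e]; infer_instance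
  have : Mono h' := mono_of_mono h' O.ι
  have : LocallyOfFiniteType (h' ≫ O.ι) := by rw [e]; infer_instance
  have : LocallyOfFiniteType h' := locallyOfFiniteType_of_comp h' O.ι
  have : IsProper h' := {}
  have : IsClosedImmersion h' := (IsClosedImmersion.iff_isProper_and_mono _).2 ⟨inferInstance, ‹_›⟩
  rw [← e]
  infer_instance

section Main

variable (hi : IsThickMor i) (hj : IsThickMor j) (hl : LocP @LocallyOfFiniteType f')
  (hX : IsAlgSpace X) (hX' : IsAlgSpace X') (hY : IsAlgSpace Y) (hY' : IsAlgSpace Y')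
  (hcart : IsPullback i f f' j)
include hi hj hl hX hX' hY hY' hcart

theorem mono_of_thick_cartesian [Mono f] (hf : LocP @LocallyOfFiniteType f) : Mono f' :=
  mono_of_unramified_univInjective hX' hY'
    (unramified_of_thick (closedImmersion_of_thick hj) hi hcart hl (unramified_of_mono hX hY hf))
    ((thick_univInjective_iff hi hj hX hX' hY hY' hcart.w).1 (isUnivInjectiveMor_of_mono f))

theorem closedImmersion_of_thick_cartesian (h : RepWith @IsClosedImmersion f) :
    RepWith @IsClosedImmersion f' := by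
  have := mono_of_repWith_closedImmersion h
  have := mono_of_thick_cartesian hi hj hl hX hX' hY hY' hcart (lft_of_repWith_closedImmersion hY h)
  exact repWith_closedImmersion_of_univClosed hX' hY'
    ((thick_univClosed_iff hi hj hX hX' hY hY' hcart.w).1 (isUnivClosedMor_of_repWith_closedImmersion h)) hl

theorem immersion_of_thick_cartesian (h : RepWith @IsImmersion f) : RepWith @IsImmersion f' := by
  have := mono_of_isImmersion h
  have hlf : LocP @LocallyOfFiniteType f :=
    locP_of_repWith hY (repWith_mono (Q := @LocallyOfFiniteType) (fun _ _ g (_ : IsImmersion g) => inferInstance) h)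
  have hm := mono_of_thick_cartesian hi hj hl hX hX' hY hY' hcart hlf
  have hr := representable_of_mono_lft hX' hY' hl
  have hl' := repWith_of_locP hY' hr hl
  have hc : RepWith @IsImmersion (i ≫ f') := by
    rw [hcart.w]
    exact repWith_comp h (repWith_mono (Q := @IsImmersion) (fun _ _ g (_ : IsClosedImmersion g) => inferInstance)
      (closedImmersion_of_thick hj))
  refine repWith_mk fun T g => ⟨_, hr.fst g, hr.snd g, hr.isPullback g, ?_⟩
  have sq := hr.isPullback g
  have sqi := hi.1.isPullback (hr.fst g)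
  have sqc := sqi.paste_vert sq
  rw [← Functor.map_comp] at sqc
  have : Surjective (hi.1.snd (hr.fst g)).left := (hi.2 _ _ _ sqi).2
  have h₁ : IsImmersion ((hi.1.snd (hr.fst g)).left ≫ (hr.snd g).left) := hc.2 _ _ _ sqc
  have : LocallyOfFiniteType (hr.snd g).left := hl'.2 _ _ _ sq
  have : Mono ((yon S).map (hr.snd g)) :=
    MorphismProperty.of_isPullback (P := MorphismProperty.monomorphisms (Sp S)) sq hm
  have : Mono (hr.snd g) := (yon S).mono_of_mono_map this
  have : Mono (hr.snd g).left := Over.mono_left_of_mono (hr.snd g)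
  exact isImmersion_of_surjective_comp (hi.1.snd (hr.fst g)).left (hr.snd g).left

theorem proper_of_thick_cartesian (h : IsProperMor f) : IsProperMor f' :=
  ⟨(thick_separated_iff hi hj hX hX' hY hY' hcart.w).1 h.1,
    ⟨hl,
      (thick_quasiCompact_iff hi hj hX hX' hY hY' hcart.w).1 h.2.1.2⟩,
    (thick_univClosed_iff hi hj hX hX' hY hY' hcart.w).1 h.2.2⟩

theorem finite_of_thick_cartesian (h : IsFiniteMor f) : IsFiniteMor f' := by
  have hp := proper_of_thick_cartesian hi hj hl hX hX' hY hY' hcart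
    ((isFiniteMor_iff_affine_proper hX hY).1 h).2
  have hq : LocP (@LocallyQuasiFinite ⊓ @LocallyOfFiniteType) f' :=
    lqf_of_thick (closedImmersion_of_thick hj) hi hcart hl
      (locP_of_repWith hY (repWith_mono (fun _ _ g (_ : IsFinite g) => ⟨inferInstance, inferInstance⟩)
        (isFiniteMor_iff_repWith.1 h)))
  have hr := representable_of_lqf_separated hX' hY' f' hp.1 hq
  have h₁ := repWith_of_locP hY' hr hq
  have h₂ := (repWith_isProper_iff hX' hY' hr).2 hp
  refine isFiniteMor_iff_repWith.2 ⟨hr, fun T W g fst snd sq => ?_⟩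
  have : IsProper snd.left := h₂.2 g fst snd sq
  have : LocallyQuasiFinite snd.left := (h₁.2 g fst snd sq).1
  exact IsFinite.of_isProper_of_locallyQuasiFinite snd.left

end Main

end Groth.Agent.AlgSpDescent
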