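import Groth.Agent.Lib.AlgSpDescent.DeformRing
import Groth.Agent.Lib.AlgSpDescent.ThickFin
import Groth.Agent.Lib.AlgSpDescent.RepBase2
import Groth.Agent.Lib.AlgSpace.Sub

/-!
# Flat deformations of morphisms of spaces along finite order thickenings
-/

universe u

set_option backward.isDefEq.respectTransparency.types false

open CategoryTheory CategoryTheory.Limits AlgebraicGeometry Opposite MorphismProperty

namespace Groth.Agent.AlgSpDescent

open AlgSp Groth.Agent.AlgSpace Groth.Agent.AlgSpDecent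

variable {S : Scheme.{u}} {X X' Y Y' B B' : Sp S}

/-- Pull a square-zero style quotient back along a ring map, through a cartesian square. -/
theorem exists_quot_lift {i : X ⟶ X'} {j : Y ⟶ Y'} {f : X ⟶ Y} {f' : X' ⟶ Y'}
    (hcart : IsPullback i f f' j) {A C : CommRingCat.{u}} (φ : A ⟶ C) (str : Spec A ⟶ S)
    {β : (yon S).obj (Over.mk str) ⟶ Y'} {γ : (yon S).obj (Over.mk (Spec.map φ ≫ str)) ⟶ X'}
    (hγ : γ ≫ f' = (yon S).map (specArrow φ str) ≫ β) {J : Ideal A}
    {t : (yon S).obj (Over.mk (Spec.map (CommRingCat.ofHom (Ideal.Quotient.mk J)) ≫ str)) ⟶ Y}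
    (sqt : IsPullback t ((yon S).map (quotArrow J str)) j β) :
    ∃ r : (yon S).obj (Over.mk (Spec.map (CommRingCat.ofHom (Ideal.Quotient.mk (J.map φ.hom))) ≫
        Spec.map φ ≫ str)) ⟶ X,
      IsPullback r ((yon S).map (quotArrow (J.map φ.hom) (Spec.map φ ≫ str))) i γ ∧
        r ≫ f = (yon S).map (quotTop J φ str) ≫ t := by
  let q := (yon S).map (quotArrow (J.map φ.hom) (Spec.map φ ≫ str))
  let r := hcart.lift (q ≫ γ) ((yon S).map (quotTop J φ str) ≫ t) (by
    rw [Category.assoc, hγ, Category.assoc, sqt.w]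
    exact (reassoc_of% (isPullback_quotTop J φ str).w) β |>.symm)
  have hr1 : r ≫ i = q ≫ γ := hcart.lift_fst _ _ _
  have hr2 : r ≫ f = (yon S).map (quotTop J φ str) ≫ t := hcart.lift_snd _ _ _
  exact ⟨r, IsPullback.of_right (h₁₂ := f)
    (by rw [hr2, hγ]; exact (isPullback_quotTop J φ str).paste_horiz sqt) hr1 hcart.flip, hr2⟩

/-- A property of a representable morphism can be checked on affine pieces of an atlas. -/
theorem repWith_of_pieces {P : MorphismProperty Scheme.{u}} [P.IsStableUnderBaseChange]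
    [IsZariskiLocalAtTarget P] [P.IsLocalAtTarget Scheme.fppfPrecoverage] {F G : Sp S} {f : F ⟶ G}
    (hf : Representable f) {U : Over S} {p : (yon S).obj U ⟶ G} (hp : RepWith @Etale p)
    (hps : RepWith @Surjective p)
    (h : ∀ x : U.left, ∃ (T : Over S) (k : T ⟶ U) (W : Over S) (fst : (yon S).obj W ⟶ F) (snd : W ⟶ T),
      IsOpenImmersion k.left ∧ x ∈ Set.range k.left ∧
      IsPullback fst ((yon S).map snd) f ((yon S).map k ≫ p) ∧ P snd.left) : RepWith P f := by
  have : Sheaf.IsLocallySurjective p := isLocallySurjective_of_etale hp hps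
  have sq₀ := hf.isPullback p
  refine repWith_of_locallySurjective hf sq₀ P ((repWith_yon_map_iff P _).2 ?_)
  choose T k W fst snd hk hx sq hP using h
  refine IsZariskiLocalAtTarget.of_iSup_eq_top (fun x => (k x).left.opensRange)
    (eq_top_iff.2 fun y _ => TopologicalSpace.Opens.mem_iSup.2 ⟨y, hx y⟩) fun x => ?_
  obtain ⟨l, hl⟩ := (yon S).map_surjective (sq₀.lift (fst x) ((yon S).map (snd x ≫ k x)) (by
    rw [(sq x).w, Functor.map_comp_assoc]))
  have hl1 : (yon S).map l ≫ hf.fst p = fst x := by rw [hl]; exact sq₀.lift_fst _ _ _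
  have hl2 : l ≫ hf.snd p = snd x ≫ k x := (yon S).map_injective (by
    rw [Functor.map_comp, hl]; exact sq₀.lift_snd _ _ _)
  have sqy : IsPullback ((yon S).map l) ((yon S).map (snd x)) ((yon S).map (hf.snd p))
      ((yon S).map (k x)) := by
    refine IsPullback.of_right (h₁₂ := hf.fst p) (by rw [hl1]; exact sq x) ?_ sq₀
    rw [← Functor.map_comp, hl2, Functor.map_comp]
  have sqs := (IsPullback.of_map (yon S) hl2 sqy).map (Over.forget S)
  refine (P.arrow_mk_iso_iff (morphismRestrictOpensRange (hf.snd p).left (k x).left)).2 ?_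
  exact (P.cancel_left_of_respectsIso sqs.isoPullback.hom _).1
    (by erw [sqs.isoPullback_hom_snd]; exact hP x)

variable {iX : X ⟶ X'} {iY : Y ⟶ Y'} {iB : B ⟶ B'} {f : X ⟶ Y} {f' : X' ⟶ Y'}
  {g : Y ⟶ B} {g' : Y' ⟶ B'}

theorem isPullback_deform (hcX : IsPullback iX (f ≫ g) (f' ≫ g') iB) (hcY : IsPullback iY g g' iB)
    (w : iX ≫ f' = f ≫ iY) : IsPullback iX f f' iY :=
  IsPullback.of_bot hcX w hcY

/-- Affine pieces of a morphism over a finite order thickening. -/
theorem exists_deform_pieces (hcY : IsPullback iY g g' iB) (hB : IsThickMor iB) (hY' : IsAlgSpace Y')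
    (hB' : IsAlgSpace B') :
    ∃ (U : Over S) (p : (yon S).obj U ⟶ Y'), RepWith @Etale p ∧ RepWith @Surjective p ∧ ∀ x : U.left,
      ∃ (A C : CommRingCat.{u}) (φ : A ⟶ C) (str : Spec A ⟶ S) (β : (yon S).obj (Over.mk str) ⟶ B')
        (k : Over.mk (Spec.map φ ≫ str) ⟶ U) (J : Ideal A)
        (r : (yon S).obj (Over.mk (Spec.map (CommRingCat.ofHom (Ideal.Quotient.mk (J.map φ.hom))) ≫
          Spec.map φ ≫ str)) ⟶ Y),
        RepWith @Etale β ∧ IsOpenImmersion k.left ∧ x ∈ Set.range k.left ∧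
        ((yon S).map k ≫ p) ≫ g' = (yon S).map (specArrow φ str) ≫ β ∧
        (IsFinThickMor iB → ∃ m, J ^ m = ⊥) ∧ J.map φ.hom ≤ nilradical C ∧
        IsPullback r ((yon S).map (quotArrow (J.map φ.hom) (Spec.map φ ≫ str))) iY ((yon S).map k ≫ p) := by
  obtain ⟨U, V, p, q, h, hp, hps, hq, hqs, w⟩ := exists_chart_square hY' hB' g'
  refine ⟨U, p, hp, hps, fun x => ?_⟩
  obtain ⟨V₀, hV, hxV, -⟩ :=
    exists_isAffineOpen_mem_and_subset (X := V.left) (x := h.left x) (U := ⊤) trivial
  obtain ⟨U₀, hU, hxU, hUV⟩ :=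
    exists_isAffineOpen_mem_and_subset (X := U.left) (x := x) (U := h.left ⁻¹ᵁ V₀) hxV
  let φ := h.left.appLE V₀ U₀ hUV
  let str := hV.fromSpec ≫ V.hom
  let gV : Over.mk str ⟶ V := Over.homMk hV.fromSpec rfl
  let k : Over.mk (Spec.map φ ≫ str) ⟶ U := Over.homMk hU.fromSpec (by
    change hU.fromSpec ≫ U.hom = Spec.map φ ≫ hV.fromSpec ≫ V.hom
    rw [IsAffineOpen.SpecMap_appLE_fromSpec_assoc h.left hV hU hUV, Over.w h])
  have hk : k ≫ h = specArrow φ str ≫ gV :=
    Over.OverMorphism.ext (IsAffineOpen.SpecMap_appLE_fromSpec h.left hV hU hUV).symm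
  let β := (yon S).map gV ≫ q
  have hge : Etale gV.left := inferInstanceAs (Etale hV.fromSpec)
  have hβ : RepWith @Etale β := repWith_comp ((repWith_yon_map_iff @Etale gV).2 hge) hq
  have hγ : ((yon S).map k ≫ p) ≫ g' = (yon S).map (specArrow φ str) ≫ β := by
    simp only [β, Category.assoc, w, ← Functor.map_comp_assoc, hk]
  obtain ⟨J, t, sqt⟩ := exists_quot_of_affine (closedImmersion_of_thick hB) str β
  obtain ⟨r, hr, -⟩ := exists_quot_lift hcY φ str hγ sqt
  have hs : Surjective (quotArrow (J.map φ.hom) (Spec.map φ ≫ str)).left :=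
    ((repWith_of_isPullback hcY.flip hB).2 _ _ _ hr).2
  refine ⟨_, _, φ, str, β, k, J, r, hβ, inferInstanceAs (IsOpenImmersion hU.fromSpec), ?_, hγ,
    fun ⟨n, _, hn⟩ => ⟨n + 1, ?_⟩, ?_, hr⟩
  · change x ∈ Set.range hU.fromSpec
    rw [hU.range_fromSpec]
    exact hxU
  · have hker : powZero n (quotArrow J str).left :=
      hn β t _ (inferInstanceAs (IsAffine (Spec Γ(V.left, V₀)))) hβ sqt
    exact pow_eq_bot_of_ker (A := Γ(V.left, V₀)) J hker
  · intro z hz
    rw [nilradical_eq_sInf, Ideal.mem_sInf]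
    intro p' hp'
    obtain ⟨y, hy⟩ := hs.surj (⟨p', hp'⟩ : PrimeSpectrum Γ(U.left, U₀))
    rw [show p' = (PrimeSpectrum.comap (Ideal.Quotient.mk (J.map φ.hom)) y).asIdeal from
      congrArg PrimeSpectrum.asIdeal hy.symm]
    change Ideal.Quotient.mk (J.map φ.hom) z ∈ y.asIdeal
    rw [Ideal.Quotient.eq_zero_iff_mem.2 hz]
    exact zero_mem _

variable (iB f' g') in
/-- Either the thickened base has finite order, or the finiteness conditions of the deformation
theorems hold. -/
def DeformHyp : Prop :=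
  IsFinThickMor iB ∨
    (IsThickMor iB ∧ LocP @LocallyOfFiniteType g' ∧ LocP @LocallyOfFinitePresentation (f' ≫ g'))

theorem DeformHyp.thick (h : DeformHyp iB f' g') : IsThickMor iB := by
  rcases h with ⟨n, h, -⟩ | ⟨h, -⟩ <;> exact h

/-- Properties of affine flat deformations. -/
theorem repWith_deform {P : MorphismProperty Scheme.{u}} [P.IsStableUnderBaseChange]
    [IsZariskiLocalAtTarget P] [P.IsLocalAtTarget Scheme.fppfPrecoverage]
    (hP : ∀ {A C D : CommRingCat.{u}} (φ : A ⟶ C) (ψ : C ⟶ D) (J : Ideal A),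
      ((∃ m, J.map φ.hom ^ m = ⊥) ∨ (J.map φ.hom ≤ nilradical C ∧ φ.hom.FiniteType ∧
        (ψ.hom.comp φ.hom).FinitePresentation)) →
      (ψ.hom.comp φ.hom).Flat → P (quotSpec (J.map φ.hom) ψ) →
      (∀ Q : MorphismProperty Scheme.{u}, RepWith Q f' → Q (Spec.map ψ)) →
      P (Spec.map ψ))
    (hcX : IsPullback iX (f ≫ g) (f' ≫ g') iB) (hcY : IsPullback iY g g' iB) (w : iX ≫ f' = f ≫ iY)
    (hB : DeformHyp iB f' g') (hY' : IsAlgSpace Y') (hB' : IsAlgSpace B')
    (hflat : LocP @Flat (f' ≫ g')) (haff : RepWith @IsAffineHom f') (hf : RepWith P f) :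
    RepWith P f' := by
  obtain ⟨U, p, hp, hps, hU⟩ := exists_deform_pieces hcY hB.thick hY' hB'
  refine repWith_of_pieces haff.1 hp hps fun x => ?_
  obtain ⟨A, C, φ, str, β, k, J, r, hβ, hk, hx, hγ, hfin, hnil, hr⟩ := hU x
  let γ := (yon S).map k ≫ p
  have sq := haff.1.isPullback γ
  have : IsAffineHom (haff.1.snd γ).left := haff.2 _ _ _ sq
  have : IsAffine (haff.1.pullback γ).left := isAffine_of_isAffineHom (haff.1.snd γ).left
  let W := haff.1.pullback γ
  obtain ⟨ψ, hψ⟩ := Spec.map_surjective (W.left.isoSpec.inv ≫ (haff.1.snd γ).left :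
    Spec Γ(W.left, ⊤) ⟶ Spec C)
  let e : Over.mk (Spec.map ψ ≫ Spec.map φ ≫ str) ≅ W := Over.isoMk W.left.isoSpec.symm (by
    change W.left.isoSpec.inv ≫ W.hom = Spec.map ψ ≫ Spec.map φ ≫ str
    rw [hψ, Category.assoc]
    exact congrArg (W.left.isoSpec.inv ≫ ·) (Over.w (haff.1.snd γ)).symm)
  have he : e.hom ≫ haff.1.snd γ = specArrow ψ (Spec.map φ ≫ str) := Over.OverMorphism.ext hψ.symm
  let fstD := (yon S).map e.hom ≫ haff.1.fst γ
  have sqD : IsPullback fstD ((yon S).map (specArrow ψ (Spec.map φ ≫ str))) f' γ := by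
    refine IsPullback.of_iso sq ((yon S).mapIso e.symm) (Iso.refl _) (Iso.refl _) (Iso.refl _)
      ?_ ?_ (by simp) (by simp)
    · simp [fstD, ← Functor.map_comp_assoc]
    · simp [← Functor.map_comp, ← he]
  refine ⟨_, k, _, fstD, specArrow ψ (Spec.map φ ≫ str), hk, hx, sqD, ?_⟩
  obtain ⟨r', hr', hr'f⟩ := exists_quot_lift (isPullback_deform hcX hcY w) ψ (Spec.map φ ≫ str) sqD.w hr
  have sqf : IsPullback r' ((yon S).map (quotTop (J.map φ.hom) ψ (Spec.map φ ≫ str))) f r := by
    refine IsPullback.of_right (h₁₂ := iX) ?_ hr'f (isPullback_deform hcX hcY w)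
    rw [hr'.w, hr.w]
    exact ((isPullback_quotTop (J.map φ.hom) ψ (Spec.map φ ≫ str)).flip).paste_horiz sqD
  have hke : Etale k.left := inferInstance
  have hfstD : RepWith @Etale fstD := repWith_of_isPullback sqD.flip
    (repWith_comp ((repWith_yon_map_iff @Etale k).2 hke) hp)
  have hfl : Flat ((specArrow ψ (Spec.map φ ≫ str)) ≫ specArrow φ str).left :=
    hflat fstD β _ hfstD hβ (by rw [reassoc_of% sqD.w, hγ, Functor.map_comp_assoc])
  have hfl' : (φ ≫ ψ).hom.Flat := by
    refine (HasRingHomProperty.Spec_iff (P := @Flat)).1 ?_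
    rw [Spec.map_comp]
    exact hfl
  refine hP φ ψ J ?_ hfl' (hf.2 _ _ _ sqf) fun Q hQ => hQ.2 _ _ _ sqD
  rcases hB with hB | ⟨-, hg', hq'⟩
  · obtain ⟨m, hm⟩ := hfin hB
    exact Or.inl ⟨m, by rw [← Ideal.map_pow, hm, Ideal.map_bot]⟩
  · refine Or.inr ⟨hnil, ?_, ?_⟩
    · exact (HasRingHomProperty.Spec_iff (P := @LocallyOfFiniteType)).1
        (hg' ((yon S).map k ≫ p) β (specArrow φ str)
          (repWith_comp ((repWith_yon_map_iff @Etale k).2 hke) hp) hβ hγ)
    · have hfp : LocallyOfFinitePresentation (specArrow ψ (Spec.map φ ≫ str) ≫ specArrow φ str).left :=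
        hq' fstD β _ hfstD hβ (by rw [reassoc_of% sqD.w, hγ, Functor.map_comp_assoc])
      refine (HasRingHomProperty.Spec_iff (P := @LocallyOfFinitePresentation) (φ := φ ≫ ψ)).1 ?_
      rw [Spec.map_comp]
      exact hfp

/-! ### Consequences -/

theorem isIso_iff_repWith {F G : Sp S} (a : F ⟶ G) :
    IsIso a ↔ RepWith (MorphismProperty.isomorphisms Scheme.{u}) a := by
  refine ⟨fun _ => ?_, fun h => ?_⟩
  · have : (MorphismProperty.isomorphisms Scheme.{u}).IsMultiplicative := inferInstance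
    exact MorphismProperty.of_isIso (RepWith (S := S) (MorphismProperty.isomorphisms Scheme.{u})) a
  · have : Mono a := mono_of_repWith a (repWith_mono (fun _ _ v (_ : IsIso v) =>
      (inferInstance : Mono v)) h)
    refine isIso_of_mono_of_lifts a fun T y => ?_
    have sq := h.1.isPullback y
    have : IsIso (h.1.snd y).left := h.2 y _ _ sq
    have : IsIso ((Over.forget S).map (h.1.snd y)) := ‹_›
    have : IsIso (h.1.snd y) := isIso_of_reflects_iso _ (Over.forget S)
    exact ⟨inv ((yon S).map (h.1.snd y)) ≫ h.1.fst y, by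
      rw [Category.assoc, sq.w, IsIso.inv_hom_id_assoc]⟩

theorem isPullback_map_fst (hcart : IsPullback iX f f' iY) :
    IsPullback (pullback.map f f f' f' iX iX iY hcart.w.symm hcart.w.symm) (pullback.fst f f)
      (pullback.fst f' f') iX := by
  refine IsPullback.of_right (h₁₂ := pullback.snd f' f') (v₁₃ := f') ?_
    (pullback.lift_fst _ _ _) (IsPullback.of_hasPullback f' f').flip
  rw [show pullback.map f f f' f' iX iX iY hcart.w.symm hcart.w.symm ≫ pullback.snd f' f' =
    pullback.snd f f ≫ iX from pullback.lift_snd _ _ _, hcart.w]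
  exact (IsPullback.of_hasPullback f f).flip.paste_horiz hcart

theorem isLocalAtTarget_fppf_finLocFree :
    (@IsFinite ⊓ @Flat ⊓ @LocallyOfFinitePresentation : MorphismProperty Scheme.{u}).IsLocalAtTarget
      Scheme.fppfPrecoverage := by
  have := FpqcDesc.descendsAlong_isFinite.{u}
  have := descendsAlong_inf (P := @IsFinite.{u}) (P' := @Flat)
    (Q := @Surjective ⊓ @Flat ⊓ @QuasiCompact)
  have := descendsAlong_inf (P := (@IsFinite ⊓ @Flat : MorphismProperty Scheme.{u}))
    (P' := @LocallyOfFinitePresentation) (Q := @Surjective ⊓ @Flat ⊓ @QuasiCompact)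
  exact isLocalAtTarget_fppf _

variable (hcX : IsPullback iX (f ≫ g) (f' ≫ g') iB) (hcY : IsPullback iY g g' iB)
  (w : iX ≫ f' = f ≫ iY) (hB : DeformHyp iB f' g') (hX' : IsAlgSpace X') (hY' : IsAlgSpace Y')
  (hB' : IsAlgSpace B')

include hcX hcY w hB hX' hY' hB'

theorem deform_thick : IsThickMor iX ∧ IsThickMor iY := by
  have h := hB.thick
  exact ⟨repWith_of_isPullback hcX.flip h, repWith_of_isPullback hcY.flip h⟩

theorem isAlgSpace_deform (hX : IsAlgSpace X) (hY : IsAlgSpace Y) :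
    IsAlgSpace (pullback f f) ∧ IsAlgSpace (pullback f' f') :=
  ⟨isAlgSpace_baseChange hX hY hX (IsPullback.of_hasPullback f f),
    isAlgSpace_baseChange hX' hY' hX' (IsPullback.of_hasPullback f' f')⟩

/-- Finite type over the thickened base ascends. -/
theorem lft_deform (hf : LocP @LocallyOfFiniteType f) : LocP @LocallyOfFiniteType f' := by
  rcases hB with hB | ⟨-, hg', hq'⟩
  swap
  · exact locP_of_comp (P := @LocallyOfFiniteType) (Q' := @LocallyOfFinitePresentation)
      (R := @LocallyOfFiniteType) (fun _ _ _ k l (hkl : LocallyOfFinitePresentation (k ≫ l)) _ =>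
        locallyOfFiniteType_of_comp k l) hX' hY' hB' hq' hg'
  obtain ⟨U, p, hp, hps, hU⟩ :=
    exists_deform_pieces hcY (DeformHyp.thick (f' := f') (g' := g') (Or.inl hB)) hY' hB'
  obtain ⟨U₂, a, h, ha, has, wh⟩ := exists_chart_over hX' hY' f' p hp hps
  refine locP_of_one_chart a p h ha has hp wh ?_
  have hloc : ∀ z : U₂.left, ∃ O : U₂.left.Opens, z ∈ O ∧ LocallyOfFiniteType (O.ι ≫ h.left) := by
    intro z
    obtain ⟨A, C, φ, str, β, k, J, r, hβ, hk, hx, hγ, hfin, -, hr⟩ := hU (h.left z)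
    obtain ⟨m, hm⟩ := hfin hB
    obtain ⟨O, hO, hzO, hOk⟩ := exists_isAffineOpen_mem_and_subset (X := U₂.left) (x := z)
      (U := h.left ⁻¹ᵁ k.left.opensRange) hx
    let l := IsOpenImmersion.lift k.left (hO.fromSpec ≫ h.left) (by
      rintro _ ⟨y, rfl⟩
      exact hOk (show hO.fromSpec y ∈ (O : Set U₂.left) from hO.range_fromSpec ▸ ⟨y, rfl⟩))
    obtain ⟨ψ, hψ⟩ := Spec.map_surjective (l : Spec Γ(U₂.left, O) ⟶ Spec C)
    have hψk : Spec.map ψ ≫ k.left = hO.fromSpec ≫ h.left := by
      rw [hψ, IsOpenImmersion.lift_fac]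
    let e : Over.mk (Spec.map ψ ≫ Spec.map φ ≫ str) ⟶ U₂ := Over.homMk hO.fromSpec (by
      change hO.fromSpec ≫ U₂.hom = Spec.map ψ ≫ Spec.map φ ≫ str
      rw [← Over.w h, ← Category.assoc, ← hψk, Category.assoc, Over.w k]
      rfl)
    have he : e ≫ h = specArrow ψ (Spec.map φ ≫ str) ≫ k := Over.OverMorphism.ext hψk.symm
    let δ := (yon S).map e ≫ a
    have hee : Etale e.left := inferInstanceAs (Etale hO.fromSpec)
    have hδ : RepWith @Etale δ := repWith_comp ((repWith_yon_map_iff @Etale e).2 hee) ha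
    have hδf : δ ≫ f' = (yon S).map (specArrow ψ (Spec.map φ ≫ str)) ≫ (yon S).map k ≫ p := by
      simp only [δ, Category.assoc, wh, ← Functor.map_comp_assoc, he]
    obtain ⟨r', hr', hr'f⟩ := exists_quot_lift (isPullback_deform hcX hcY w) ψ (Spec.map φ ≫ str) hδf hr
    have hke : Etale k.left := inferInstance
    have hq : LocallyOfFiniteType (quotSpec (J.map φ.hom) ψ) :=
      hf r' r (quotTop (J.map φ.hom) ψ (Spec.map φ ≫ str)) (repWith_of_isPullback hr'.flip hδ)
        (repWith_of_isPullback hr.flip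
          (repWith_comp ((repWith_yon_map_iff @Etale k).2 hke) hp)) hr'f
    have hψft : LocallyOfFiniteType (Spec.map ψ) :=
      (HasRingHomProperty.Spec_iff (P := @LocallyOfFiniteType)).2 (finiteType_of_nilpotent (m := m)
        (J := J.map φ.hom) (by rw [← Ideal.map_pow, ← Ideal.map_pow, hm, Ideal.map_bot, Ideal.map_bot])
        ((HasRingHomProperty.Spec_iff (P := @LocallyOfFiniteType)).1 hq))
    refine ⟨O, hzO, ?_⟩
    have : O.ι ≫ h.left = hO.isoSpec.hom ≫ Spec.map ψ ≫ k.left := by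
      rw [hψk, ← Category.assoc, IsAffineOpen.isoSpec_hom_fromSpec]
    rw [this]
    infer_instance
  choose O hzO hO using hloc
  exact IsZariskiLocalAtSource.of_iSup_eq_top O
    (eq_top_iff.2 fun z _ => TopologicalSpace.Opens.mem_iSup.2 ⟨z, hzO z⟩) hO

theorem deform_closedImmersion (hX : IsAlgSpace X) (hY : IsAlgSpace Y)
    (h : RepWith @IsClosedImmersion f) : RepWith @IsClosedImmersion f' :=
  closedImmersion_of_thick_cartesian (deform_thick hcX hcY w hB hX' hY' hB').1
    (deform_thick hcX hcY w hB hX' hY' hB').2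
    (lft_deform hcX hcY w hB hX' hY' hB' (lft_of_repWith_closedImmersion hY h))
    hX hX' hY hY' (isPullback_deform hcX hcY w) h

variable (hflat : LocP @Flat (f' ≫ g'))
include hflat

theorem deform_isIso_of_affine (hfinf : RepWith @IsFinite f') [IsIso f] : IsIso f' := by
  have haff : RepWith @IsAffineHom f' :=
    repWith_mono (fun _ _ v (_ : IsFinite v) => (inferInstance : IsAffineHom v)) hfinf
  have : (MorphismProperty.isomorphisms Scheme.{u}).IsLocalAtTarget Scheme.fppfPrecoverage :=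
    isLocalAtTarget_fppf _
  refine (isIso_iff_repWith f').2 (repWith_deform ?_ hcX hcY w hB hY' hB' hflat haff
    ((isIso_iff_repWith f).1 ‹_›))
  intro A C D φ ψ J hJ hfl hq hQ
  have : IsIso (Scheme.Spec.map (CommRingCat.ofHom (Ideal.quotientMap ((J.map φ.hom).map ψ.hom) ψ.hom
    Ideal.le_comap_map)).op) := hq
  have : IsIso (CommRingCat.ofHom (Ideal.quotientMap ((J.map φ.hom).map ψ.hom) ψ.hom
    Ideal.le_comap_map)).op := isIso_of_reflects_iso _ Scheme.Spec
  have := isIso_of_op (CommRingCat.ofHom (Ideal.quotientMap ((J.map φ.hom).map ψ.hom) ψ.hom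
    Ideal.le_comap_map))
  have hqb := ConcreteCategory.bijective_of_isIso
    (CommRingCat.ofHom (Ideal.quotientMap ((J.map φ.hom).map ψ.hom) ψ.hom Ideal.le_comap_map))
  have hb : Function.Bijective ψ.hom := by
    rcases hJ with ⟨m, hm⟩ | ⟨hJ, hft, hfp⟩
    · exact ringHom_bijective_of_flat φ.hom ψ.hom hfl hm hqb
    · exact ringHom_bijective_of_flat_nil φ.hom ψ.hom hfl hJ hft hfp
        ((IsFinite.SpecMap_iff _).1 (hQ @IsFinite hfinf)) hqb
  have : IsIso ψ := (ConcreteCategory.isIso_iff_bijective ψ).2 hb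
  exact inferInstanceAs (IsIso (Spec.map ψ))

theorem deform_isIso (hX : IsAlgSpace X) (hY : IsAlgSpace Y) [IsIso f] : IsIso f' := by
  have h : RepWith @IsClosedImmersion f :=
    repWith_mono (fun _ _ v (_ : IsIso v) => (inferInstance : IsClosedImmersion v))
      ((isIso_iff_repWith f).1 ‹_›)
  exact deform_isIso_of_affine hcX hcY w hB hX' hY' hB' hflat
    (repWith_mono (fun _ _ v (_ : IsClosedImmersion v) => (inferInstance : IsFinite v))
      (deform_closedImmersion hcX hcY w hB hX' hY' hB' hX hY h))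

theorem deform_mono (hX : IsAlgSpace X) (hY : IsAlgSpace Y) [Mono f] : Mono f' := by
  have hcart := isPullback_deform hcX hcY w
  obtain ⟨hiX, hiY⟩ := deform_thick hcX hcY w hB hX' hY' hB'
  obtain ⟨hP, hP'⟩ := isAlgSpace_deform hcX hcY w hB hX' hY' hB' hX hY
  let i₂ := pullback.map f f f' f' iX iX iY w.symm w.symm
  have hi₂ := isThickMor_map hiX hiY w
  have hd : pullback.diagonal f ≫ i₂ = iX ≫ pullback.diagonal f' := by
    apply pullback.hom_ext <;> simp [i₂, pullback.lift_fst, pullback.lift_snd, limit.lift_π, limit.lift_π_assoc]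
  have hbig : IsPullback iX (pullback.diagonal f ≫ pullback.fst f f)
      (pullback.diagonal f' ≫ pullback.fst f' f') iX := by
    rw [pullback.diagonal_fst, pullback.diagonal_fst]
    exact IsPullback.of_vert_isIso ⟨by simp⟩
  have sqd : IsPullback iX (pullback.diagonal f) (pullback.diagonal f') i₂ :=
    IsPullback.of_bot (v₂₁ := pullback.fst f f) (v₂₂ := pullback.fst f' f')
      hbig hd.symm (isPullback_map_fst hcart)
  have hl : LocP @LocallyOfFiniteType (pullback.diagonal f') :=
    locP_of_repWith hP' (repWith_diagonal_lft hX' f')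
  have hc : RepWith @IsClosedImmersion (pullback.diagonal f') :=
    closedImmersion_of_thick_cartesian hiX hi₂ hl hX hX' hP hP' sqd
      (repWith_diagonal_of_mono f)
  have sq₂ : IsPullback i₂ (pullback.fst f f ≫ f ≫ g) (pullback.fst f' f' ≫ f' ≫ g') iB :=
    (isPullback_map_fst hcart).paste_vert hcX
  have : IsIso (pullback.diagonal f) := inferInstance
  have hflat' : LocP @Flat (pullback.diagonal f' ≫ pullback.fst f' f' ≫ f' ≫ g') := by
    rw [← Category.assoc (pullback.diagonal f'), pullback.diagonal_fst, Category.id_comp]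
    exact hflat
  have hcX₂ : IsPullback iX (pullback.diagonal f ≫ pullback.fst f f ≫ f ≫ g)
      (pullback.diagonal f' ≫ pullback.fst f' f' ≫ f' ≫ g') iB := by
    rw [← Category.assoc (pullback.diagonal f'), pullback.diagonal_fst, Category.id_comp,
      ← Category.assoc (pullback.diagonal f), pullback.diagonal_fst, Category.id_comp]
    exact hcX
  have hB₂ : DeformHyp iB (pullback.diagonal f') (pullback.fst f' f' ≫ f' ≫ g') := by
    rcases hB with hB | ⟨h₁, hg', hq'⟩
    · exact Or.inl hB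
    · have hl' : LocP @LocallyOfFiniteType f' :=
        lft_deform hcX hcY w (Or.inr ⟨h₁, hg', hq'⟩) hX' hY' hB'
          (locP_of_isPullback hX' hY' hY hcart (locP_of_comp (P := @LocallyOfFiniteType)
            (Q' := @LocallyOfFinitePresentation) (R := @LocallyOfFiniteType)
            (fun _ _ _ k l (hkl : LocallyOfFinitePresentation (k ≫ l)) _ =>
              locallyOfFiniteType_of_comp k l) hX' hY' hB' hq' hg'))
      refine Or.inr ⟨h₁, ?_, ?_⟩
      · exact locP_comp hP' hX' hB'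
          (locP_of_isPullback hX' hY' hX' (IsPullback.of_hasPullback f' f').flip hl')
          (locP_mono (fun _ _ v (_ : LocallyOfFinitePresentation v) =>
            (inferInstance : LocallyOfFiniteType v)) hq')
      · rw [← Category.assoc (pullback.diagonal f'), pullback.diagonal_fst, Category.id_comp]
        exact hq'
  have := deform_isIso_of_affine hcX₂ sq₂ hd.symm hB₂ hX' hP' hB' hflat'
    (repWith_mono (fun _ _ v (_ : IsClosedImmersion v) => (inferInstance : IsFinite v)) hc)
  exact (pullback.isIso_diagonal_iff f').1 this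

theorem deform_openImmersion (hX : IsAlgSpace X) (hY : IsAlgSpace Y)
    (h : RepWith @IsOpenImmersion f) : RepWith @IsOpenImmersion f' := by
  have hcart := isPullback_deform hcX hcY w
  obtain ⟨hiX, hiY⟩ := deform_thick hcX hcY w hB hX' hY' hB'
  let E : Set (Points Y') := Set.range (Points.map f')
  have hrange : E = Points.map iY '' Set.range (Points.map f) := by
    ext y
    constructor
    · rintro ⟨x', rfl⟩
      obtain ⟨x, rfl⟩ := surjective_of_thick hiX x'
      exact ⟨_, ⟨x, rfl⟩, by rw [← Points.map_comp, ← Points.map_comp, w]⟩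
    · rintro ⟨_, ⟨x, rfl⟩, rfl⟩
      exact ⟨Points.map iX x, by rw [← Points.map_comp, ← Points.map_comp, w]⟩
  have hE : IsOpen E := by
    rw [hrange]
    refine (isUnivOpenMor_of_thick hiY hY' (𝟙 Y') (𝟙 Y) iY IsPullback.of_id_fst) _ ?_
    exact ((repWith_universallyOpen_iff h.1).1 (repWith_mono (fun _ _ v (_ : IsOpenImmersion v) =>
      (inferInstance : UniversallyOpen v)) h) hY (𝟙 Y) (𝟙 X) f IsPullback.of_id_fst).isOpen_range
  have hι := repWith_openSubι hE
  obtain ⟨f₁', hf₁'⟩ := exists_factor_openSub (W := E) f' subset_rfl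
  have hO' : IsAlgSpace (openSub E) := isAlgSpace_of_representable hι.1 hY'
  have sqO := IsPullback.of_hasPullback iY (openSubι E)
  have hO : IsAlgSpace (pullback iY (openSubι E)) := isAlgSpace_baseChange hY hY' hO' sqO
  let f₁ : X ⟶ pullback iY (openSubι E) := pullback.lift f (iX ≫ f₁')
    (by rw [Category.assoc, hf₁', w])
  have e₁ : f₁ ≫ pullback.fst iY (openSubι E) = f := pullback.lift_fst _ _ _
  have e₂ : f₁ ≫ pullback.snd iY (openSubι E) = iX ≫ f₁' := pullback.lift_snd _ _ _
  have hfst : RepWith @IsOpenImmersion (pullback.fst iY (openSubι E)) :=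
    repWith_of_isPullback sqO.flip hι
  have : Mono (pullback.fst iY (openSubι E)) :=
    mono_of_isImmersion (repWith_mono (fun _ _ v (_ : IsOpenImmersion v) => (inferInstance : IsImmersion v)) hfst)
  have : IsIso f₁ := by
    refine isIso_of_isOpenImmersion_of_surjective ?_ fun z => ?_
    · exact repWith_of_isPullback (IsPullback.of_horiz_isIso_mono (fst := 𝟙 X)
        (g := pullback.fst iY (openSubι E)) (f := f) ⟨by rw [Category.id_comp, e₁]⟩) h
    · obtain ⟨x', hx'⟩ : Points.map (openSubι E) (Points.map (pullback.snd iY (openSubι E)) z) ∈ E :=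
        (range_openSubι E).subset ⟨_, rfl⟩
      obtain ⟨x, rfl⟩ := surjective_of_thick hiX x'
      refine ⟨x, ?_⟩
      have := mono_of_thick hiY
      refine isUnivInjectiveMor_of_mono (pullback.fst iY (openSubι E) ≫ iY) hY' (𝟙 Y') (𝟙 _) _
        IsPullback.of_id_fst ?_
      rw [← Points.map_comp, ← Category.assoc, e₁, ← w, Points.map_comp, hx', pullback.condition,
        Points.map_comp]
  have hcX₁ : IsPullback iX (f₁ ≫ pullback.fst iY (openSubι E) ≫ g)
      (f₁' ≫ openSubι E ≫ g') iB := by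
    rw [reassoc_of% e₁, reassoc_of% hf₁']
    exact hcX
  have hflat₁ : LocP @Flat (f₁' ≫ openSubι E ≫ g') := by
    rw [reassoc_of% hf₁']
    exact hflat
  have hB₁ : DeformHyp iB f₁' (openSubι E ≫ g') := by
    rcases hB with hB | ⟨h₁, hg', hq'⟩
    · exact Or.inl hB
    · refine Or.inr ⟨h₁, locP_comp hO' hY' hB' (locP_of_repWith hY' (repWith_mono
        (Q := @LocallyOfFiniteType) (fun _ _ v (_ : IsOpenImmersion v) => inferInstance) hι)) hg', ?_⟩
      rw [reassoc_of% hf₁']
      exact hq'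
  have := deform_isIso hcX₁ (sqO.flip.paste_vert hcY) e₂.symm hB₁ hX' hO' hB' hflat₁ hX hO
  rw [← hf₁']
  exact (repWith_respectsIso_left f₁').2 hι

theorem deform_finLocFree (hX : IsAlgSpace X) (hY : IsAlgSpace Y) (h : IsFinLocFreeMor f) :
    IsFinLocFreeMor f' := by
  obtain ⟨hiX, hiY⟩ := deform_thick hcX hcY w hB hX' hY' hB'
  have hfin : IsFiniteMor f :=
    isFiniteMor_iff_repWith.2 (repWith_mono (fun _ _ _ hv => hv.1) h)
  have hfin' : RepWith @IsFinite f' := isFiniteMor_iff_repWith.1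
    (finite_of_thick_cartesian hiX hiY (lft_deform hcX hcY w hB hX' hY' hB'
      (locP_of_repWith hY (repWith_mono (Q := @LocallyOfFiniteType)
        (fun _ _ v hv => by have : IsFinite v := hv.1; infer_instance) h)))
      hX hX' hY hY' (isPullback_deform hcX hcY w) hfin)
  have := FpqcDesc.descendsAlong_isFinite.{u}
  unfold IsFinLocFreeMor at h ⊢
  rw [finLocFree_eq] at h ⊢
  have : (@IsFinite ⊓ @Flat ⊓ @LocallyOfFinitePresentation : MorphismProperty Scheme.{u}).IsLocalAtTarget
      Scheme.fppfPrecoverage := isLocalAtTarget_fppf_finLocFree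
  refine repWith_deform ?_ hcX hcY w hB hY' hB' hflat
    (repWith_mono (fun _ _ v (_ : IsFinite v) => (inferInstance : IsAffineHom v)) hfin') h
  intro A C D φ ψ J hJ hfl hq hQ
  have : IsFinite (Spec.map ψ) := hQ @IsFinite hfin'
  have hψ := (IsFinite.SpecMap_iff _).1 this
  have hq₁ := (HasRingHomProperty.Spec_iff (P := @Flat)).1 hq.1.2
  have hq₂ := (HasRingHomProperty.Spec_iff (P := @LocallyOfFinitePresentation)).1 hq.2
  obtain ⟨h₁, h₂⟩ : ψ.hom.Flat ∧ ψ.hom.FinitePresentation := by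
    rcases hJ with ⟨m, hm⟩ | ⟨hJ, hft, hfp⟩
    · exact ringHom_flat_fp_of_flat φ.hom ψ.hom hfl hm hψ hq₁ hq₂
    · exact ringHom_flat_fp_of_flat_nil φ.hom ψ.hom hfl hJ hft hfp hψ hq₁ hq₂
  exact ⟨⟨‹_›, (HasRingHomProperty.Spec_iff (P := @Flat)).2 h₁⟩,
    (HasRingHomProperty.Spec_iff (P := @LocallyOfFinitePresentation)).2 h₂⟩

theorem deform_finLocFreeOfDeg (hX : IsAlgSpace X) (hY : IsAlgSpace Y) {d : ℕ}
    (h : IsFinLocFreeOfDegMor d f) : IsFinLocFreeOfDegMor d f' := by
  obtain ⟨hiX, hiY⟩ := deform_thick hcX hcY w hB hX' hY' hB'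
  have h' := deform_finLocFree hcX hcY w hB hX' hY' hB' hflat hX hY
    (repWith_mono (fun _ _ _ hv => hv.1) h)
  refine ⟨h'.1, fun T W t fst snd sq => ⟨h'.2 t fst snd sq, fun y => ?_⟩⟩
  have sqT := hiY.1.isPullback t
  obtain ⟨y₀, rfl⟩ := (hiY.2 _ _ _ sqT).2.surj y
  have sqW := IsPullback.of_hasPullback snd (hiY.1.snd t)
  have sqb := (sqW.map (yon S)).paste_horiz sq
  obtain ⟨hfin, hfl, -⟩ := h'.2 t fst snd sq
  have : IsFinite snd.left := hfin
  have : Flat snd.left := hfl
  rw [← Scheme.Hom.finrank_of_isPullback _ _ _ _ (sqW.map (Over.forget S)) y₀]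
  let r₀ := (isPullback_deform hcX hcY w).lift ((yon S).map (pullback.fst snd (hiY.1.snd t)) ≫ fst)
    ((yon S).map (pullback.snd snd (hiY.1.snd t)) ≫ hiY.1.fst t)
    (by rw [sqb.w, Category.assoc, sqT.w])
  have sq₁ : IsPullback r₀ ((yon S).map (pullback.snd snd (hiY.1.snd t))) f (hiY.1.fst t) := by
    refine IsPullback.of_right (h₁₂ := iX) ?_ ((isPullback_deform hcX hcY w).lift_snd _ _ _)
      (isPullback_deform hcX hcY w)
    rw [(isPullback_deform hcX hcY w).lift_fst, sqT.w]
    exact sqb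
  exact (h.2 _ _ _ sq₁).2 y₀

end Groth.Agent.AlgSpDescent
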