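import Groth.Prelude.Def_AlgSpInf

/-!
# Formal properties of infinitesimal lifting
-/

universe u

set_option backward.isDefEq.respectTransparency.types false

open CategoryTheory CategoryTheory.Limits AlgebraicGeometry Opposite

namespace Groth.Agent.AlgSpDescent

open AlgSp

variable {S : Scheme.{u}} {F G H P : Sp S}

theorem formallySmooth_comp {a : F ⟶ G} {b : G ⟶ H} (ha : IsFormallySmoothMor a)
    (hb : IsFormallySmoothMor b) : IsFormallySmoothMor (a ≫ b) := by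
  intro sq
  obtain ⟨l, hl₁, hl₂⟩ := hb ⟨sq.A, sq.I, sq.sq_zero, sq.str, sq.top ≫ a, sq.bot,
    by rw [Category.assoc, sq.comm]⟩
  obtain ⟨m, hm₁, hm₂⟩ := ha ⟨sq.A, sq.I, sq.sq_zero, sq.str, sq.top, l, hl₁.symm⟩
  exact ⟨m, hm₁, by rw [← Category.assoc, hm₂, hl₂]⟩

theorem formallyUnramified_comp {a : F ⟶ G} {b : G ⟶ H} (ha : IsFormallyUnramifiedMor a)
    (hb : IsFormallyUnramifiedMor b) : IsFormallyUnramifiedMor (a ≫ b) := by
  intro sq l l' h₁ h₂ h₁' h₂'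
  have h : l ≫ a = l' ≫ a := hb ⟨sq.A, sq.I, sq.sq_zero, sq.str, sq.top ≫ a, sq.bot,
    by rw [Category.assoc, sq.comm]⟩ (l ≫ a) (l' ≫ a) ((Category.assoc _ _ _).symm.trans (congrArg (· ≫ a) h₁))
      ((Category.assoc _ _ _).trans h₂) ((Category.assoc _ _ _).symm.trans (congrArg (· ≫ a) h₁'))
      ((Category.assoc _ _ _).trans h₂')
  exact ha ⟨sq.A, sq.I, sq.sq_zero, sq.str, sq.top, l ≫ a,
    (congrArg (· ≫ a) h₁.symm).trans (Category.assoc _ _ _)⟩ l l' h₁ rfl h₁' h.symm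

theorem formallyEtale_iff {a : F ⟶ G} :
    IsFormallyEtaleMor a ↔ IsFormallySmoothMor a ∧ IsFormallyUnramifiedMor a := by
  constructor
  · intro h
    refine ⟨fun sq => (h sq).exists, fun sq l l' h₁ h₂ h₁' h₂' => (h sq).unique ⟨h₁, h₂⟩ ⟨h₁', h₂'⟩⟩
  · rintro ⟨hs, hu⟩ sq
    obtain ⟨l, hl⟩ := hs sq
    exact ⟨l, hl, fun l' hl' => hu sq l' l hl'.1 hl'.2 hl.1 hl.2⟩

theorem formallyEtale_comp {a : F ⟶ G} {b : G ⟶ H} (ha : IsFormallyEtaleMor a)
    (hb : IsFormallyEtaleMor b) : IsFormallyEtaleMor (a ≫ b) := by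
  rw [formallyEtale_iff] at *
  exact ⟨formallySmooth_comp ha.1 hb.1, formallyUnramified_comp ha.2 hb.2⟩

theorem formallyUnramified_of_comp {a : F ⟶ G} {b : G ⟶ H}
    (h : IsFormallyUnramifiedMor (a ≫ b)) : IsFormallyUnramifiedMor a := by
  intro sq l l' h₁ h₂ h₁' h₂'
  exact h ⟨sq.A, sq.I, sq.sq_zero, sq.str, sq.top, sq.bot ≫ b,
    by rw [← Category.assoc, sq.comm, Category.assoc]⟩ l l' h₁ ((Category.assoc _ _ _).symm.trans (congrArg (· ≫ b) h₂)) h₁'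
      ((Category.assoc _ _ _).symm.trans (congrArg (· ≫ b) h₂'))

theorem formallySmooth_of_comp {a : F ⟶ G} {b : G ⟶ H} (hb : IsFormallyUnramifiedMor b)
    (h : IsFormallySmoothMor (a ≫ b)) : IsFormallySmoothMor a := by
  intro sq
  obtain ⟨l, hl₁, hl₂⟩ := h ⟨sq.A, sq.I, sq.sq_zero, sq.str, sq.top, sq.bot ≫ b,
    by rw [← Category.assoc, sq.comm, Category.assoc]⟩
  refine ⟨l, hl₁, ?_⟩
  exact hb ⟨sq.A, sq.I, sq.sq_zero, sq.str, sq.top ≫ a, sq.bot ≫ b,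
    by rw [sq.comm]; exact Category.assoc _ _ _⟩ (l ≫ a) sq.bot
      ((Category.assoc _ _ _).symm.trans (congrArg (· ≫ a) hl₁)) ((Category.assoc _ _ _).trans hl₂) sq.comm.symm rfl

theorem formallyEtale_of_comp {a : F ⟶ G} {b : G ⟶ H} (hb : IsFormallyUnramifiedMor b)
    (h : IsFormallyEtaleMor (a ≫ b)) : IsFormallyEtaleMor a := by
  rw [formallyEtale_iff] at *
  exact ⟨formallySmooth_of_comp hb h.1, formallyUnramified_of_comp h.2⟩

theorem formallySmooth_baseChange {a : F ⟶ G} {b : H ⟶ G} {b' : P ⟶ F} {a' : P ⟶ H}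
    (hP : IsPullback b' a' a b) (h : IsFormallySmoothMor a) : IsFormallySmoothMor a' := by
  intro sq
  obtain ⟨l, hl₁, hl₂⟩ := h ⟨sq.A, sq.I, sq.sq_zero, sq.str, sq.top ≫ b', sq.bot ≫ b,
    by rw [Category.assoc, hP.w, ← Category.assoc, sq.comm, Category.assoc]⟩
  refine ⟨hP.lift l sq.bot hl₂, hP.hom_ext ?_ ?_, hP.lift_snd _ _ _⟩
  · rw [Category.assoc, hP.lift_fst]; exact hl₁
  · rw [Category.assoc, hP.lift_snd]; exact sq.comm.symm

theorem formallyUnramified_baseChange {a : F ⟶ G} {b : H ⟶ G} {b' : P ⟶ F} {a' : P ⟶ H}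
    (hP : IsPullback b' a' a b) (h : IsFormallyUnramifiedMor a) : IsFormallyUnramifiedMor a' := by
  intro sq l l' h₁ h₂ h₁' h₂'
  refine hP.hom_ext ?_ (h₂.trans h₂'.symm)
  exact h ⟨sq.A, sq.I, sq.sq_zero, sq.str, sq.top ≫ b', sq.bot ≫ b,
    by rw [Category.assoc, hP.w, ← Category.assoc, sq.comm, Category.assoc]⟩ (l ≫ b') (l' ≫ b')
      ((Category.assoc _ _ _).symm.trans (congrArg (· ≫ b') h₁)) ((Category.assoc _ _ _).trans ((congrArg (l ≫ ·) hP.w).trans ((Category.assoc _ _ _).symm.trans (congrArg (· ≫ b) h₂))))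
      ((Category.assoc _ _ _).symm.trans (congrArg (· ≫ b') h₁')) ((Category.assoc _ _ _).trans ((congrArg (l' ≫ ·) hP.w).trans ((Category.assoc _ _ _).symm.trans (congrArg (· ≫ b) h₂'))))

theorem formallyEtale_baseChange {a : F ⟶ G} {b : H ⟶ G} {b' : P ⟶ F} {a' : P ⟶ H}
    (hP : IsPullback b' a' a b) (h : IsFormallyEtaleMor a) : IsFormallyEtaleMor a' := by
  rw [formallyEtale_iff] at *
  exact ⟨formallySmooth_baseChange hP h.1, formallyUnramified_baseChange hP h.2⟩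

end Groth.Agent.AlgSpDescent
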