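import Groth.Agent.Lib.AlgSpace.Glue
import Groth.Agent.Lib.AlgSpace.LocP
import Groth.Agent.Lib.AlgSpace.Points
import Groth.Prelude.Def_AlgSp4

/-!
# Locally surjective morphisms: gluing and reflection of cartesian squares
-/

universe u

set_option backward.isDefEq.respectTransparency.types false

open CategoryTheory CategoryTheory.Limits AlgebraicGeometry Opposite MorphismProperty

namespace Groth.Agent.AlgSpDescent

open AlgSp Groth.Agent.AlgSpace

variable {S : Scheme.{u}}

/-- Gluing maps out of a representable sheaf along an fppf cover. -/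
theorem existsUnique_glue_fppf {T : Over S}
    (𝒰 : Scheme.Cover.{u} Scheme.fppfPrecoverage.{u} T.left) {F : Sp S}
    (l : ∀ k, (yon S).obj (Over.mk (𝒰.f k ≫ T.hom)) ⟶ F)
    (hl : ∀ i j (W : Over S) (a : W ⟶ Over.mk (𝒰.f i ≫ T.hom)) (b : W ⟶ Over.mk (𝒰.f j ≫ T.hom)),
      a ≫ overArrow (𝒰.f i) = b ≫ overArrow (𝒰.f j) → (yon S).map a ≫ l i = (yon S).map b ≫ l j) :
    ∃! g : (yon S).obj T ⟶ F, ∀ k, (yon S).map (overArrow (𝒰.f k)) ≫ g = l k := by
  have hJ : Sieve.generate (Presieve.ofArrows (fun k => Over.mk (𝒰.f k ≫ T.hom))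
      (fun k => overArrow (𝒰.f k))) ∈ AlgSp.J S T := by
    refine (mem_J_iff _).2 ⟨𝒰, fun k => ?_⟩
    rw [overEquiv_arrow]
    exact ⟨_, 𝟙 _, overArrow (𝒰.f k), ⟨k⟩, Category.id_comp _⟩
  have h := (Presieve.isSheafFor_iff_generate _).2
    ((isSheaf_iff_isSheaf_of_type _ _).1 F.property _ hJ)
  obtain ⟨x, hx, hx'⟩ := (Presieve.isSheafFor_arrows_iff _ _).1 h (fun k => sect (l k))
    (fun i j W a b e => by
      simp only [GrothendieckTopology.uliftYonedaEquiv_naturality]
      exact congrArg sect (hl i j W a b e))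
  refine ⟨sect.symm x, fun k => sect.injective ?_, fun g hg => sect.injective ?_⟩
  · rw [← GrothendieckTopology.uliftYonedaEquiv_naturality, Equiv.apply_symm_apply]
    exact hx k
  · rw [Equiv.apply_symm_apply]
    exact hx' _ fun k => by
      change F.obj.map (overArrow (𝒰.f k)).op (sect g) = sect (l k)
      rw [GrothendieckTopology.uliftYonedaEquiv_naturality, ← hg k]

theorem hom_ext_fppf {T : Over S} (𝒰 : Scheme.Cover.{u} Scheme.fppfPrecoverage.{u} T.left)
    {F : Sp S} {g g' : (yon S).obj T ⟶ F}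
    (h : ∀ k, (yon S).map (overArrow (𝒰.f k)) ≫ g = (yon S).map (overArrow (𝒰.f k)) ≫ g') : g = g' :=
  (existsUnique_glue_fppf 𝒰 (fun k => (yon S).map (overArrow (𝒰.f k)) ≫ g') fun i j W a b e => by
    rw [← Functor.map_comp_assoc, ← Functor.map_comp_assoc, e]).unique h fun _ => rfl

/-- A map of sheaves bijective on maps from schemes is an isomorphism. -/
theorem isIso_of_bijective_maps {F G : Sp S} (f : F ⟶ G)
    (h : ∀ (T : Over S) (t : (yon S).obj T ⟶ G), ∃! s : (yon S).obj T ⟶ F, s ≫ f = t) : IsIso f := by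
  have : IsIso f.hom := by
    refine @NatIso.isIso_of_isIso_app _ _ _ _ _ _ f.hom fun T => ?_
    rw [isIso_iff_bijective]
    refine ⟨fun x y hxy => ?_, fun z => ?_⟩
    · refine (sect (T := T.unop) (F := F)).symm.injective ((h _ _).unique rfl ?_).symm.symm
      apply sect.injective
      rw [GrothendieckTopology.uliftYonedaEquiv_comp, GrothendieckTopology.uliftYonedaEquiv_comp,
        Equiv.apply_symm_apply, Equiv.apply_symm_apply]
      exact hxy.symm
    · obtain ⟨s, hs, -⟩ := h _ ((sect (T := T.unop) (F := G)).symm z)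
      exact ⟨sect s, by
        rw [← GrothendieckTopology.uliftYonedaEquiv_comp, hs, Equiv.apply_symm_apply]⟩
  exact ⟨⟨⟨inv f.hom⟩, by ext1; exact IsIso.hom_inv_id f.hom, by ext1; exact IsIso.inv_hom_id f.hom⟩⟩

/-- Cartesian squares are detected after a locally surjective base change. -/
theorem isPullback_right_of_locallySurjective {A B C D E F : Sp S} {ac : A ⟶ C} {ab : A ⟶ B}
    {cd : C ⟶ D} {bd : B ⟶ D} {ce : C ⟶ E} {df : D ⟶ F} {ef : E ⟶ F}
    [Sheaf.IsLocallySurjective bd] (hl : IsPullback ac ab cd bd) (w : ce ≫ ef = cd ≫ df)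
    (hout : IsPullback (ac ≫ ce) ab ef (bd ≫ df)) : IsPullback ce cd ef df := by
  have uniq : ∀ {T : Over S} (x y : (yon S).obj T ⟶ C),
      x ≫ ce = y ≫ ce → x ≫ cd = y ≫ cd → x = y := by
    intro T x y h1 h2
    obtain ⟨𝒰, h𝒰⟩ := exists_cover_lift bd (x ≫ cd)
    refine hom_ext_fppf 𝒰 fun k => ?_
    obtain ⟨l, hlk⟩ := h𝒰 k
    let c := (yon S).map (overArrow (𝒰.f k))
    let a := hl.lift (c ≫ x) l (by rw [Category.assoc]; exact hlk.symm)
    let a' := hl.lift (c ≫ y) l (by rw [Category.assoc, ← h2]; exact hlk.symm)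
    have : a = a' := hout.hom_ext
      (by simp only [← Category.assoc, a, a', hl.lift_fst]; simp only [Category.assoc, h1])
      (by simp [a, a'])
    simpa [a, a'] using this =≫ ac
  let m : C ⟶ pullback ef df := pullback.lift ce cd w
  have hm₁ : m ≫ pullback.fst ef df = ce := pullback.lift_fst _ _ _
  have hm₂ : m ≫ pullback.snd ef df = cd := pullback.lift_snd _ _ _
  have : IsIso m := isIso_of_bijective_maps m fun T t => by
    obtain ⟨𝒰, h𝒰⟩ := exists_cover_lift bd (t ≫ pullback.snd ef df)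
    choose l hlk using h𝒰
    let c := fun k => (yon S).map (overArrow (𝒰.f k))
    let a := fun k => hout.lift (c k ≫ t ≫ pullback.fst ef df) (l k) (by
      rw [← Category.assoc (l k), hlk]
      simp only [c, Category.assoc, pullback.condition])
    have hx₁ : ∀ k, (a k ≫ ac) ≫ ce = c k ≫ t ≫ pullback.fst ef df := fun k => by
      rw [Category.assoc]; exact hout.lift_fst _ _ _
    have hx₂ : ∀ k, (a k ≫ ac) ≫ cd = c k ≫ t ≫ pullback.snd ef df := fun k => by
      rw [Category.assoc, hl.w, ← Category.assoc, hout.lift_snd]; exact hlk k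
    obtain ⟨s, hs, -⟩ := existsUnique_glue_fppf 𝒰 (fun k => a k ≫ ac) fun i j W p q e => by
      apply uniq <;> simp only [Category.assoc] at hx₁ hx₂ ⊢
      · rw [hx₁ i, hx₁ j, ← Functor.map_comp_assoc, ← Functor.map_comp_assoc, e]
      · rw [hx₂ i, hx₂ j, ← Functor.map_comp_assoc, ← Functor.map_comp_assoc, e]
    refine ⟨s, pullback.hom_ext (hom_ext_fppf 𝒰 fun k => ?_) (hom_ext_fppf 𝒰 fun k => ?_),
      fun y hy => uniq _ _ ?_ ?_⟩
    · rw [Category.assoc, hm₁]
      rw [← Category.assoc, hs k]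
      exact hx₁ k
    · rw [Category.assoc, hm₂]
      rw [← Category.assoc, hs k]
      exact hx₂ k
    · refine hom_ext_fppf 𝒰 fun k => ?_
      rw [← Category.assoc _ s, hs k, hx₁ k, ← hy]
      simp [c, hm₁]
    · refine hom_ext_fppf 𝒰 fun k => ?_
      rw [← Category.assoc _ s, hs k, hx₂ k, ← hy]
      simp [c, hm₂]
  exact IsPullback.of_iso_pullback ⟨w⟩ (asIso m) (by simpa using hm₁) (by simpa using hm₂)

/-- Étale surjective morphisms of spaces are locally surjective. -/
theorem isLocallySurjective_of_isEtaleMor {B D : Sp S} (hB : IsAlgSpace B) {p : B ⟶ D}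
    (he : IsEtaleMor p) (hs : IsSurjectiveMor p) : Sheaf.IsLocallySurjective p := by
  obtain ⟨U, a, hae, has⟩ := hB.atlas
  have hpe := he a hae
  have hps : RepWith @Surjective (a ≫ p) := repWith_surjective_of_ofPt hpe.1 fun d => by
    obtain ⟨x, rfl⟩ := hs d
    obtain ⟨u, rfl⟩ := surjective_ofPt has x
    exact ⟨u, (Points.map_ofPt a p u).symm⟩
  have := isLocallySurjective_of_etale hpe hps
  refine isLocallySurjective_of_lifts p fun T g => ?_
  have sq := hpe.1.isPullback g
  have : Etale (hpe.1.snd g).left := hpe.2 g _ _ sq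
  exact ⟨_, _, hpe.1.fst g ≫ a, inferInstanceAs (Flat (hpe.1.snd g).left), hps.2 g _ _ sq,
    inferInstanceAs (LocallyOfFinitePresentation (hpe.1.snd g).left),
    by rw [Category.assoc]; exact sq.w⟩

end Groth.Agent.AlgSpDescent
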