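import Groth.Agent.Lib.AlgSpDescent.Formally
import Groth.Agent.Lib.AlgSpDescent.LocSurj
import Groth.Agent.Lib.AlgSpace.Rep
import Groth.Agent.Lib.AlgSpace.LocP
import Groth.Agent.Lib.AlgSpDecent.Basic
import Groth.Agent.Lib.FEtale4.Affine
import Groth.Agent.Lib.FEtale4.Basic
import Groth.Agent.Lib.Hens.EtaleLift

/-!
# Infinitesimal lifting along square-zero thickenings and étale localization
-/

universe u

set_option backward.isDefEq.respectTransparency.types false

open CategoryTheory CategoryTheory.Limits AlgebraicGeometry Opposite MorphismProperty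

namespace Groth.Agent.AlgSpDescent

open AlgSp Groth.Agent.AlgSpace Groth.Agent.AlgSpDecent

/-! ### Affine étale neighbourhoods of a thickening -/

/-- The map of quotients induced on spectra by a ring map. -/
noncomputable abbrev quotSpec {A E : CommRingCat.{u}} (I : Ideal A) (φ : A ⟶ E) :
    Spec (CommRingCat.of (E ⧸ I.map φ.hom)) ⟶ Spec (CommRingCat.of (A ⧸ I)) :=
  Spec.map (CommRingCat.ofHom (Ideal.quotientMap (I.map φ.hom) φ.hom Ideal.le_comap_map))

theorem quotSpec_comm {A E : CommRingCat.{u}} (I : Ideal A) (φ : A ⟶ E) :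
    quotSpec I φ ≫ Spec.map (CommRingCat.ofHom (Ideal.Quotient.mk I)) =
      Spec.map (CommRingCat.ofHom (Ideal.Quotient.mk (I.map φ.hom))) ≫ Spec.map φ := by
  rw [← Spec.map_comp, ← Spec.map_comp]
  rfl

theorem map_sq_zero {A E : CommRingCat.{u}} {I : Ideal A} (hI : I ^ 2 = ⊥) (φ : A ⟶ E) :
    I.map φ.hom ^ 2 = ⊥ := by
  rw [← Ideal.map_pow, hI, Ideal.map_bot]

/-- The quotient square of a ring map is cartesian on spectra. -/
theorem isPullback_quotSpec {A E : CommRingCat.{u}} (I : Ideal A) (φ : A ⟶ E) :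
    IsPullback (Spec.map (CommRingCat.ofHom (Ideal.Quotient.mk (I.map φ.hom)))) (quotSpec I φ)
      (Spec.map φ) (Spec.map (CommRingCat.ofHom (Ideal.Quotient.mk I))) := by
  have w : φ ≫ CommRingCat.ofHom (Ideal.Quotient.mk (I.map φ.hom)) =
      CommRingCat.ofHom (Ideal.Quotient.mk I) ≫
        CommRingCat.ofHom (Ideal.quotientMap (I.map φ.hom) φ.hom Ideal.le_comap_map) := rfl
  refine isPullback_SpecMap_of_isPushout _ _ _ _ ⟨⟨w⟩, ⟨PushoutCocone.IsColimit.mk w
    (fun s => CommRingCat.ofHom (Ideal.Quotient.lift _ s.inl.hom ?_)) (fun s => ?_) (fun s => ?_)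
    (fun s m h₁ _ => ?_)⟩⟩
  · change ∀ a ∈ I.map φ.hom, s.inl.hom a = 0
    intro a ha
    refine (Ideal.map_le_iff_le_comap.2 fun i hi => ?_ :
      I.map φ.hom ≤ RingHom.ker s.inl.hom) ha
    change s.inl.hom (φ.hom i) = 0
    have := congrArg (fun k => k.hom i) s.condition
    simp only [CommRingCat.hom_comp, RingHom.comp_apply, CommRingCat.hom_ofHom] at this
    rw [this, Ideal.Quotient.eq_zero_iff_mem.2 hi, map_zero]
  · ext a; rfl
  · ext a
    change s.inl.hom (φ.hom a) = s.inr.hom (Ideal.Quotient.mk I a)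
    exact congrArg (fun k => k.hom a) s.condition
  · ext a
    exact congrArg (fun k => k.hom a) h₁

/-- Etale neighbourhoods extend from a square-zero closed subscheme of an affine scheme. -/
theorem exists_etale_nbhd {A : CommRingCat.{u}} (I : Ideal A) {W : Scheme.{u}}
    (e : W ⟶ Spec (CommRingCat.of (A ⧸ I))) [Etale e] (w : W) :
    ∃ (E : CommRingCat.{u}) (φ : A ⟶ E) (κ : Spec (CommRingCat.of (E ⧸ I.map φ.hom)) ⟶ W),
      Etale (Spec.map φ) ∧ w ∈ Set.range κ ∧ κ ≫ e = quotSpec I φ := by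
  obtain ⟨O, hO, hwO, -⟩ := exists_isAffineOpen_mem_and_subset (X := W) (x := w) (U := ⊤) trivial
  obtain ⟨ψ, hψ⟩ := Spec.map_surjective (hO.fromSpec ≫ e)
  have hψe : ψ.hom.Etale :=
    (HasRingHomProperty.Spec_iff (P := @Etale)).1 (by rw [hψ]; infer_instance)
  letI algC : Algebra (A ⧸ I) Γ(W, O) := ψ.hom.toAlgebra
  letI algA : Algebra A Γ(W, O) := (ψ.hom.comp (Ideal.Quotient.mk I)).toAlgebra
  have : IsScalarTower A (A ⧸ I) Γ(W, O) := IsScalarTower.of_algebraMap_eq' rfl
  have : Algebra.Etale (A ⧸ I) Γ(W, O) := RingHom.etale_algebraMap.1 hψe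
  obtain ⟨E, _, _, _, θ, hθ, hker⟩ := Hens.exists_etale_lift A I Γ(W, O)
  let φ : A ⟶ CommRingCat.of E := CommRingCat.ofHom (algebraMap A E)
  let ρ : CommRingCat.of (E ⧸ I.map φ.hom) ≅ Γ(W, O) :=
    ((Ideal.quotEquivOfEq hker.symm).trans
      (RingHom.quotientKerEquivOfSurjective hθ)).toCommRingCatIso
  have hρ : CommRingCat.ofHom (Ideal.quotientMap (I.map φ.hom) φ.hom Ideal.le_comap_map) ≫ ρ.hom =
      ψ := CommRingCat.hom_ext (Ideal.Quotient.ringHom_ext (RingHom.ext fun a => θ.commutes a))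
  refine ⟨CommRingCat.of E, φ, Spec.map ρ.inv ≫ hO.fromSpec,
    (HasRingHomProperty.Spec_iff (P := @Etale)).2 (RingHom.etale_algebraMap.2 ‹_›), ?_, ?_⟩
  · obtain ⟨z, hz⟩ : w ∈ Set.range hO.fromSpec := by rw [hO.range_fromSpec]; exact hwO
    refine ⟨Spec.map ρ.hom z, ?_⟩
    rw [← hz, ← Scheme.Hom.comp_apply, ← Spec.map_comp_assoc, Iso.inv_hom_id, Spec.map_id,
      Category.id_comp]
  · rw [Category.assoc, ← hψ, ← Spec.map_comp]
    exact congrArg Spec.map (by rw [← hρ, Category.assoc, Iso.hom_inv_id, Category.comp_id])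

/-- Maps out of a square-zero thickening of an affine scheme are determined by the closed subscheme,
for a formally unramified target. -/
theorem hom_ext_of_formallyUnramified {X Y : Scheme.{u}} (f : X ⟶ Y) [FormallyUnramified f]
    {A : CommRingCat.{u}} {I : Ideal A} (hI : I ^ 2 = ⊥) {l l' : Spec A ⟶ X}
    (h : Spec.map (CommRingCat.ofHom (Ideal.Quotient.mk I)) ≫ l =
      Spec.map (CommRingCat.ofHom (Ideal.Quotient.mk I)) ≫ l') (hf : l ≫ f = l' ≫ f) : l = l' := by
  have := FEtale4.surjective_spec_quotient I hI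
  refine Scheme.hom_ext_of_forall _ _ fun p => ?_
  obtain ⟨z, hz⟩ := (Spec.map (CommRingCat.ofHom (Ideal.Quotient.mk I))).surjective p
  have hp : l p = l' p := by rw [← hz, ← Scheme.Hom.comp_apply, h, Scheme.Hom.comp_apply]
  obtain ⟨V, hV, hpV, -⟩ := exists_isAffineOpen_mem_and_subset (X := Y) (x := f (l p)) (U := ⊤) trivial
  obtain ⟨U, hU, hpU, hUV⟩ := exists_isAffineOpen_mem_and_subset (X := X) (x := l p) (U := f ⁻¹ᵁ V) hpV
  obtain ⟨_, ⟨g, rfl⟩, hpg, hgsub⟩ := PrimeSpectrum.isTopologicalBasis_basic_opens.exists_subset_of_mem_open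
    (show p ∈ (l ⁻¹ᵁ U ⊓ l' ⁻¹ᵁ U : (Spec A).Opens) from ⟨hpU, show l' p ∈ U from hp ▸ hpU⟩)
    (l ⁻¹ᵁ U ⊓ l' ⁻¹ᵁ U).2
  let φ : A ⟶ CommRingCat.of (Localization.Away g) := CommRingCat.ofHom (algebraMap A _)
  have hrange : Set.range (Spec.map φ) = (PrimeSpectrum.basicOpen g : Set (PrimeSpectrum A)) :=
    PrimeSpectrum.localization_away_comap_range (Localization.Away g) g
  have : IsOpenImmersion (Spec.map φ) :=
    IsOpenImmersion.of_isLocalization g (S := Localization.Away g)
  have hr : ∀ k : Spec A ⟶ X, (∀ q ∈ (PrimeSpectrum.basicOpen g : Set (PrimeSpectrum A)), k q ∈ U) →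
      Set.range (Spec.map φ ≫ k) ⊆ Set.range hU.fromSpec := fun k hk => by
    rintro _ ⟨q, rfl⟩
    rw [hU.range_fromSpec, Scheme.Hom.comp_apply]
    exact hk _ (hrange.le ⟨q, rfl⟩)
  let m := IsOpenImmersion.lift hU.fromSpec _ (hr l fun q hq => (hgsub hq).1)
  let m' := IsOpenImmersion.lift hU.fromSpec _ (hr l' fun q hq => (hgsub hq).2)
  obtain ⟨α, hα⟩ := Spec.map_surjective m
  obtain ⟨α', hα'⟩ := Spec.map_surjective m'
  have hm : Spec.map α ≫ hU.fromSpec = Spec.map φ ≫ l := by rw [hα, IsOpenImmersion.lift_fac]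
  have hm' : Spec.map α' ≫ hU.fromSpec = Spec.map φ ≫ l' := by rw [hα', IsOpenImmersion.lift_fac]
  let β := f.appLE V U hUV
  have hFU : β.hom.FormallyUnramified :=
    HasRingHomProperty.appLE (P := @FormallyUnramified) f ‹_› ⟨V, hV⟩ ⟨U, hU⟩ hUV
  have hb : β ≫ α = β ≫ α' := Spec.map_injective ((cancel_mono hV.fromSpec).1 (by
    simp only [β, Spec.map_comp, Category.assoc,
      IsAffineOpen.SpecMap_appLE_fromSpec f hV hU hUV, reassoc_of% hm, reassoc_of% hm', hf]))
  let J := I.map φ.hom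
  have hq : α ≫ CommRingCat.ofHom (Ideal.Quotient.mk J) =
      α' ≫ CommRingCat.ofHom (Ideal.Quotient.mk J) := Spec.map_injective
    ((cancel_mono hU.fromSpec).1 (by
      rw [Spec.map_comp, Spec.map_comp, Category.assoc, Category.assoc, hm, hm', ← Category.assoc,
        ← Category.assoc, ← quotSpec_comm, Category.assoc, h, Category.assoc]))
  have hαα : α = α' := by
    letI := β.hom.toAlgebra
    letI : Algebra Γ(Y, V) (Localization.Away g) := (β ≫ α).hom.toAlgebra
    have : Algebra.FormallyUnramified Γ(Y, V) Γ(X, U) := hFU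
    let a₁ : Γ(X, U) →ₐ[Γ(Y, V)] Localization.Away g :=
      { toRingHom := α.hom, commutes' := fun _ => rfl }
    let a₂ : Γ(X, U) →ₐ[Γ(Y, V)] Localization.Away g :=
      { toRingHom := α'.hom, commutes' := fun r => (congrArg (fun k => k.hom r) hb).symm }
    have : a₁ = a₂ := Algebra.FormallyUnramified.comp_injective J (map_sq_zero hI φ)
      (AlgHom.ext fun x => congrArg (fun k => k.hom x) hq)
    exact CommRingCat.hom_ext (congrArg AlgHom.toRingHom this)
  refine ⟨(Spec.map φ).opensRange, hrange.ge hpg, ?_⟩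
  rw [← cancel_epi (Spec.map φ).isoOpensRange.hom, Scheme.Hom.isoOpensRange_hom_ι_assoc,
    Scheme.Hom.isoOpensRange_hom_ι_assoc, ← hm, ← hm', hαα]

/-- A morphism of schemes with at most one lift along square-zero thickenings of affine schemes is
formally unramified. -/
theorem formallyUnramified_of_uniq {X Y : Scheme.{u}} (f : X ⟶ Y)
    (H : ∀ (A : CommRingCat.{u}) (I : Ideal A), I ^ 2 = ⊥ → ∀ l l' : Spec A ⟶ X,
      Spec.map (CommRingCat.ofHom (Ideal.Quotient.mk I)) ≫ l =
        Spec.map (CommRingCat.ofHom (Ideal.Quotient.mk I)) ≫ l' → l ≫ f = l' ≫ f → l = l') :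
    FormallyUnramified f := by
  rw [HasRingHomProperty.iff_appLE (P := @FormallyUnramified)]
  rintro ⟨V, hV⟩ ⟨U, hU⟩ hUV
  algebraize [(f.appLE V U hUV).hom]
  refine Algebra.FormallyUnramified.iff_comp_injective.2 fun A _ _ I hI => ?_
  intro g₁ g₂ h
  have key := H (CommRingCat.of A) I hI (Spec.map (CommRingCat.ofHom g₁.toRingHom) ≫ hU.fromSpec)
    (Spec.map (CommRingCat.ofHom g₂.toRingHom) ≫ hU.fromSpec) ?_ ?_
  · have := Spec.map_injective ((cancel_mono hU.fromSpec).1 key)
    exact AlgHom.ext fun r => congrArg (fun k => k.hom r) this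
  · rw [← Spec.map_comp_assoc, ← Spec.map_comp_assoc]
    congr 2
    exact CommRingCat.hom_ext (congrArg AlgHom.toRingHom h)
  · rw [Category.assoc, Category.assoc, ← IsAffineOpen.SpecMap_appLE_fromSpec f hV hU hUV,
      ← Spec.map_comp_assoc, ← Spec.map_comp_assoc]
    congr 2
    exact CommRingCat.hom_ext (RingHom.ext fun r => (g₁.commutes r).trans (g₂.commutes r).symm)

variable {S : Scheme.{u}}

/-! ### Sheaf-level étale neighbourhoods -/

/-- An étale family with images covering a scheme, as an fppf covering. -/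
theorem exists_cover_of_etale {T : Over S} {ι : Type u} (W : ι → Over S) (g : ∀ i, W i ⟶ T)
    (hg : ∀ i, Etale (g i).left) (hs : ∀ p, ∃ i, p ∈ Set.range (g i).left) :
    ∃ 𝒰 : Scheme.Cover.{u} Scheme.fppfPrecoverage.{u} T.left,
      ∀ k : 𝒰.I₀, Etale (𝒰.f k) ∧
        ∃ (i : ι) (e : Over.mk (𝒰.f k ≫ T.hom) ⟶ W i), e ≫ g i = overArrow (𝒰.f k) := by
  refine ⟨⟨⟨ι, fun i => (W i).left, fun i => (g i).left⟩,
    (Scheme.ofArrows_mem_precoverage_iff _).2 ⟨hs, fun i => ⟨inferInstance, inferInstance⟩⟩⟩,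
    fun i => ⟨hg i, i, Over.homMk (𝟙 (W i).left) (by simp), ?_⟩⟩
  exact Over.OverMorphism.ext (Category.id_comp _)

/-- Maps out of a scheme agree if they do on étale neighbourhoods. -/
theorem eq_of_etale_nbhds {T : Over S} {F : Sp S} {l l' : (yon S).obj T ⟶ F}
    (h : ∀ p : T.left, ∃ (W : Over S) (g : W ⟶ T), Etale g.left ∧ p ∈ Set.range g.left ∧
      (yon S).map g ≫ l = (yon S).map g ≫ l') : l = l' := by
  choose W g hg hp he using h
  obtain ⟨𝒰, h𝒰⟩ := exists_cover_of_etale W g hg fun p => ⟨p, hp p⟩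
  refine hom_ext_fppf 𝒰 fun k => ?_
  obtain ⟨-, i, e, hei⟩ := h𝒰 k
  rw [← hei, Functor.map_comp_assoc, he, Functor.map_comp_assoc]

/-- Compatible maps on an étale covering glue. -/
theorem exists_glue_etale {T : Over S} {F : Sp S} {ι : Type u} (W : ι → Over S) (g : ∀ i, W i ⟶ T)
    (hg : ∀ i, Etale (g i).left) (hs : ∀ p, ∃ i, p ∈ Set.range (g i).left)
    (l : ∀ i, (yon S).obj (W i) ⟶ F)
    (hl : ∀ i j (V : Over S) (a : V ⟶ W i) (b : V ⟶ W j), a ≫ g i = b ≫ g j →
      (yon S).map a ≫ l i = (yon S).map b ≫ l j) :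
    ∃ m : (yon S).obj T ⟶ F, ∀ i, (yon S).map (g i) ≫ m = l i := by
  obtain ⟨𝒰, h𝒰⟩ := exists_cover_of_etale W g hg hs
  choose het i e he using h𝒰
  obtain ⟨m, hm, -⟩ := existsUnique_glue_fppf 𝒰 (fun k => (yon S).map (e k) ≫ l (i k))
    fun a b V p q hpq => by
      rw [← Functor.map_comp_assoc, ← Functor.map_comp_assoc]
      exact hl _ _ _ _ _ (by rw [Category.assoc, Category.assoc, he, he, hpq])
  refine ⟨m, fun j => eq_of_etale_nbhds fun p => ?_⟩
  obtain ⟨k, z, hz⟩ : ∃ k, (g j).left p ∈ Set.range (𝒰.f k) := ⟨_, 𝒰.covers ((g j).left p)⟩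
  have hk : Etale (overArrow (𝒰.f k)).left := het k
  let P := Limits.pullback (g j) (overArrow (𝒰.f k))
  have sq := IsPullback.of_hasPullback (g j) (overArrow (𝒰.f k))
  obtain ⟨v, hv, -⟩ := Scheme.exists_preimage_of_isPullback (sq.map (Over.forget S)) p z hz.symm
  refine ⟨P, pullback.fst _ _, MorphismProperty.of_isPullback (P := @Etale)
    (sq.flip.map (Over.forget S)) hk, ⟨v, hv⟩, ?_⟩
  · rw [← Functor.map_comp_assoc, pullback.condition, Functor.map_comp_assoc, hm k,
      ← Functor.map_comp_assoc]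
    exact (hl j (i k) _ _ _ (by rw [Category.assoc, he]; exact pullback.condition)).symm

/-! ### Lifting problems -/

variable {F G H : Sp S} {f : F ⟶ G}

/-- A map on a scheme over `T'` restricting to the top arrow of an infinitesimal square. -/
def RestrTo (sq : InfSq f) {W : Over S} (k : W ⟶ sq.ptT') (l : (yon S).obj W ⟶ F) : Prop :=
  ∀ (V : Over S) (p : V ⟶ sq.ptT) (q : V ⟶ W), p ≫ sq.j = q ≫ k →
    (yon S).map q ≫ l = (yon S).map p ≫ sq.top

theorem restrTo_comp {sq : InfSq f} {W W' : Over S} {k : W ⟶ sq.ptT'} {l : (yon S).obj W ⟶ F}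
    (h : RestrTo sq k l) (a : W' ⟶ W) : RestrTo sq (a ≫ k) ((yon S).map a ≫ l) := fun V p q e => by
  rw [← Functor.map_comp_assoc]
  exact h V p (q ≫ a) (by rw [e, Category.assoc])

/-- The thickened point over an affine scheme over `T'`. -/
noncomputable abbrev subPt (sq : InfSq f) {E : CommRingCat.{u}} (φ : CommRingCat.of sq.A ⟶ E) : Over S :=
  Over.mk (Spec.map φ ≫ sq.str)

/-- The map to `T'`. -/
noncomputable abbrev subMap (sq : InfSq f) {E : CommRingCat.{u}} (φ : CommRingCat.of sq.A ⟶ E) :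
    subPt sq φ ⟶ sq.ptT' :=
  Over.homMk (Spec.map φ) rfl

/-- The closed subscheme of the point over `T'`. -/
noncomputable abbrev subPt₀ (sq : InfSq f) {E : CommRingCat.{u}} (φ : CommRingCat.of sq.A ⟶ E) : Over S :=
  Over.mk (Spec.map (CommRingCat.ofHom (Ideal.Quotient.mk (sq.I.map φ.hom))) ≫ Spec.map φ ≫ sq.str)

/-- The closed immersion. -/
noncomputable abbrev subj (sq : InfSq f) {E : CommRingCat.{u}} (φ : CommRingCat.of sq.A ⟶ E) :
    subPt₀ sq φ ⟶ subPt sq φ :=
  Over.homMk (Spec.map (CommRingCat.ofHom (Ideal.Quotient.mk (sq.I.map φ.hom)))) rfl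

theorem subTop_w {A E : CommRingCat.{u}} (I : Ideal A) (φ : A ⟶ E) (str : Spec A ⟶ S) :
    quotSpec I φ ≫ Spec.map (CommRingCat.ofHom (Ideal.Quotient.mk I)) ≫ str =
      Spec.map (CommRingCat.ofHom (Ideal.Quotient.mk (I.map φ.hom))) ≫ Spec.map φ ≫ str := by
  rw [← Category.assoc, quotSpec_comm, Category.assoc]

/-- The map to `T`. -/
noncomputable abbrev subTop (sq : InfSq f) {E : CommRingCat.{u}} (φ : CommRingCat.of sq.A ⟶ E) :
    subPt₀ sq φ ⟶ sq.ptT :=
  Over.homMk (quotSpec (A := CommRingCat.of sq.A) sq.I φ) (subTop_w (A := CommRingCat.of sq.A) sq.I φ sq.str)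

theorem subTop_j (sq : InfSq f) {E : CommRingCat.{u}} (φ : CommRingCat.of sq.A ⟶ E) :
    subTop sq φ ≫ sq.j = subj sq φ ≫ subMap sq φ :=
  Over.OverMorphism.ext (quotSpec_comm (A := CommRingCat.of sq.A) sq.I φ)

theorem isPullback_sub (sq : InfSq f) {E : CommRingCat.{u}} (φ : CommRingCat.of sq.A ⟶ E) :
    IsPullback (subj sq φ) (subTop sq φ) (subMap sq φ) sq.j :=
  IsPullback.of_map (Over.forget S) (subTop_j sq φ).symm (isPullback_quotSpec (A := CommRingCat.of sq.A) sq.I φ)

/-- A square over an affine scheme over `T'`. -/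
noncomputable abbrev subSq (sq : InfSq f) {F' G' : Sp S} (f' : F' ⟶ G') {E : CommRingCat.{u}}
    (φ : CommRingCat.of sq.A ⟶ E) (t : (yon S).obj (subPt₀ sq φ) ⟶ F')
    (b : (yon S).obj (subPt sq φ) ⟶ G') (w : t ≫ f' = (yon S).map (subj sq φ) ≫ b) : InfSq f' :=
  ⟨E, sq.I.map φ.hom, map_sq_zero (A := CommRingCat.of sq.A) sq.sq_zero φ, Spec.map φ ≫ sq.str, t, b, w⟩

/-- Over every point of a scheme over `T'` there is an affine open. -/
theorem exists_affine_sub (sq : InfSq f) {W : Over S} (k : W ⟶ sq.ptT') (w : W.left) :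
    ∃ (E : CommRingCat.{u}) (φ : CommRingCat.of sq.A ⟶ E) (ε : subPt sq φ ⟶ W),
      IsOpenImmersion ε.left ∧ w ∈ Set.range ε.left ∧ ε ≫ k = subMap sq φ := by
  obtain ⟨O, hO, hwO, -⟩ := exists_isAffineOpen_mem_and_subset (X := W.left) (x := w) (U := ⊤) trivial
  obtain ⟨φ, hφ⟩ : ∃ φ : CommRingCat.of sq.A ⟶ Γ(W.left, O), Spec.map φ = hO.fromSpec ≫ k.left :=
    Spec.map_surjective _
  let ε : subPt sq φ ⟶ W := Over.homMk hO.fromSpec (by
    change hO.fromSpec ≫ W.hom = Spec.map φ ≫ sq.str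
    rw [hφ, Category.assoc, ← Over.w k]
    rfl)
  exact ⟨_, φ, ε, inferInstanceAs (IsOpenImmersion hO.fromSpec),
    (show w ∈ Set.range hO.fromSpec by rw [hO.range_fromSpec]; exact hwO),
    Over.OverMorphism.ext hφ.symm⟩

/-- Uniqueness of lifts on schemes over `T'`. -/
theorem eq_of_formallyUnramified (hf : IsFormallyUnramifiedMor f) (sq : InfSq f) {W : Over S}
    (k : W ⟶ sq.ptT') {l l' : (yon S).obj W ⟶ F} (h : RestrTo sq k l) (h' : RestrTo sq k l')
    (e : l ≫ f = (yon S).map k ≫ sq.bot) (e' : l' ≫ f = (yon S).map k ≫ sq.bot) : l = l' := by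
  refine eq_of_etale_nbhds fun w => ?_
  obtain ⟨E, φ, ε, hε, hw, hεk⟩ := exists_affine_sub sq k w
  refine ⟨_, ε, inferInstance, hw, ?_⟩
  have w₀ : ((yon S).map (subTop sq φ) ≫ sq.top) ≫ f =
      (yon S).map (subj sq φ) ≫ (yon S).map (subMap sq φ) ≫ sq.bot := by
    rw [Category.assoc, sq.comm, ← Functor.map_comp_assoc, ← Functor.map_comp_assoc, subTop_j]
  have key : ∀ m : (yon S).obj W ⟶ F, RestrTo sq k m →
      (yon S).map (subj sq φ) ≫ (yon S).map ε ≫ m = (yon S).map (subTop sq φ) ≫ sq.top := fun m hm => by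
    rw [← Functor.map_comp_assoc]
    exact hm _ _ _ (by rw [subTop_j, Category.assoc, hεk])
  exact hf (subSq sq f φ _ _ w₀) ((yon S).map ε ≫ l) ((yon S).map ε ≫ l') (key l h)
    (by rw [Category.assoc, e, ← Functor.map_comp_assoc, hεk]) (key l' h')
    (by rw [Category.assoc, e', ← Functor.map_comp_assoc, hεk])

/-! ### Representable morphisms -/

theorem formallyEtale_of_repWith {a : F ⟶ G} {P : MorphismProperty Scheme.{u}}
    (hP : ∀ ⦃X Y : Scheme.{u}⦄ (g : X ⟶ Y), P g → MoreMor.IsFormallyEtaleHom g) (ha : RepWith P a) :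
    IsFormallyEtaleMor a := by
  intro sq
  have sqP := ha.1.isPullback sq.bot
  have hsnd : P (ha.1.snd sq.bot).left := ha.2 sq.bot _ _ sqP
  obtain ⟨s₀, hs₀⟩ := (yon S).map_surjective (sqP.lift sq.top ((yon S).map sq.j) sq.comm)
  have hs₀s : s₀ ≫ ha.1.snd sq.bot = sq.j := (yon S).map_injective (by
    rw [Functor.map_comp, hs₀, sqP.lift_snd])
  obtain ⟨s, ⟨hs1, hs2⟩, hs⟩ := hP _ hsnd sq.A sq.I sq.sq_zero s₀.left (𝟙 _) (by
    rw [Category.comp_id, ← Over.comp_left, hs₀s]; rfl)
  let sO : sq.ptT' ⟶ _ := Over.homMk s (by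
    rw [← Over.w (ha.1.snd sq.bot), reassoc_of% hs2])
  have hsO : sO ≫ ha.1.snd sq.bot = 𝟙 _ := Over.OverMorphism.ext hs2
  refine ⟨(yon S).map sO ≫ ha.1.fst sq.bot, ⟨?_, ?_⟩, fun l hl => ?_⟩
  · rw [← Functor.map_comp_assoc, show sq.j ≫ sO = s₀ from Over.OverMorphism.ext hs1, hs₀,
      sqP.lift_fst]
  · rw [Category.assoc, sqP.w, ← Functor.map_comp_assoc, hsO, (yon S).map_id]
    exact Category.id_comp _
  · obtain ⟨r, hr⟩ := (yon S).map_surjective (sqP.lift l (𝟙 _) (by rw [hl.2, Category.id_comp]))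
    have hr2 : r ≫ ha.1.snd sq.bot = 𝟙 _ := (yon S).map_injective (by
      rw [Functor.map_comp, hr, sqP.lift_snd, (yon S).map_id])
    have hr0 : sq.j ≫ r = s₀ := (yon S).map_injective (by
      rw [Functor.map_comp, hr, hs₀]
      refine sqP.hom_ext ?_ ?_
      · rw [Category.assoc, sqP.lift_fst, sqP.lift_fst]; exact hl.1
      · rw [Category.assoc, sqP.lift_snd, sqP.lift_snd, Category.comp_id])
    have : r = sO := Over.OverMorphism.ext (hs r.left
      ⟨congrArg CommaMorphism.left hr0, congrArg CommaMorphism.left hr2⟩)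
    rw [← this, hr, sqP.lift_fst]

theorem formallyEtale_of_etale {a : F ⟶ G} (ha : RepWith @Etale a) : IsFormallyEtaleMor a :=
  formallyEtale_of_repWith (fun _ _ g (_ : Etale g) => FEtale4.isFormallyEtaleHom g) ha

theorem formallyUnramified_of_repWith {a : F ⟶ G} (ha : RepWith @FormallyUnramified a) :
    IsFormallyUnramifiedMor a := by
  intro sq l l' h₁ h₂ h₁' h₂'
  have sqP := ha.1.isPullback sq.bot
  have : FormallyUnramified (ha.1.snd sq.bot).left := ha.2 sq.bot _ _ sqP
  obtain ⟨r, hr⟩ := (yon S).map_surjective (sqP.lift l (𝟙 _) (by rw [h₂, Category.id_comp]))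
  obtain ⟨r', hr'⟩ := (yon S).map_surjective (sqP.lift l' (𝟙 _) (by rw [h₂', Category.id_comp]))
  have e₀ : sq.j ≫ r = sq.j ≫ r' := (yon S).map_injective (by
    rw [Functor.map_comp, Functor.map_comp, hr, hr']
    refine sqP.hom_ext ?_ ?_
    · rw [Category.assoc, Category.assoc, sqP.lift_fst, sqP.lift_fst]; exact h₁.trans h₁'.symm
    · rw [Category.assoc, Category.assoc, sqP.lift_snd, sqP.lift_snd])
  have e₁ : r ≫ ha.1.snd sq.bot = r' ≫ ha.1.snd sq.bot := (yon S).map_injective (by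
    rw [Functor.map_comp, Functor.map_comp, hr, hr', sqP.lift_snd, sqP.lift_snd])
  have : r = r' := Over.OverMorphism.ext (hom_ext_of_formallyUnramified (ha.1.snd sq.bot).left
    (A := CommRingCat.of sq.A) sq.sq_zero (congrArg CommaMorphism.left e₀) (congrArg CommaMorphism.left e₁))
  rw [← sqP.lift_fst l (𝟙 _) (by rw [h₂, Category.id_comp]), ← hr, this, hr', sqP.lift_fst]

/-! ### Descent along étale surjections of the source -/

section Descend

variable {a : F ⟶ G} {b : G ⟶ H} (ha : RepWith @Etale a) (hs : RepWith @Surjective a)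
include ha hs

theorem formallyUnramified_descend (hab : IsFormallyUnramifiedMor (a ≫ b)) :
    IsFormallyUnramifiedMor b := by
  intro sq l l' h₁ h₂ h₁' h₂'
  refine eq_of_etale_nbhds fun p => ?_
  have sqP := ha.1.isPullback l
  have hse : Etale (ha.1.snd l).left := ha.2 l _ _ sqP
  have hss : Surjective (ha.1.snd l).left := hs.2 l _ _ sqP
  obtain ⟨w, hw⟩ := hss.surj p
  obtain ⟨E, φ, ε, hε, ⟨z, hz⟩, hεk⟩ := exists_affine_sub sq (ha.1.snd l) w
  refine ⟨_, subMap sq φ, ?_, ⟨z, ?_⟩, ?_⟩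
  · rw [← hεk, Over.comp_left]; infer_instance
  · rw [← hw, ← hz, ← Scheme.Hom.comp_apply, ← Over.comp_left, hεk]
  let m := (yon S).map ε ≫ ha.1.fst l
  have hm : m ≫ a = (yon S).map (subMap sq φ) ≫ l := by
    simp only [m, Category.assoc, sqP.w, ← Functor.map_comp_assoc, hεk]
  let t := (yon S).map (subj sq φ) ≫ m
  have ht : t ≫ a = (yon S).map (subj sq φ) ≫ (yon S).map (subMap sq φ) ≫ l' := by
    simp only [t, Category.assoc, hm]
    rw [← Functor.map_comp_assoc, ← Functor.map_comp_assoc, ← subTop_j, Functor.map_comp_assoc,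
      Functor.map_comp_assoc, h₁, h₁']
  obtain ⟨m', ⟨hm'1, hm'2⟩, -⟩ :=
    formallyEtale_of_etale ha (subSq sq a φ t ((yon S).map (subMap sq φ) ≫ l') ht)
  have hbot : ∀ n : (yon S).obj sq.ptT' ⟶ G, n ≫ b = sq.bot →
      ((yon S).map (subMap sq φ) ≫ n) ≫ b = (yon S).map (subMap sq φ) ≫ sq.bot := fun n hn => by
    rw [Category.assoc, hn]
  have w₀ : t ≫ a ≫ b = (yon S).map (subj sq φ) ≫ (yon S).map (subMap sq φ) ≫ sq.bot := by
    rw [← Category.assoc, ht]
    simp only [Category.assoc, h₂']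
  have : m = m' := hab (subSq sq (a ≫ b) φ t _ w₀) m m' rfl
    ((Category.assoc _ _ _).symm.trans ((congrArg (· ≫ b) hm).trans (hbot l h₂))) hm'1
    ((Category.assoc _ _ _).symm.trans ((congrArg (· ≫ b) hm'2).trans (hbot l' h₂')))
  rw [← hm, this]
  exact hm'2

/-- Lifts exist étale locally when the composite with an étale surjection is formally smooth. -/
theorem exists_local_lift (hab : IsFormallySmoothMor (a ≫ b)) (sq : InfSq b) (p : sq.ptT'.left) :
    ∃ (E : CommRingCat.{u}) (φ : CommRingCat.of sq.A ⟶ E) (l : (yon S).obj (subPt sq φ) ⟶ G),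
      Etale (Spec.map φ) ∧ p ∈ Set.range (Spec.map φ) ∧ RestrTo sq (subMap sq φ) l ∧
      l ≫ b = (yon S).map (subMap sq φ) ≫ sq.bot := by
  have sqP := ha.1.isPullback sq.top
  have hse : Etale (ha.1.snd sq.top).left := ha.2 sq.top _ _ sqP
  have hss : Surjective (ha.1.snd sq.top).left := hs.2 sq.top _ _ sqP
  have := FEtale4.surjective_spec_quotient (A := sq.A) sq.I sq.sq_zero
  obtain ⟨z, hz⟩ := (Spec.map (CommRingCat.ofHom (Ideal.Quotient.mk sq.I))).surjective p
  obtain ⟨w, hw⟩ := hss.surj z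
  obtain ⟨E, φ, κ, hφ, ⟨v, hv⟩, hκ⟩ :=
    exists_etale_nbhd (A := CommRingCat.of sq.A) sq.I (ha.1.snd sq.top).left w
  let κO : subPt₀ sq φ ⟶ ha.1.pullback sq.top := Over.homMk κ (by
    rw [← Over.w (ha.1.snd sq.top), reassoc_of% hκ]
    exact Over.w (subTop sq φ))
  have hκO : κO ≫ ha.1.snd sq.top = subTop sq φ := Over.OverMorphism.ext hκ
  let t := (yon S).map κO ≫ ha.1.fst sq.top
  have hta : t ≫ a = (yon S).map (subTop sq φ) ≫ sq.top := by
    simp only [t, Category.assoc, sqP.w, ← Functor.map_comp_assoc, hκO]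
  have w₀ : t ≫ a ≫ b = (yon S).map (subj sq φ) ≫ (yon S).map (subMap sq φ) ≫ sq.bot := by
    rw [← Category.assoc, hta, Category.assoc, sq.comm, ← Functor.map_comp_assoc,
      ← Functor.map_comp_assoc, subTop_j]
  obtain ⟨n, hn1, hn2⟩ := hab (subSq sq (a ≫ b) φ t _ w₀)
  refine ⟨E, φ, n ≫ a, hφ, ⟨Spec.map (CommRingCat.ofHom (Ideal.Quotient.mk _)) v, ?_⟩,
    fun V p' q e => ?_, (Category.assoc _ _ _).trans hn2⟩
  · rw [← Scheme.Hom.comp_apply, ← quotSpec_comm, Scheme.Hom.comp_apply, ← hκ, Scheme.Hom.comp_apply,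
      hv, hw, hz]
  · let r := (isPullback_sub sq φ).lift q p' e.symm
    have hr1 : r ≫ subj sq φ = q := (isPullback_sub sq φ).lift_fst _ _ _
    have hr2 : r ≫ subTop sq φ = p' := (isPullback_sub sq φ).lift_snd _ _ _
    rw [← hr1, ← hr2, Functor.map_comp_assoc, Functor.map_comp_assoc, ← hta]
    congr 1
    exact (Category.assoc _ _ _).symm.trans (congrArg (· ≫ a) hn1)

theorem formallyEtale_descend (hab : IsFormallyEtaleMor (a ≫ b)) : IsFormallyEtaleMor b := by
  rw [formallyEtale_iff] at hab ⊢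
  have hu := formallyUnramified_descend ha hs hab.2
  refine ⟨fun sq => ?_, hu⟩
  choose E φ l hφ hp hr hl using exists_local_lift ha hs hab.1 sq
  obtain ⟨m, hm⟩ := exists_glue_etale (fun p => subPt sq (φ p)) (fun p => subMap sq (φ p)) hφ
    (fun p => ⟨p, hp p⟩) l fun i j V x y e => by
      refine eq_of_formallyUnramified hu sq (x ≫ subMap sq (φ i)) (restrTo_comp (hr i) x)
        (by rw [e]; exact restrTo_comp (hr j) y) ?_ ?_
      · rw [Category.assoc, hl, Functor.map_comp_assoc]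
      · rw [Category.assoc, hl, e, Functor.map_comp_assoc]
  refine ⟨m, eq_of_etale_nbhds fun z => ?_, eq_of_etale_nbhds fun p => ?_⟩
  · let p := sq.j.left z
    obtain ⟨v, hv⟩ := hp p
    have sqp := IsPullback.of_hasPullback sq.j (subMap sq (φ p))
    obtain ⟨x, hx, -⟩ := Scheme.exists_preimage_of_isPullback (sqp.map (Over.forget S)) z v hv.symm
    refine ⟨Limits.pullback sq.j (subMap sq (φ p)), pullback.fst _ _,
      MorphismProperty.of_isPullback (P := @Etale) (sqp.flip.map (Over.forget S)) (hφ p),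
      ⟨x, hx⟩, ?_⟩
    · rw [← Functor.map_comp_assoc, pullback.condition, Functor.map_comp_assoc, hm p]
      exact hr p _ _ _ pullback.condition
  · exact ⟨_, subMap sq (φ p), hφ p, hp p, by rw [← Category.assoc, hm, hl]⟩

end Descend

/-! ### Charts -/

theorem formallyUnramified_yon_map {U V : Over S} (h : U ⟶ V) :
    IsFormallyUnramifiedMor ((yon S).map h) ↔ FormallyUnramified h.left := by
  refine ⟨fun H => formallyUnramified_of_uniq _ fun A I hI l l' e ef => ?_,
    fun hh => formallyUnramified_of_repWith ((repWith_yon_map_iff _ _).2 hh)⟩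
  let str := l ≫ U.hom
  let L : Over.mk str ⟶ U := Over.homMk l rfl
  let L' : Over.mk str ⟶ U := Over.homMk l' (by
    change l' ≫ U.hom = l ≫ U.hom
    rw [← Over.w h, reassoc_of% ef])
  let j : Over.mk (Spec.map (CommRingCat.ofHom (Ideal.Quotient.mk I)) ≫ str) ⟶ Over.mk str :=
    Over.homMk (Spec.map (CommRingCat.ofHom (Ideal.Quotient.mk I))) rfl
  have hj : j ≫ L = j ≫ L' := Over.OverMorphism.ext e
  have hLh : L ≫ h = L' ≫ h := Over.OverMorphism.ext ef
  have key := H ⟨A, I, hI, str, (yon S).map (j ≫ L), (yon S).map (L ≫ h), by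
    rw [← Functor.map_comp, ← Functor.map_comp]; exact congrArg _ (Category.assoc _ _ _)⟩
    ((yon S).map L) ((yon S).map L') ((Functor.map_comp _ _ _).symm) ((Functor.map_comp _ _ _).symm)
    ((Functor.map_comp _ _ _).symm.trans (congrArg _ hj.symm))
    ((Functor.map_comp _ _ _).symm.trans (congrArg _ hLh.symm))
  exact congrArg CommaMorphism.left ((yon S).map_injective key)

theorem formallyEtale_yon_map {U V : Over S} (h : U ⟶ V) :
    IsFormallyEtaleMor ((yon S).map h) ↔ MoreMor.IsFormallyEtaleHom h.left := by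
  refine ⟨fun H => ?_, fun hh sq => ?_⟩
  · intro A _ I hI a b w
    let str := b ≫ V.hom
    let A₀ : Over.mk (Spec.map (CommRingCat.ofHom (Ideal.Quotient.mk I)) ≫ str) ⟶ U := Over.homMk a (by
      change a ≫ U.hom = _ ≫ b ≫ V.hom
      rw [← Over.w h, ← Category.assoc, ← w, Category.assoc])
    let B : Over.mk str ⟶ V := Over.homMk b rfl
    obtain ⟨l, ⟨hl1, hl2⟩, hl⟩ := H ⟨A, I, hI, str, (yon S).map A₀, (yon S).map B, by
      rw [← Functor.map_comp, ← Functor.map_comp]
      exact congrArg _ (Over.OverMorphism.ext w.symm)⟩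
    obtain ⟨L, rfl⟩ := (yon S).map_surjective l
    refine ⟨L.left, ⟨?_, ?_⟩, fun m hm => ?_⟩
    · exact congrArg CommaMorphism.left ((yon S).map_injective ((Functor.map_comp _ _ _).trans hl1))
    · exact congrArg CommaMorphism.left ((yon S).map_injective ((Functor.map_comp _ _ _).trans hl2))
    · let M : Over.mk str ⟶ U := Over.homMk m (by
        change m ≫ U.hom = b ≫ V.hom
        rw [← Over.w h, ← Category.assoc, hm.2])
      exact congrArg CommaMorphism.left ((yon S).map_injective (hl ((yon S).map M)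
        ⟨(Functor.map_comp _ _ _).symm.trans (congrArg _ (Over.OverMorphism.ext hm.1)),
          (Functor.map_comp _ _ _).symm.trans (congrArg _ (Over.OverMorphism.ext hm.2))⟩))
  · obtain ⟨a, ha⟩ := (yon S).map_surjective sq.top
    obtain ⟨b, hb⟩ := (yon S).map_surjective sq.bot
    have w : a ≫ h = sq.j ≫ b := (yon S).map_injective (by
      rw [Functor.map_comp, Functor.map_comp, ha, hb]; exact sq.comm)
    obtain ⟨l, ⟨hl1, hl2⟩, hl⟩ := hh sq.A sq.I sq.sq_zero a.left b.left
      (congrArg CommaMorphism.left w).symm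
    let L : sq.ptT' ⟶ U := Over.homMk l (by
      rw [← Over.w h, reassoc_of% hl2]; exact Over.w b)
    refine ⟨(yon S).map L, ⟨?_, ?_⟩, fun m hm => ?_⟩
    · rw [← ha, ← Functor.map_comp]; exact congrArg _ (Over.OverMorphism.ext hl1)
    · rw [← hb, ← Functor.map_comp]; exact congrArg _ (Over.OverMorphism.ext hl2)
    · obtain ⟨M, rfl⟩ := (yon S).map_surjective m
      refine congrArg _ (Over.OverMorphism.ext (hl M.left ⟨?_, ?_⟩))
      · exact congrArg CommaMorphism.left ((yon S).map_injective (((yon S).map_comp _ _).trans (hm.1.trans ha.symm)))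
      · exact congrArg CommaMorphism.left ((yon S).map_injective (((yon S).map_comp _ _).trans (hm.2.trans hb.symm)))

section Chart

variable {X Y : Sp S} {g : X ⟶ Y} {U V : Over S} {p : (yon S).obj U ⟶ X} {q : (yon S).obj V ⟶ Y}
  {h : U ⟶ V} (hp : RepWith @Etale p) (hq : RepWith @Etale q) (w : p ≫ g = (yon S).map h ≫ q)
include hp hq w

theorem formallyUnramified_of_chart (hps : RepWith @Surjective p) (hh : FormallyUnramified h.left) :
    IsFormallyUnramifiedMor g :=
  formallyUnramified_descend hp hps (w ▸ formallyUnramified_comp ((formallyUnramified_yon_map h).2 hh)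
    (formallyEtale_iff.1 (formallyEtale_of_etale hq)).2)

theorem formallyEtale_of_chart (hps : RepWith @Surjective p)
    (hh : MoreMor.IsFormallyEtaleHom h.left) : IsFormallyEtaleMor g :=
  formallyEtale_descend hp hps (w ▸ formallyEtale_comp ((formallyEtale_yon_map h).2 hh)
    (formallyEtale_of_etale hq))

theorem formallyUnramified_chart (hg : IsFormallyUnramifiedMor g) : FormallyUnramified h.left :=
  (formallyUnramified_yon_map h).1 (formallyUnramified_of_comp (b := q)
    (w ▸ formallyUnramified_comp (formallyEtale_iff.1 (formallyEtale_of_etale hp)).2 hg))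

theorem formallyEtale_chart (hg : IsFormallyEtaleMor g) : MoreMor.IsFormallyEtaleHom h.left :=
  (formallyEtale_yon_map h).1 (formallyEtale_of_comp (b := q)
    (formallyEtale_iff.1 (formallyEtale_of_etale hq)).2
    (w ▸ formallyEtale_comp (formallyEtale_of_etale hp) hg))

end Chart

theorem isFormallyUnramifiedMor_iff_locP {X Y : Sp S} (hX : IsAlgSpace X) (hY : IsAlgSpace Y)
    (g : X ⟶ Y) : IsFormallyUnramifiedMor g ↔ LocP @FormallyUnramified g := by
  refine ⟨fun hg U V p q h hp hq w => formallyUnramified_chart hp hq w hg, fun hg => ?_⟩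
  obtain ⟨U, V, p, q, h, hp, hps, hq, hqs, w⟩ := exists_chart_square hX hY g
  exact formallyUnramified_of_chart hp hq w hps (hg p q h hp hq w)

theorem isFormallyEtaleMor_iff_locP {X Y : Sp S} (hX : IsAlgSpace X) (hY : IsAlgSpace Y)
    (g : X ⟶ Y) : IsFormallyEtaleMor g ↔ LocP @MoreMor.IsFormallyEtaleHom g := by
  refine ⟨fun hg U V p q h hp hq w => formallyEtale_chart hp hq w hg, fun hg => ?_⟩
  obtain ⟨U, V, p, q, h, hp, hps, hq, hqs, w⟩ := exists_chart_square hX hY g
  exact formallyEtale_of_chart hp hq w hps (hg p q h hp hq w)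

theorem formallyEtale_of_isEtaleMor {X Y : Sp S} (hX : IsAlgSpace X) {g : X ⟶ Y}
    (hg : IsEtaleMor g) : IsFormallyEtaleMor g := by
  obtain ⟨U, p, hp, hps⟩ := hX.atlas
  exact formallyEtale_descend hp hps (formallyEtale_of_etale (hg p hp))

end Groth.Agent.AlgSpDescent
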