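import Groth.Agent.Lib.AlgSpDescent.Covers
import Groth.Agent.Lib.AlgSpace.LocP

/-!
# Calculus of fpqc coverings of algebraic spaces
-/

universe u

set_option backward.isDefEq.respectTransparency.types false

open CategoryTheory CategoryTheory.Limits AlgebraicGeometry Opposite MorphismProperty

namespace Groth.Agent.AlgSpDescent

open AlgSp Groth.Agent.AlgSpace Groth.Agent.AlgSpDecent

variable {S : Scheme.{u}}

/-- Base change of fpqc coverings. -/
theorem isFpqcCover_of_isPullback {X X' : Sp S} (hX : IsAlgSpace X) (hX' : IsAlgSpace X')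
    (a : X' ⟶ X) {ι : Type u} {Xi : ι → Sp S} (hXi : ∀ i, IsAlgSpace (Xi i)) {g : ∀ i, Xi i ⟶ X}
    {Xi' : ι → Sp S} {q : ∀ i, Xi' i ⟶ X'} {p : ∀ i, Xi' i ⟶ Xi i}
    (sq : ∀ i, IsPullback (q i) (p i) a (g i)) (h : IsFpqcCover Xi g) : IsFpqcCover Xi' q := by
  refine ⟨fun i => locP_of_isPullback (hXi i) hX hX' (sq i).flip (h.1 i), fun Z hZ t => ?_⟩
  obtain ⟨m, W, c, h1, h2, h3, h4⟩ := h.2 Z hZ (t ≫ a)
  refine ⟨m, W, c, h1, h2, h3, fun j => ?_⟩
  obtain ⟨i, l, hl⟩ := h4 j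
  exact ⟨i, (sq i).lift ((yon S).map (c j) ≫ t) l (by rw [Category.assoc, hl]),
    (sq i).lift_fst _ _ _⟩

/-- Composition of fpqc coverings. -/
theorem isFpqcCover_sigma {X : Sp S} (hX : IsAlgSpace X) {ι : Type u} {Xi : ι → Sp S}
    (hXi : ∀ i, IsAlgSpace (Xi i)) {g : ∀ i, Xi i ⟶ X} {κ : ι → Type u} {Xij : ∀ i, κ i → Sp S}
    (hXij : ∀ i j, IsAlgSpace (Xij i j)) {gij : ∀ i j, Xij i j ⟶ Xi i} (h : IsFpqcCover Xi g)
    (hij : ∀ i, IsFpqcCover (Xij i) (gij i)) :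
    IsFpqcCover (fun r : Σ i, κ i => Xij r.1 r.2) (fun r => gij r.1 r.2 ≫ g r.1) := by
  refine ⟨fun r => locP_comp (hXij r.1 r.2) (hXi r.1) hX ((hij r.1).1 r.2) (h.1 r.1),
    fun Z hZ t => ?_⟩
  obtain ⟨m, W, c, h1, h2, h3, h4⟩ := h.2 Z hZ t
  choose i l hl using h4
  choose n V d k1 k2 k3 k4 using fun j => (hij (i j)).2 (W j) (h1 j) (l j)
  let e := (Fintype.equivFin (Σ j : Fin m, Fin (n j))).symm
  refine ⟨_, fun r => V (e r).1 (e r).2, fun r => d (e r).1 (e r).2 ≫ c (e r).1,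
    fun r => k1 _ _, fun r => ?_, fun z => ?_, fun r => ?_⟩
  · rw [Over.comp_left]
    have := k2 (e r).1 (e r).2
    have := h2 (e r).1
    infer_instance
  · obtain ⟨j, w, rfl⟩ := h3 z
    obtain ⟨j', v, rfl⟩ := k3 j w
    have key : ∀ (q : Σ j : Fin m, Fin (n j)) (z : ↥Z.left),
        z ∈ Set.range (d q.1 q.2 ≫ c q.1).left →
          ∃ r, z ∈ Set.range (d (e r).1 (e r).2 ≫ c (e r).1).left := by
      intro q z hq
      obtain ⟨r, rfl⟩ := e.surjective q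
      exact ⟨r, hq⟩
    exact key ⟨j, j'⟩ _ ⟨v, rfl⟩
  · obtain ⟨i', l', hl'⟩ := k4 (e r).1 (e r).2
    refine ⟨⟨i (e r).1, i'⟩, l', ?_⟩
    rw [← Category.assoc, hl', Category.assoc, hl, Functor.map_comp, Category.assoc]

/-- An fpqc covering is detected after a surjective étale base change. -/
theorem isFpqcCover_iff_of_chart {X : Sp S} (hX : IsAlgSpace X) {ι : Type u} {Xi : ι → Sp S}
    (hXi : ∀ i, IsAlgSpace (Xi i)) {g : ∀ i, Xi i ⟶ X} {U : Over S} {p : (yon S).obj U ⟶ X}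
    (hp : RepWith @Etale p) (hps : RepWith @Surjective p) {Ui : ι → Sp S}
    {q : ∀ i, Ui i ⟶ (yon S).obj U} {p' : ∀ i, Ui i ⟶ Xi i}
    (sq : ∀ i, IsPullback (q i) (p' i) p (g i)) : IsFpqcCover Xi g ↔ IsFpqcCover Ui q := by
  refine ⟨fun h => isFpqcCover_of_isPullback hX (IsAlgSpace.yon_obj U) p hXi sq h, fun h =>
    ⟨fun i => locP_of_target_cover (hXi i) hX hp hps (sq i).flip (h.1 i), fun Z hZ t => ?_⟩⟩
  have sqZ := hp.1.isPullback t
  have hde : Etale (hp.1.snd t).left := hp.2 t _ _ sqZ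
  have hds : Surjective (hp.1.snd t).left := hps.2 t _ _ sqZ
  have : CompactSpace ↥Z.left := inferInstance
  obtain ⟨α, _, V, hV, hsurj⟩ := exists_affine_etale_surjective (hp.1.snd t).left
  let v : ∀ a, Over.mk ((V a).ι ≫ (hp.1.pullback t).hom) ⟶ hp.1.pullback t := fun a =>
    Over.homMk (V a).ι rfl
  choose m W c h1 h2 h3 h4 using fun a => h.2 (Over.mk ((V a).ι ≫ (hp.1.pullback t).hom)) (hV a)
    ((yon S).map (v a) ≫ hp.1.fst t)
  have : Fintype α := Fintype.ofFinite α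
  let e := (Fintype.equivFin (Σ a : α, Fin (m a))).symm
  refine ⟨_, fun r => W (e r).1 (e r).2, fun r => c (e r).1 (e r).2 ≫ v (e r).1 ≫ hp.1.snd t,
    fun r => h1 _ _, fun r => ?_, fun z => ?_, fun r => ?_⟩
  · rw [Over.comp_left, Over.comp_left]
    have := h2 (e r).1 (e r).2
    have : Flat (v (e r).1).left := inferInstanceAs (Flat (V (e r).1).ι)
    infer_instance
  · obtain ⟨s, hs⟩ := hsurj.surj z
    obtain ⟨a, w, rfl⟩ : ∃ a w, (Sigma.ι (fun a => (V a).toScheme) a) w = s :=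
      (sigmaOpenCover (fun a => (V a).toScheme)).exists_eq s
    obtain ⟨j, x, hx⟩ := h3 a w
    have key : ∀ (q : Σ a : α, Fin (m a)) (z : ↥Z.left),
        z ∈ Set.range (c q.1 q.2 ≫ v q.1 ≫ hp.1.snd t).left →
          ∃ r, z ∈ Set.range (c (e r).1 (e r).2 ≫ v (e r).1 ≫ hp.1.snd t).left := by
      intro q z hq
      obtain ⟨r, rfl⟩ := e.surjective q
      exact ⟨r, hq⟩
    refine key ⟨a, j⟩ _ ⟨x, ?_⟩
    rw [← hs, ← Scheme.Hom.comp_apply, Sigma.ι_desc, Over.comp_left, Over.comp_left]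
    simp only [Scheme.Hom.comp_apply, hx]
    rfl
  · obtain ⟨i, l, hl⟩ := h4 (e r).1 (e r).2
    refine ⟨i, l ≫ p' i, ?_⟩
    rw [Category.assoc, ← (sq i).w, ← Category.assoc, hl]
    simp only [Category.assoc, Functor.map_comp, sqZ.w]

end Groth.Agent.AlgSpDescent
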