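import Groth.Prelude.Def_AlgSpCov
import Groth.Agent.Lib.AlgSpDescent.BC

/-!
# `LocP P` is fpqc local on the base
-/

universe u

set_option backward.isDefEq.respectTransparency.types false

open CategoryTheory CategoryTheory.Limits AlgebraicGeometry Opposite MorphismProperty

namespace Groth.Agent.AlgSpDescent

open AlgSp Groth.Agent.AlgSpace

variable {S : Scheme.{u}}

/-- The disjoint union of schemes over `S`. -/
noncomputable abbrev sigmaOver {ι : Type u} (W : ι → Over S) : Over S :=
  Over.mk (Sigma.desc fun j => (W j).hom)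

/-- A property of schemes over `T` descends along a finite fpqc covering. -/
theorem of_fpqc_family {P : MorphismProperty Scheme.{u}} [P.IsStableUnderBaseChange]
    [IsZariskiLocalAtTarget P] [P.DescendsAlong (@Surjective ⊓ @Flat ⊓ @QuasiCompact)]
    {X T : Scheme.{u}} (h : X ⟶ T) [IsAffine T] {m : ℕ} (W : Fin m → Scheme.{u})
    (c : ∀ j, W j ⟶ T) [∀ j, IsAffine (W j)] [∀ j, Flat (c j)]
    (hc : ∀ z : T, ∃ j, z ∈ Set.range (c j)) (hP : ∀ j, P (pullback.snd h (c j))) : P h := by
  let q : (∐ W) ⟶ T := Sigma.desc c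
  have hq : (@Surjective ⊓ @Flat ⊓ @QuasiCompact : MorphismProperty Scheme.{u}) q := by
    refine ⟨⟨Surjective.sigmaDesc_of_union_range_eq_univ (Set.eq_univ_iff_forall.2 fun z =>
      Set.mem_iUnion.2 (hc z)), inferInstance⟩, ?_⟩
    exact inferInstanceAs (QuasiCompact q)
  refine MorphismProperty.of_isPullback_of_descendsAlong
    (IsPullback.of_hasPullback h q).flip hq ?_
  refine (IsZariskiLocalAtTarget.iff_of_openCover (P := P) (sigmaOpenCover W)).2 fun i => ?_
  have sq := (IsPullback.of_hasPullback (pullback.snd h q) (Sigma.ι W i)).paste_horiz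
    (IsPullback.of_hasPullback h q)
  change P (pullback.snd (pullback.snd h q) (Sigma.ι W i))
  rw [← sq.isoPullback_hom_snd]
  refine (P.cancel_left_of_respectsIso _ _).2 ?_
  have hι : Sigma.ι W i ≫ q = c i := Sigma.ι_desc _ _
  rw [hι]
  exact hP i

/-- `LocP P` is fpqc local on the base. -/
theorem isLocalOnBase_fpqc_locP {P : MorphismProperty Scheme.{u}} [P.IsStableUnderBaseChange]
    [IsZariskiLocalAtTarget P] [P.DescendsAlong (@Surjective ⊓ @Flat ⊓ @QuasiCompact)]
    (hpre : PrecompEtale P) (hsrc : DescendsEtaleSource P) :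
    IsLocalOnBase (IsFpqcCover (S := S)) (LocP P) := by
  intro ι Y Yi g hY hYi hg X f hX Xi p q hXi sq
  refine ⟨fun hf i => locP_of_bc (bc_of_isPullback (sq i) (bc_of_locP hpre hsrc hX hY hf)),
    fun hp => locP_of_bc ?_⟩
  intro T X' t fst snd sq' U φ h hφ hh
  refine IsZariskiLocalAtTarget.of_openCover (P := P) T.left.affineCover fun k => ?_
  -- the member of an affine covering
  let Z : Over S := Over.mk (T.left.affineCover.f k ≫ T.hom)
  let z : Z ⟶ T := Over.homMk (T.left.affineCover.f k) rfl
  have sqz := IsPullback.of_hasPullback snd ((yon S).map z)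
  obtain ⟨φZ, hφZ, hhZ, -⟩ := exists_chart_baseChange snd φ h hφ hh z _ _ sqz
  suffices key : P (pullback.snd h z).left by
    let e := ((IsPullback.of_hasPullback h z).map (Over.forget S)).isoPullback
    have he : e.hom ≫ pullback.snd h.left z.left = (pullback.snd h z).left :=
      ((IsPullback.of_hasPullback h z).map (Over.forget S)).isoPullback_hom_snd
    rw [← he] at key
    exact (P.cancel_left_of_respectsIso e.hom _).1 key
  generalize pullback.snd h z = hZ at hhZ
  have sqZ := sqz.paste_horiz sq'
  obtain ⟨m, W, c, hW, hc, hcs, hl⟩ := hg.2 Z (inferInstanceAs (IsAffine (T.left.affineCover.X k)))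
    ((yon S).map z ≫ t)
  have : IsAffine Z.left := inferInstanceAs (IsAffine (T.left.affineCover.X k))
  refine of_fpqc_family hZ.left (fun j => (W j).left) (fun j => (c j).left) hcs fun j => ?_
  obtain ⟨i, l, hli⟩ := hl j
  have sqj := IsPullback.of_hasPullback (pullback.snd snd ((yon S).map z)) ((yon S).map (c j))
  obtain ⟨φj, hφj, hhj, -⟩ := exists_chart_baseChange _ φZ hZ hφZ hhZ (c j) _ _ sqj
  have big := sqj.paste_horiz sqZ
  rw [← hli] at big
  let li := (sq i).lift
    (pullback.fst (pullback.snd snd ((yon S).map z)) ((yon S).map (c j)) ≫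
      pullback.fst snd ((yon S).map z) ≫ fst)
    (pullback.snd (pullback.snd snd ((yon S).map z)) ((yon S).map (c j)) ≫ l)
    (by simpa only [Category.assoc] using big.w)
  have sqi : IsPullback li (pullback.snd (pullback.snd snd ((yon S).map z)) ((yon S).map (c j)))
      (p i) l :=
    IsPullback.of_right (by simpa [li] using big) (by simp [li]) (sq i)
  have key := bc_of_locP hpre hsrc (hXi i) (hYi i) (hp i) l li _ sqi φj (pullback.snd hZ (c j))
    hφj hhj
  let e := ((IsPullback.of_hasPullback hZ (c j)).map (Over.forget S)).isoPullback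
  have he : e.hom ≫ pullback.snd hZ.left (c j).left = (pullback.snd hZ (c j)).left :=
    ((IsPullback.of_hasPullback hZ (c j)).map (Over.forget S)).isoPullback_hom_snd
  rw [← he] at key
  exact (P.cancel_left_of_respectsIso e.hom _).1 key

theorem precompEtale_of_isStableUnderComposition {P : MorphismProperty Scheme.{u}}
    [P.IsStableUnderComposition] (h : (@Etale : MorphismProperty Scheme.{u}) ≤ P) :
    PrecompEtale P := fun _ _ _ g f hg hf => P.comp_mem g f (h _ _ g hg) hf

end Groth.Agent.AlgSpDescent
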