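import Groth.Agent.Lib.AlgSpDescent.FormallyLift
import Groth.Agent.Lib.AlgSpace.EtaleApps
import Groth.Agent.Lib.AlgSpace.UI
import Groth.Agent.Lib.AlgSpace.Proper
import Groth.Agent.Lib.AlgSpace.PointsBC
import Groth.Agent.Lib.AlgSpace.UnivClosedQC
import Mathlib.AlgebraicGeometry.ZariskisMainTheorem

/-!
# Monomorphisms locally of finite type and closed immersions of spaces
-/

universe u

set_option backward.isDefEq.respectTransparency.types false

open CategoryTheory CategoryTheory.Limits AlgebraicGeometry Opposite MorphismProperty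

namespace Groth.Agent.AlgSpDescent

open AlgSp Groth.Agent.AlgSpace Groth.Agent.AlgSpDecent

variable {S : Scheme.{u}} {X Y : Sp S} {f : X ⟶ Y}

theorem isUnivInjectiveMor_of_mono (f : X ⟶ Y) [Mono f] : IsUnivInjectiveMor f :=
  isUnivInjectiveMor_of_fieldPts fun _ _ _ _ _ h => (cancel_mono f).1 h

theorem formallyUnramified_of_mono (f : X ⟶ Y) [Mono f] : IsFormallyUnramifiedMor f :=
  fun _ _ _ _ h₂ _ h₂' => (cancel_mono f).1 (h₂.trans h₂'.symm)

/-- Unramified universally injective morphisms of spaces are monomorphisms. -/
theorem mono_of_unramified_univInjective (hX : IsAlgSpace X) (hY : IsAlgSpace Y)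
    (hu : LocP (@LocallyOfFiniteType ⊓ @FormallyUnramified) f) (hi : IsUnivInjectiveMor f) :
    Mono f := by
  have hd : RepWith @IsOpenImmersion (pullback.diagonal f) :=
    repWith_diagonal_isOpenImmersion_of_unramified hX hY hu
  have := isIso_of_isOpenImmersion_of_surjective hd (surjective_diagonal_of_univInjective hi)
  exact (pullback.isIso_diagonal_iff f).1 this

theorem unramified_of_mono (hX : IsAlgSpace X) (hY : IsAlgSpace Y) [Mono f]
    (hf : LocP @LocallyOfFiniteType f) : LocP (@LocallyOfFiniteType ⊓ @FormallyUnramified) f :=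
  locP_unramified_of_diagonal hX hY hf (repWith_diagonal_of_mono f)

theorem unramified_of_lft_formallyUnramified (hX : IsAlgSpace X) (hY : IsAlgSpace Y)
    (hf : LocP @LocallyOfFiniteType f) (hu : IsFormallyUnramifiedMor f) :
    LocP (@LocallyOfFiniteType ⊓ @FormallyUnramified) f :=
  fun U V a b h ha hb w => ⟨hf a b h ha hb w,
    (isFormallyUnramifiedMor_iff_locP hX hY f).1 hu a b h ha hb w⟩

theorem lqf_of_mono_lft (hX : IsAlgSpace X) (hY : IsAlgSpace Y) [Mono f]
    (hf : LocP @LocallyOfFiniteType f) : LocP (@LocallyQuasiFinite ⊓ @LocallyOfFiniteType) f :=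
  fun U V a b h ha hb w => by
    obtain ⟨h₁, h₂⟩ := unramified_of_mono hX hY hf a b h ha hb w
    have : LocallyOfFiniteType h.left := h₁
    have : FormallyUnramified h.left := h₂
    exact ⟨locallyQuasiFinite_of_unramified h.left, h₁⟩

/-- Monomorphisms locally of finite type of spaces are representable. -/
theorem representable_of_mono_lft (hX : IsAlgSpace X) (hY : IsAlgSpace Y) [Mono f]
    (hf : LocP @LocallyOfFiniteType f) : Representable f :=
  representable_of_lqf_separated hX hY f (repWith_diagonal_of_mono f) (lqf_of_mono_lft hX hY hf)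

/-- Universally closed monomorphisms locally of finite type are closed immersions. -/
theorem repWith_closedImmersion_of_univClosed (hX : IsAlgSpace X) (hY : IsAlgSpace Y) [Mono f]
    (hc : IsUnivClosedMor f) (hf : LocP @LocallyOfFiniteType f) : RepWith @IsClosedImmersion f := by
  have hr := representable_of_mono_lft hX hY hf
  have h₁ := repWith_of_locP hY hr hf
  have h₂ := (repWith_universallyClosed_iff hr).2 hc
  have h₃ := (repWith_quasiCompact_iff hX hY hr).2 (isQuasiCompactMor_of_isUnivClosedMor hX hY hc)
  refine repWith_mk fun T g => ⟨_, hr.fst g, hr.snd g, hr.isPullback g, ?_⟩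
  have sq := hr.isPullback g
  have : LocallyOfFiniteType (hr.snd g).left := h₁.2 _ _ _ sq
  have : UniversallyClosed (hr.snd g).left := h₂.2 _ _ _ sq
  have : QuasiCompact (hr.snd g).left := h₃.2 _ _ _ sq
  have : Mono ((yon S).map (hr.snd g)) :=
    MorphismProperty.of_isPullback (P := MorphismProperty.monomorphisms (Sp S)) sq ‹Mono f›
  have : Mono (hr.snd g) := (yon S).mono_of_mono_map this
  have : Mono (hr.snd g).left := Over.mono_left_of_mono (hr.snd g)
  have : IsProper (hr.snd g).left := {}
  exact (IsClosedImmersion.iff_isProper_and_mono _).2 ⟨inferInstance, inferInstance⟩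

theorem lft_of_repWith_closedImmersion (hY : IsAlgSpace Y) (hf : RepWith @IsClosedImmersion f) :
    LocP @LocallyOfFiniteType f :=
  locP_of_repWith hY (repWith_mono (fun _ _ _ h => by
    have : IsClosedImmersion _ := h
    infer_instance) hf)

theorem mono_of_repWith_closedImmersion (hf : RepWith @IsClosedImmersion f) : Mono f :=
  mono_of_isImmersion (repWith_mono (fun _ _ _ h => by
    have : IsClosedImmersion _ := h
    infer_instance) hf)

end Groth.Agent.AlgSpDescent
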