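import Groth.Agent.Lib.AlgSpDescent.Covers
import Groth.Agent.Lib.AlgSpDescent.FpqcTop
import Mathlib.AlgebraicGeometry.Morphisms.UniversallyOpen

/-!
# Openness of morphisms of spaces is fppf local on the source
-/

universe u

set_option backward.isDefEq.respectTransparency.types false

open CategoryTheory CategoryTheory.Limits AlgebraicGeometry Opposite MorphismProperty Topology

namespace Groth.Agent.AlgSpDescent

open AlgSp Groth.Agent.AlgSpace Groth.Agent.AlgSpDecent

variable {S : Scheme.{u}}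

/-- A morphism which is flat and locally of finite presentation is open. -/
theorem isOpenMor_of_bc {X Y : Sp S} (hX : IsAlgSpace X) (hY : IsAlgSpace Y) {g : X ⟶ Y}
    (hg : BC (@Flat ⊓ @LocallyOfFinitePresentation) g) : IsOpenMor g := by
  intro O hO
  refine Points.isOpen_iff.2 fun T t => ?_
  have sq := IsPullback.of_hasPullback g t
  obtain ⟨A, a, hae, has⟩ := (isAlgSpace_pullback hY hX (IsAlgSpace.yon_obj T) sq).atlas
  obtain ⟨c, hc⟩ := (yon S).map_surjective (a ≫ pullback.snd g t)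
  obtain ⟨hcf, hcp⟩ := hg t _ _ sq a c hae hc
  have key : Points.ofPt t ⁻¹' (Points.map g '' O) =
      c.left '' (Points.ofPt (a ≫ pullback.fst g t) ⁻¹' O) := by
    ext z
    constructor
    · rintro ⟨x, hx, hxz⟩
      obtain ⟨w, rfl, hw⟩ := exists_point_lift sq x (Points.ofScheme T z)
        (by rw [← Points.ofPt_eq_map_ofScheme]; exact hxz)
      obtain ⟨v, rfl⟩ := surjective_ofPt has w
      refine ⟨v, by rwa [Set.mem_preimage, ← Points.map_ofPt], ?_⟩
      apply (Points.schemeEquiv T).injective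
      rw [Points.map_ofPt, ← hc, ofPt_map_eq] at hw
      exact hw
    · rintro ⟨v, hv, rfl⟩
      refine ⟨_, hv, ?_⟩
      rw [Points.map_ofPt, Category.assoc, sq.w, ← Category.assoc, ← hc, ofPt_map_comp]
  rw [key]
  exact c.left.isOpenMap _ (hO.preimage (Points.continuous_ofPt _))

theorem isOpenMor_comp {X Y Z : Sp S} {f : X ⟶ Y} {g : Y ⟶ Z} (hf : IsOpenMor f)
    (hg : IsOpenMor g) : IsOpenMor (f ≫ g) := by
  change IsOpenMap (Points.map (f ≫ g))
  rw [show Points.map (f ≫ g) = Points.map g ∘ Points.map f from funext (Points.map_comp f g)]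
  exact IsOpenMap.comp hg hf

theorem image_eq_iUnion {ι : Type u} {X Y : Sp S} {Xi : ι → Sp S} {g : ∀ i, Xi i ⟶ X} {f : X ⟶ Y}
    (hs : ∀ x : Points X, ∃ i, x ∈ Set.range (Points.map (g i))) (O : Set (Points X)) :
    Points.map f '' O = ⋃ i, Points.map (g i ≫ f) '' (Points.map (g i) ⁻¹' O) := by
  ext y
  simp only [Set.mem_image, Set.mem_iUnion, Set.mem_preimage]
  constructor
  · rintro ⟨x, hx, rfl⟩
    obtain ⟨i, w, rfl⟩ := hs x
    exact ⟨i, w, hx, Points.map_comp _ _ _⟩
  · rintro ⟨i, w, hw, rfl⟩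
    exact ⟨_, hw, (Points.map_comp _ _ _).symm⟩

theorem isOpenMor_of_comp {ι : Type u} {X Y : Sp S} {Xi : ι → Sp S} {g : ∀ i, Xi i ⟶ X} {f : X ⟶ Y}
    (hs : ∀ x : Points X, ∃ i, x ∈ Set.range (Points.map (g i))) (hf : ∀ i, IsOpenMor (g i ≫ f)) :
    IsOpenMor f := fun O hO => by
  rw [image_eq_iUnion hs]
  exact isOpen_iUnion fun i => hf i _ (hO.preimage (Points.continuous_map _))

theorem isLocalOnSource_fppf_isOpenMor : IsLocalOnSource (IsFppfCover (S := S)) IsOpenMor :=
  fun _ _ _ _ hX hXi hg _ _ _ =>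
    ⟨fun hf i => isOpenMor_comp (isOpenMor_of_bc (hXi i) hX (bc_fppf_of_isFppfCover hX hXi hg i)) hf,
      isOpenMor_of_comp hg.2⟩

theorem isLocalOnSource_fppf_isUnivOpenMor :
    IsLocalOnSource (IsFppfCover (S := S)) IsUnivOpenMor := by
  intro ι X Xi g hX hXi hg Y f hY
  refine ⟨fun hf i Z Z' hZ h fst snd sqZ => ?_, fun hf Z Z' hZ h fst snd sqZ => ?_⟩
  · have sq := IsPullback.of_hasPullback f h
    have hA := isAlgSpace_pullback hY hX hZ sq
    let n := sq.lift (fst ≫ g i) snd (by rw [Category.assoc]; exact sqZ.w)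
    have sqn : IsPullback fst n (g i) (pullback.fst f h) :=
      IsPullback.of_bot (by simpa [n] using sqZ) (by simp [n]) sq
    have := isOpenMor_comp (isOpenMor_of_bc (isAlgSpace_pullback hY (hXi i) hZ sqZ) hA
      (bc_of_isPullback sqn (bc_fppf_of_isFppfCover hX hXi hg i))) (hf hZ h _ _ sq)
    simpa [n] using this
  · refine isOpenMor_of_comp (g := fun i => pullback.snd (g i) fst) (fun z => ?_) fun i => ?_
    · obtain ⟨i, w, hw⟩ := hg.2 (Points.map fst z)
      obtain ⟨v, -, hv⟩ := exists_point_lift (IsPullback.of_hasPullback (g i) fst) w z hw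
      exact ⟨i, v, hv⟩
    · exact hf i hZ h _ _ ((IsPullback.of_hasPullback (g i) fst).paste_vert sqZ)

end Groth.Agent.AlgSpDescent
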