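import Groth.Agent.Lib.AlgSpDescent.FpqcCalc
import Groth.Agent.Lib.AlgSpDescent.FpqcTop
import Groth.Agent.Lib.FpqcDesc.Basic

/-!
# Descent of properties of representable morphisms; diagonals
-/

universe u

set_option backward.isDefEq.respectTransparency.types false

open CategoryTheory CategoryTheory.Limits AlgebraicGeometry Opposite MorphismProperty

namespace Groth.Agent.AlgSpDescent

open AlgSp Groth.Agent.AlgSpace Groth.Agent.AlgSpDecent

variable {S : Scheme.{u}}

/-- For a representable morphism, a property can be checked on an fpqc covering of the base. -/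
theorem repWith_of_fpqc {P : MorphismProperty Scheme.{u}} [P.IsStableUnderBaseChange]
    [IsZariskiLocalAtTarget P] [P.DescendsAlong (@Surjective ⊓ @Flat ⊓ @QuasiCompact)]
    {ι : Type u} {X Y : Sp S} {Yi Xi : ι → Sp S} {g : ∀ i, Yi i ⟶ Y} {f : X ⟶ Y}
    {p : ∀ i, Xi i ⟶ Yi i} {q : ∀ i, Xi i ⟶ X} (hg : IsFpqcCover Yi g)
    (sq : ∀ i, IsPullback (q i) (p i) f (g i)) (hf : Representable f)
    (hp : ∀ i, RepWith P (p i)) : RepWith P f := by
  refine ⟨hf, fun T V t fst snd sqT => ?_⟩
  refine IsZariskiLocalAtTarget.of_openCover T.left.affineCover fun a => ?_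
  let A : Over S := Over.mk (T.left.affineCover.f a ≫ T.hom)
  let α : A ⟶ T := Over.homMk (T.left.affineCover.f a) rfl
  have hA : IsAffine A.left := inferInstanceAs (IsAffine (T.left.affineCover.X a))
  have sqA := IsPullback.of_hasPullback snd α
  have sqA' := (sqA.map (yon S)).paste_horiz sqT
  obtain ⟨m, W, c, hW, hc, hcs, hl⟩ := hg.2 A hA ((yon S).map α ≫ t)
  have hmem : ∀ j, P (pullback.snd (pullback.snd snd α).left (c j).left) := by
    intro j
    obtain ⟨i, l, hli⟩ := hl j
    have sqW := IsPullback.of_hasPullback (pullback.snd snd α) (c j)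
    obtain ⟨Q, m', s, n, sqm, sqn⟩ := exists_test_square sq sqA' ((yon S).map (c j)) i l hli
    let e := sqm.isoIsPullback _ _ (sqW.map (yon S))
    have sqn' := IsPullback.of_iso sqn e (Iso.refl _) (Iso.refl _) (Iso.refl _)
      (fst' := e.inv ≫ n) (snd' := (yon S).map (pullback.snd (pullback.snd snd α) (c j)))
      (f' := p i) (g' := l) (by simp) (by rw [Iso.refl_hom, Category.comp_id, IsPullback.isoIsPullback_hom_snd]) (by simp) (by simp)
    have h := (hp i).2 _ _ _ sqn'
    exact (P.arrow_mk_iso_iff (Arrow.isoMk'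
      (pullback.snd (pullback.snd snd α) (c j)).left (pullback.snd (pullback.snd snd α).left (c j).left)
      ((sqW.map (Over.forget S)).isoPullback) (Iso.refl _) (by simp))).1 h
  have hPA : P (pullback.snd snd α).left := by
    have : IsAffine A.left := hA
    have := hW
    have := hc
    exact of_fpqc_family _ (fun j => (W j).left) (fun j => (c j).left) hcs hmem
  exact (P.arrow_mk_iso_iff (Arrow.isoMk' (pullback.snd snd α).left
    (pullback.snd snd.left (T.left.affineCover.f a))
    ((sqA.map (Over.forget S)).isoPullback) (Iso.refl _) (by rw [Iso.refl_hom, Category.comp_id]; exact ((sqA.map (Over.forget S)).isoPullback_hom_snd)))).1 hPA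

/-- The diagonal of a morphism out of a space is representable. -/
theorem representable_diagonal {X Y : Sp S} (hX : IsAlgSpace X) (f : X ⟶ Y) :
    Representable (pullback.diagonal f) := by
  let k : pullback f f ⟶ X ⨯ X := prod.lift (pullback.fst f f) (pullback.snd f f)
  have : Mono k := ⟨fun a b h => pullback.hom_ext (by simpa only [k, Category.assoc, prod.lift_fst] using h =≫ prod.fst)
    (by simpa only [k, Category.assoc, prod.lift_snd] using h =≫ prod.snd)⟩
  have hd : pullback.diagonal f ≫ k = Limits.diag X := by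
    apply Limits.prod.hom_ext <;> simp [k]
  have := isPullback_of_mono (pullback.diagonal f) k
  rw [hd] at this
  exact MorphismProperty.of_isPullback (P := Representable) this hX.diag

/-- The diagonal commutes with base change. -/
theorem exists_diagonal_square {X Y X' Y' : Sp S} {f : X ⟶ Y} {g : Y' ⟶ Y} {p : X' ⟶ Y'}
    {q : X' ⟶ X} (sq : IsPullback q p f g) :
    ∃ k : pullback p p ⟶ pullback f f,
      IsPullback q (pullback.diagonal p) (pullback.diagonal f) k ∧
      IsPullback k (pullback.fst p p ≫ p) (pullback.fst f f ≫ f) g := by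
  have sqp := IsPullback.of_hasPullback p p
  have sqf := IsPullback.of_hasPullback f f
  let k := sqf.lift (pullback.fst p p ≫ q) (pullback.snd p p ≫ q)
    (by rw [Category.assoc, sq.w, ← Category.assoc, sqp.w, Category.assoc, Category.assoc, sq.w])
  have h1 : IsPullback (pullback.snd p p ≫ q) (pullback.fst p p) f (q ≫ f) := by
    rw [sq.w]; exact sqp.flip.paste_horiz sq
  have h2 : IsPullback k (pullback.fst p p) (pullback.fst f f) q :=
    IsPullback.of_right (h₁₁ := k) (by simpa [k] using h1) (by simp [k]) sqf.flip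
  have h3 := h2.paste_vert sq
  refine ⟨k, IsPullback.of_bot (by simpa using sq) ?_ h3, h3⟩
  apply pullback.hom_ext <;> simp [k]

/-- Properties of diagonals are fpqc local on the base. -/
theorem isLocalOnBase_fpqc_diagonal (P : MorphismProperty Scheme.{u}) [P.IsStableUnderBaseChange]
    [IsZariskiLocalAtTarget P] [P.DescendsAlong (@Surjective ⊓ @Flat ⊓ @QuasiCompact)] :
    IsLocalOnBase (IsFpqcCover (S := S)) (fun _ _ f => RepWith P (pullback.diagonal f)) := by
  intro ι Y Yi g hY hYi hg X f hX Xi p q hXi sq
  choose k hk hk' using fun i => exists_diagonal_square (sq i)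
  refine ⟨fun hf i => repWith_of_isPullback (hk i) hf, fun hp => ?_⟩
  have hXX := isAlgSpace_pullback hY hX hX (IsPullback.of_hasPullback f f)
  exact repWith_of_fpqc (isFpqcCover_of_isPullback hY hXX _ hYi hk' hg) hk
    (representable_diagonal hX f) hp

theorem isLocalOnBase_fpqc_isQuasiSeparatedMor :
    IsLocalOnBase (IsFpqcCover (S := S)) IsQuasiSeparatedMor :=
  have := FpqcDesc.descendsAlong_quasiCompact.{u}
  isLocalOnBase_fpqc_diagonal @QuasiCompact

theorem isLocalOnBase_fpqc_isSeparatedMor :
    IsLocalOnBase (IsFpqcCover (S := S)) IsSeparatedMor :=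
  have := FpqcDesc.descendsAlong_isClosedImmersion.{u}
  isLocalOnBase_fpqc_diagonal @IsClosedImmersion

theorem repWith_isomorphisms_of_isIso {F G : Sp S} (f : F ⟶ G) [IsIso f] :
    RepWith (MorphismProperty.isomorphisms Scheme.{u}) f := by
  refine repWith_mk fun T g => ⟨T, g ≫ inv f, 𝟙 T, ?_, inferInstanceAs (IsIso (𝟙 T.left))⟩
  exact IsPullback.of_vert_isIso ⟨by simp⟩

theorem isIso_of_repWith_isomorphisms {F G : Sp S} {f : F ⟶ G}
    (hf : RepWith (MorphismProperty.isomorphisms Scheme.{u}) f) : IsIso f := by
  have : Mono f := mono_of_repWith f (repWith_mono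
    (fun _ _ g (h : IsIso g) => (inferInstance : Mono g)) hf)
  have hlift : ∀ {T : Over S} (t : (yon S).obj T ⟶ G), ∃ s : (yon S).obj T ⟶ F, s ≫ f = t := by
    intro T t
    have sq := hf.1.isPullback t
    have : IsIso (hf.1.snd t).left := hf.2 t _ _ sq
    have : IsIso ((Over.forget S).map (hf.1.snd t)) := this
    have := isIso_of_reflects_iso (hf.1.snd t) (Over.forget S)
    exact ⟨(yon S).map (inv (hf.1.snd t)) ≫ hf.1.fst t, by
      rw [Category.assoc, sq.w, ← Category.assoc, ← Functor.map_comp, IsIso.inv_hom_id]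
      simp⟩
  have : IsIso f.hom := by
    refine @NatIso.isIso_of_isIso_app _ _ _ _ _ _ f.hom fun T => ?_
    rw [isIso_iff_bijective]
    refine ⟨fun x y hxy => ?_, fun z => ?_⟩
    · refine (sect (T := T.unop) (F := F)).symm.injective ((cancel_mono f).1 ?_)
      apply sect.injective
      rw [GrothendieckTopology.uliftYonedaEquiv_comp, GrothendieckTopology.uliftYonedaEquiv_comp,
        Equiv.apply_symm_apply, Equiv.apply_symm_apply]
      exact hxy
    · obtain ⟨s, hs⟩ := hlift ((sect (T := T.unop) (F := G)).symm z)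
      exact ⟨sect s, by
        rw [← GrothendieckTopology.uliftYonedaEquiv_comp, hs, Equiv.apply_symm_apply]⟩
  exact ⟨⟨⟨inv f.hom⟩, by ext1; exact IsIso.hom_inv_id f.hom, by ext1; exact IsIso.inv_hom_id f.hom⟩⟩

theorem isLocalOnBase_fpqc_monomorphisms :
    IsLocalOnBase (IsFpqcCover (S := S)) (MorphismProperty.monomorphisms (Sp S)) := by
  have key : ∀ {A B : Sp S} (f : A ⟶ B),
      Mono f ↔ RepWith (MorphismProperty.isomorphisms Scheme.{u}) (pullback.diagonal f) := fun f =>
    ⟨fun _ => repWith_isomorphisms_of_isIso _, fun h =>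
      have := isIso_of_repWith_isomorphisms h
      (pullback.isIso_diagonal_iff f).1 inferInstance⟩
  intro ι Y Yi g hY hYi hg X f hX Xi p q hXi sq
  simp only [MorphismProperty.monomorphisms.iff, key]
  exact isLocalOnBase_fpqc_diagonal _ Yi g hY hYi hg f hX Xi p q hXi sq

end Groth.Agent.AlgSpDescent
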