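import Mathlib.RingTheory.Smooth.StandardSmoothOfFree
import Mathlib.RingTheory.Smooth.Flat
import Mathlib.RingTheory.Etale.Kaehler
import Mathlib.RingTheory.Flat.FaithfullyFlat.Algebra
import Mathlib.RingTheory.Flat.Equalizer
import Mathlib.RingTheory.LocalProperties.Basic
import Groth.Agent.Lib.AlgSpDescent.RingSource

/-!
# Smoothness of `A → B` follows from the one of `A → C` for a smooth faithfully flat `B → C`
-/

universe u

open TensorProduct

namespace Groth.Agent.AlgSpDescent

section Lift

variable {R₁ B C : Type u} [CommRing R₁] [CommRing B] [CommRing C] [Algebra R₁ B] [Algebra R₁ C]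
  [Algebra B C] [IsScalarTower R₁ B C]

/-- A standard smooth algebra lifts to a standard smooth algebra along a surjection. -/
theorem exists_standardSmooth_lift [Algebra.IsStandardSmooth B C]
    (hB : Function.Surjective (algebraMap R₁ B)) :
    ∃ (Q : Type u) (_ : CommRing Q) (_ : Algebra R₁ Q) (g : Q →ₐ[R₁] C),
      Algebra.IsStandardSmooth R₁ Q ∧ Function.Surjective g ∧
        RingHom.ker g ≤ (RingHom.ker (algebraMap R₁ B)).map (algebraMap R₁ Q) := by
  classical
  obtain ⟨ι, σ, _, _, ⟨S⟩⟩ := (inferInstance : Algebra.IsStandardSmooth B C)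
  have : Fintype σ := Fintype.ofFinite σ
  choose v hv using fun r => MvPolynomial.map_surjective (σ := ι) _ hB (S.relation r)
  let M := MvPolynomial ι R₁ ⧸ Ideal.span (Set.range v)
  let N : Algebra.PreSubmersivePresentation R₁ M ι σ :=
    Algebra.PreSubmersivePresentation.naive S.map S.map_inj
  have hae : ∀ x : MvPolynomial ι R₁,
      MvPolynomial.aeval S.val (MvPolynomial.map (algebraMap R₁ B) x) =
        MvPolynomial.aeval S.val x := fun x => MvPolynomial.aeval_map_algebraMap _ _ _
  have hvk : ∀ x ∈ Ideal.span (Set.range v),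
      (MvPolynomial.aeval S.val : MvPolynomial ι R₁ →ₐ[R₁] C) x = 0 := by
    simp_rw [← RingHom.mem_ker, ← SetLike.le_def, Ideal.span_le]
    rintro _ ⟨r, rfl⟩
    rw [SetLike.mem_coe, RingHom.mem_ker, ← hae, hv]
    exact S.aeval_val_relation r
  let g₀ : M →ₐ[R₁] C := Ideal.Quotient.liftₐ _ (MvPolynomial.aeval S.val) hvk
  have hg₀ : ∀ x, g₀ (Ideal.Quotient.mk _ x) = MvPolynomial.aeval S.val x := fun _ => rfl
  have hj : g₀ N.jacobian = S.jacobian := by
    rw [N.jacobian_eq_jacobiMatrix_det, S.jacobian_eq_jacobiMatrix_det]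
    change g₀ (Ideal.Quotient.mk _ _) = algebraMap S.Ring C _
    rw [hg₀, Algebra.Generators.algebraMap_apply, AlgHom.map_det, AlgHom.map_det]
    congr 1
    ext i j
    simp only [AlgHom.mapMatrix_apply, Matrix.map_apply]
    rw [Algebra.PreSubmersivePresentation.jacobiMatrix_apply,
      Algebra.PreSubmersivePresentation.jacobiMatrix_apply]
    change MvPolynomial.aeval S.val (MvPolynomial.pderiv (S.map i) (v j)) =
      MvPolynomial.aeval S.val (MvPolynomial.pderiv (S.map i) (S.relation j))
    rw [← hv j, MvPolynomial.pderiv_map, hae]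
  let Q := Localization.Away N.jacobian
  have hu : ∀ y : Submonoid.powers N.jacobian, IsUnit (g₀ y) := by
    rintro ⟨_, n, rfl⟩
    rw [map_pow, hj]
    exact S.jacobian_isUnit.pow n
  let g : Q →ₐ[R₁] C := IsLocalization.liftAlgHom (M := Submonoid.powers N.jacobian) hu
  have hg : ∀ m : M, g (algebraMap M Q m) = g₀ m := fun m => IsLocalization.lift_eq _ m
  let S' : Algebra.SubmersivePresentation R₁ Q (Unit ⊕ ι) (Unit ⊕ σ) :=
    { toPreSubmersivePresentation :=
        (Algebra.PreSubmersivePresentation.localizationAway Q N.jacobian).comp N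
      jacobian_isUnit := by
        rw [Algebra.PreSubmersivePresentation.comp_jacobian_eq_jacobian_smul_jacobian,
          Algebra.smul_def, Algebra.PreSubmersivePresentation.localizationAway_jacobian,
          IsUnit.mul_iff]
        exact ⟨IsLocalization.Away.algebraMap_isUnit _, IsLocalization.Away.algebraMap_isUnit _⟩ }
  refine ⟨Q, inferInstance, inferInstance, g, S'.isStandardSmooth, ?_, ?_⟩
  · intro c
    obtain ⟨p, rfl⟩ := S.aeval_val_surjective c
    obtain ⟨q, rfl⟩ := MvPolynomial.map_surjective _ hB p
    exact ⟨algebraMap M Q (Ideal.Quotient.mk _ q), by rw [hg, hg₀, hae]⟩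
  · let N' := (RingHom.ker (algebraMap R₁ B)).map (algebraMap R₁ Q)
    let b : B →+* Q ⧸ N' := RingHom.liftOfSurjective (algebraMap R₁ B) hB
      ⟨algebraMap R₁ (Q ⧸ N'), fun r hr => by
        rw [RingHom.mem_ker, IsScalarTower.algebraMap_apply R₁ Q (Q ⧸ N'),
          Ideal.Quotient.algebraMap_eq, Ideal.Quotient.eq_zero_iff_mem]
        exact Ideal.mem_map_of_mem _ hr⟩
    let a : MvPolynomial ι B →+* Q ⧸ N' := MvPolynomial.eval₂Hom b fun i =>
      Ideal.Quotient.mk N' (algebraMap M Q (Ideal.Quotient.mk _ (MvPolynomial.X i)))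
    have ha : a.comp (MvPolynomial.map (algebraMap R₁ B)) = (Ideal.Quotient.mk N').comp
        ((algebraMap M Q).comp (Ideal.Quotient.mk _)) := by
      refine MvPolynomial.ringHom_ext (fun r => ?_) fun i => ?_
      · simp only [a, RingHom.comp_apply, MvPolynomial.map_C, MvPolynomial.eval₂Hom_C]
        rw [RingHom.liftOfRightInverse_comp_apply]
        rfl
      · simp [a]
    let h : C →+* Q ⧸ N' := RingHom.liftOfSurjective
      (MvPolynomial.aeval S.val : MvPolynomial ι B →ₐ[B] C).toRingHom S.aeval_val_surjective
      ⟨a, by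
        change RingHom.ker (MvPolynomial.aeval S.val).toRingHom ≤ RingHom.ker a
        rw [show RingHom.ker (MvPolynomial.aeval S.val).toRingHom = S.ker from
          S.ker_eq_ker_aeval_val.symm, ← S.span_range_relation_eq_ker, Ideal.span_le]
        rintro _ ⟨r, rfl⟩
        rw [SetLike.mem_coe, RingHom.mem_ker, ← hv, ← RingHom.comp_apply, ha]
        simp [show Ideal.Quotient.mk (Ideal.span (Set.range v)) (v r) = 0 from
          Ideal.Quotient.eq_zero_iff_mem.2 (Ideal.subset_span ⟨r, rfl⟩)]⟩
    have hh : h.comp g.toRingHom = Ideal.Quotient.mk N' := by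
      refine IsLocalization.ringHom_ext (Submonoid.powers N.jacobian)
        (Ideal.Quotient.ringHom_ext (RingHom.ext fun x => ?_))
      simp only [RingHom.comp_apply, AlgHom.toRingHom_eq_coe, RingHom.coe_coe, hg, hg₀, ← hae]
      rw [show h ((MvPolynomial.aeval S.val) (MvPolynomial.map (algebraMap R₁ B) x)) =
        a (MvPolynomial.map (algebraMap R₁ B) x) from RingHom.liftOfRightInverse_comp_apply _ _ _ _ _]
      exact RingHom.congr_fun ha x
    intro x hx
    rw [← Ideal.Quotient.eq_zero_iff_mem, ← hh]
    simp [RingHom.mem_ker.1 hx]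

end Lift

section H1

variable (A B C : Type u) [CommRing A] [CommRing B] [CommRing C] [Algebra A B] [Algebra B C]
  [Algebra A C] [IsScalarTower A B C]

open Algebra in
theorem subsingleton_tensor_h1Cotangent_of_standardSmooth [Algebra.IsStandardSmooth B C]
    [Algebra.FormallySmooth A C] :
    Subsingleton (C ⊗[B] Algebra.H1Cotangent A B) := by
  let P : Extension A B := (Generators.self A B).toExtension
  have : FormallySmooth A P.Ring := Algebra.instFormallySmoothMvPolynomial B
  let : Algebra P.Ring C := ((algebraMap B C).comp (algebraMap P.Ring B)).toAlgebra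
  have : IsScalarTower P.Ring B C := .of_algebraMap_eq' rfl
  have : IsScalarTower A P.Ring C := .of_algebraMap_eq fun a => by
    rw [RingHom.algebraMap_toAlgebra, RingHom.comp_apply, ← IsScalarTower.algebraMap_apply A P.Ring B,
      ← IsScalarTower.algebraMap_apply A B C]
  obtain ⟨Q, _, _, g, _, hg, hker⟩ := exists_standardSmooth_lift (C := C) P.algebraMap_surjective
  let : Algebra A Q := ((algebraMap P.Ring Q).comp (algebraMap A P.Ring)).toAlgebra
  have : IsScalarTower A P.Ring Q := .of_algebraMap_eq' rfl
  have : Smooth P.Ring Q := inferInstance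
  have : Module.Flat P.Ring Q := inferInstance
  let Qx : Extension A C := .ofSurjective (g.restrictScalars A) hg
  have : FormallySmooth A Qx.Ring := FormallySmooth.comp A P.Ring Q
  let f : P.Hom Qx :=
  { toRingHom := algebraMap P.Ring Q
    toRingHom_algebraMap := fun x => rfl
    algebraMap_toRingHom := fun x => g.commutes x }
  let : Algebra P.Ring Qx.Ring := (inferInstance : Algebra P.Ring Q)
  have : Module.Flat P.Ring Qx.Ring := ‹Module.Flat P.Ring Q›
  have H : Function.Bijective ((f.mapKer rfl).liftBaseChange Qx.Ring) := by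
    constructor
    · have hinj := (TensorProduct.AlgebraTensorModule.rid P.Ring Qx.Ring Qx.Ring).injective.comp
        (Module.Flat.lTensor_preserves_injective_linearMap (M := Qx.Ring) P.ker.subtype
          Subtype.val_injective)
      refine Function.Injective.of_comp (f := (Subtype.val : Qx.ker → Qx.Ring)) ?_
      convert hinj using 1
      funext x
      induction x with
      | zero => simp
      | add x y hx hy =>
        simp only [Function.comp_apply, map_add, Submodule.coe_add] at hx hy ⊢
        rw [hx, hy]
      | tmul q i =>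
        simp [Extension.Hom.mapKer, Algebra.smul_def, mul_comm]
        rfl
    · rintro ⟨x, hx⟩
      have hx' : x ∈ Submodule.span Qx.Ring (algebraMap P.Ring Qx.Ring '' P.ker) := hker hx
      clear hker
      suffices Submodule.span Qx.Ring (algebraMap P.Ring Qx.Ring '' P.ker) ≤
          Submodule.map Qx.ker.subtype (LinearMap.range ((f.mapKer rfl).liftBaseChange Qx.Ring)) by
        obtain ⟨y, ⟨z, rfl⟩, hy⟩ := this hx'
        exact ⟨z, Subtype.ext hy⟩
      rw [Submodule.span_le]
      rintro _ ⟨i, hi, rfl⟩
      exact ⟨f.mapKer rfl ⟨i, hi⟩, ⟨1 ⊗ₜ ⟨i, hi⟩, by simp⟩, rfl⟩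
  have : Subsingleton (H1Cotangent A C) := inferInstance
  have hQ := Qx.cotangentComplex_injective_iff.2 this
  have comm : (Extension.CotangentSpace.map f).liftBaseChange C ∘ₗ P.cotangentComplex.baseChange C =
      Qx.cotangentComplex ∘ₗ (Extension.Cotangent.map f).liftBaseChange C := by
    ext x
    obtain ⟨x, rfl⟩ := Extension.Cotangent.mk_surjective x
    simp
  refine subsingleton_of_forall_eq (0 : C ⊗[B] P.H1Cotangent) fun z => ?_
  refine Module.Flat.lTensor_preserves_injective_linearMap (M := C) _
    Extension.h1Cotangentι_injective ?_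
  refine (Extension.tensorCotangent f rfl H).injective (hQ ?_)
  rw [map_zero, map_zero, map_zero]
  change (Qx.cotangentComplex ∘ₗ (Extension.Cotangent.map f).liftBaseChange C)
    (Extension.h1Cotangentι.baseChange C z) = 0
  rw [← comm, LinearMap.comp_apply, ← LinearMap.comp_apply (P.cotangentComplex.baseChange C),
    ← LinearMap.baseChange_comp]
  convert map_zero ((Extension.CotangentSpace.map f).liftBaseChange C)
  have : P.cotangentComplex ∘ₗ Extension.h1Cotangentι = 0 := LinearMap.ext fun w => w.2
  rw [this, LinearMap.baseChange_zero, LinearMap.zero_apply]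

end H1

section Main

variable (A B C : Type u) [CommRing A] [CommRing B] [CommRing C] [Algebra A B] [Algebra B C]
  [Algebra A C] [IsScalarTower A B C] [Module.FaithfullyFlat B C] [Algebra.Smooth B C]

theorem subsingleton_h1Cotangent_of_smooth_faithfullyFlat [Algebra.FormallySmooth A C] :
    Subsingleton (Algebra.H1Cotangent A B) := by
  obtain ⟨s, hs, hs'⟩ := Algebra.Smooth.exists_span_eq_top_isStandardSmooth B C
  suffices Subsingleton (C ⊗[B] Algebra.H1Cotangent A B) from
    Module.FaithfullyFlat.lTensor_reflects_triviality B C _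
  refine subsingleton_of_forall_eq 0 fun z => ?_
  refine Module.eq_of_isLocalized_span s hs _
    (fun r => TensorProduct.mk C (Localization.Away (r : C)) (C ⊗[B] Algebra.H1Cotangent A B) 1)
    _ _ fun r => ?_
  have := hs' r r.2
  have : Algebra.FormallySmooth A (Localization.Away (r : C)) :=
    .comp A C _
  have := subsingleton_tensor_h1Cotangent_of_standardSmooth A B (Localization.Away (r : C))
  have : Subsingleton (Localization.Away (r : C) ⊗[C] (C ⊗[B] Algebra.H1Cotangent A B)) :=
    (TensorProduct.AlgebraTensorModule.cancelBaseChange B C (Localization.Away (r : C))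
      (Localization.Away (r : C)) _).toEquiv.subsingleton
  exact Subsingleton.elim _ _

/-- Smoothness descends along smooth faithfully flat extensions of the source. -/
theorem smooth_of_smooth_faithfullyFlat [Algebra.Smooth A C] : Algebra.Smooth A B := by
  have hfp : Algebra.FinitePresentation A B := finitePresentation_of_smooth_faithfullyFlat A B C
  refine ⟨?_, hfp⟩
  rw [Algebra.formallySmooth_iff]
  refine ⟨?_, subsingleton_h1Cotangent_of_smooth_faithfullyFlat A B C⟩
  have hinj : Function.Injective (KaehlerDifferential.mapBaseChange A B C) := by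
    rw [injective_iff_map_eq_zero]
    intro x hx
    obtain ⟨x, rfl⟩ := (Algebra.H1Cotangent.exact_δ_mapBaseChange A B C x).mp hx
    rw [Subsingleton.elim x 0, map_zero]
  obtain ⟨-, l, hl⟩ :=
    ((KaehlerDifferential.exact_mapBaseChange_map A B C).split_tfae'.out 0 1 rfl rfl).mp
      ⟨hinj, Module.projective_lifting_property _ _ (KaehlerDifferential.map_surjective A B C)⟩
  have : Module.Projective C (C ⊗[B] Ω[B⁄A]) := Module.Projective.of_split _ l hl
  have : Module.Flat B Ω[B⁄A] := Module.Flat.of_flat_tensorProduct _ _ C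
  exact Module.Flat.projective_of_finitePresentation

end Main

end Groth.Agent.AlgSpDescent
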