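import Groth.Agent.Lib.AlgSpDescent.FormallyLift
import Groth.Agent.Lib.AlgSpace.Atlas
import Groth.Agent.Lib.AlgSpace.Base

/-!
# Lifting along first order thickenings of algebraic spaces
-/

universe u

set_option backward.isDefEq.respectTransparency.types false

open CategoryTheory CategoryTheory.Limits AlgebraicGeometry Opposite MorphismProperty

namespace Groth.Agent.AlgSpDescent

open AlgSp Groth.Agent.AlgSpace Groth.Agent.AlgSpDecent

variable {S : Scheme.{u}} {T T' X Y : Sp S} {j : T ⟶ T'} {f : X ⟶ Y} {a : T ⟶ X} {b : T' ⟶ Y}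

/-- The closed immersion of the spectrum of a quotient over `S`. -/
noncomputable abbrev quotArrow {A : CommRingCat.{u}} (I : Ideal A) (str : Spec A ⟶ S) :
    Over.mk (Spec.map (CommRingCat.ofHom (Ideal.Quotient.mk I)) ≫ str) ⟶ Over.mk str :=
  Over.homMk (Spec.map (CommRingCat.ofHom (Ideal.Quotient.mk I))) rfl

/-- An ideal cutting out a closed subscheme of an affine scheme with square-zero kernel squares to
zero. -/
theorem sq_eq_bot_of_ker {A : CommRingCat.{u}} (I : Ideal A)
    (h : sqZero (Spec.map (CommRingCat.ofHom (Ideal.Quotient.mk I)))) : I ^ 2 = ⊥ := by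
  let φ := CommRingCat.ofHom (Ideal.Quotient.mk I)
  have h' : RingHom.ker (Spec.map φ).appTop.hom * RingHom.ker (Spec.map φ).appTop.hom = ⊥ := by
    have h₀ : (Spec.map φ).ker.ideal ⟨⊤, isAffineOpen_top _⟩ =
        RingHom.ker (Spec.map φ).appTop.hom :=
      Scheme.Hom.ker_apply (Spec.map φ) ⟨⊤, isAffineOpen_top _⟩
    rw [← h₀, ← Pi.mul_apply, ← Scheme.IdealSheafData.ideal_mul, h]
    rfl
  have key : ∀ i ∈ I, (Scheme.ΓSpecIso A).inv i ∈ RingHom.ker (Spec.map φ).appTop.hom := fun i hi => by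
    rw [RingHom.mem_ker, ← ConcreteCategory.comp_apply, ← Scheme.ΓSpecIso_inv_naturality,
      ConcreteCategory.comp_apply]
    change (Scheme.ΓSpecIso (CommRingCat.of (A ⧸ I))).inv (Ideal.Quotient.mk I i) = 0
    rw [Ideal.Quotient.eq_zero_iff_mem.2 hi, map_zero]
  rw [pow_two, eq_bot_iff, Ideal.mul_le]
  intro i hi k hk
  have h0 := Ideal.mul_mem_mul (key i hi) (key k hk)
  rw [h', Ideal.mem_bot, ← map_mul] at h0
  rw [Ideal.mem_bot]
  exact (map_eq_zero_iff _ (Scheme.ΓSpecIso A).symm.commRingCatIsoToRingEquiv.injective).1 h0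

/-- On affine charts a closed subspace is a quotient. -/
theorem exists_closed_chart (hj : RepWith @IsClosedImmersion j) {U : Over S}
    (q : (yon S).obj U ⟶ T') (p : U.left) :
    ∃ (A : CommRingCat.{u}) (I : Ideal A) (str : Spec A ⟶ S) (g : Over.mk str ⟶ U)
      (t : (yon S).obj (Over.mk (Spec.map (CommRingCat.ofHom (Ideal.Quotient.mk I)) ≫ str)) ⟶ T),
      IsOpenImmersion g.left ∧ p ∈ Set.range g.left ∧
      IsPullback t ((yon S).map (quotArrow I str)) j ((yon S).map g ≫ q) := by
  obtain ⟨O, hO, hpO, -⟩ :=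
    exists_isAffineOpen_mem_and_subset (X := U.left) (x := p) (U := ⊤) trivial
  let str : Spec Γ(U.left, O) ⟶ S := hO.fromSpec ≫ U.hom
  let g : Over.mk str ⟶ U := Over.homMk hO.fromSpec rfl
  have hg : IsOpenImmersion g.left := inferInstanceAs (IsOpenImmersion hO.fromSpec)
  have sq := hj.1.isPullback ((yon S).map g ≫ q)
  have hci : IsClosedImmersion (hj.1.snd ((yon S).map g ≫ q)).left := hj.2 _ _ _ sq
  obtain ⟨I, e, he⟩ := IsClosedImmersion.Spec_iff.1 hci
  let e₀ : Over.mk (Spec.map (CommRingCat.ofHom (Ideal.Quotient.mk I)) ≫ str) ≅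
      hj.1.pullback ((yon S).map g ≫ q) :=
    Over.isoMk e.symm (by
      rw [← Over.w (hj.1.snd ((yon S).map g ≫ q)), he, Category.assoc, Iso.symm_hom,
        Iso.inv_hom_id_assoc]
      rfl)
  have he₀ : e₀.hom ≫ hj.1.snd ((yon S).map g ≫ q) = quotArrow I str :=
    Over.OverMorphism.ext (by
      change e.inv ≫ (hj.1.snd ((yon S).map g ≫ q)).left = _
      rw [he, Iso.inv_hom_id_assoc]
      rfl)
  refine ⟨_, I, str, g, (yon S).map e₀.hom ≫ hj.1.fst ((yon S).map g ≫ q), hg, ?_, ?_⟩
  · change p ∈ Set.range hO.fromSpec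
    rw [hO.range_fromSpec]
    exact hpO
  · refine IsPullback.of_iso sq ((yon S).mapIso e₀.symm) (Iso.refl _) (Iso.refl _) (Iso.refl _)
      ?_ ?_ (by simp) (by simp)
    · simp [← Functor.map_comp_assoc]
    · simp [← Functor.map_comp, ← he₀]

/-- On affine étale charts a first order thickening of spaces is a square-zero quotient. -/
theorem exists_thick_chart (hj : IsFOThickMor j) {U : Over S} {q : (yon S).obj U ⟶ T'}
    (hq : RepWith @Etale q) (p : U.left) :
    ∃ (A : CommRingCat.{u}) (I : Ideal A) (_ : I ^ 2 = ⊥) (str : Spec A ⟶ S) (g : Over.mk str ⟶ U)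
      (t : (yon S).obj (Over.mk (Spec.map (CommRingCat.ofHom (Ideal.Quotient.mk I)) ≫ str)) ⟶ T),
      IsOpenImmersion g.left ∧ p ∈ Set.range g.left ∧
      IsPullback t ((yon S).map (quotArrow I str)) j ((yon S).map g ≫ q) := by
  obtain ⟨A, I, str, g, t, hg, hp, sq⟩ :=
    exists_closed_chart (repWith_mono (fun _ _ _ h => h.1) hj.1) q p
  have hker : sqZero (quotArrow I str).left := hj.2 _ _ _ (inferInstanceAs (IsAffine (Spec A)))
    (repWith_comp ((repWith_yon_map_iff @Etale g).2 inferInstance) hq) sq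
  exact ⟨A, I, sq_eq_bot_of_ker I hker, str, g, t, hg, hp, sq⟩

variable (j f a b) in
/-- A map on a scheme over the thickened space which lifts the given square. -/
def LiftAt {V : Over S} (k : (yon S).obj V ⟶ T') (m : (yon S).obj V ⟶ X) : Prop :=
  (∀ (W : Over S) (q : W ⟶ V) (p : (yon S).obj W ⟶ T), p ≫ j = (yon S).map q ≫ k →
    (yon S).map q ≫ m = p ≫ a) ∧ m ≫ f = k ≫ b

theorem LiftAt.comp {V V' : Over S} {k : (yon S).obj V ⟶ T'} {m : (yon S).obj V ⟶ X}
    (h : LiftAt j f a b k m) (x : V' ⟶ V) :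
    LiftAt j f a b ((yon S).map x ≫ k) ((yon S).map x ≫ m) :=
  ⟨fun W q p e => by
    rw [← Functor.map_comp_assoc]
    exact h.1 W (q ≫ x) p (by rw [e, Functor.map_comp_assoc]),
  by rw [Category.assoc, h.2, Category.assoc]⟩

theorem liftAt_comp_left {V : Over S} (k : (yon S).obj V ⟶ T') {l : T' ⟶ X} (h₁ : j ≫ l = a)
    (h₂ : l ≫ f = b) : LiftAt j f a b k (k ≫ l) :=
  ⟨fun W q p e => by rw [← reassoc_of% e, h₁], by rw [Category.assoc, h₂]⟩

section

variable (hf : IsFormallyUnramifiedMor f) (hj : IsFOThickMor j) (w : a ≫ f = j ≫ b)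
  {U : Over S} {q : (yon S).obj U ⟶ T'} (hq : RepWith @Etale q)
include hf hj w hq

/-- Lifts on schemes over the atlas are unique. -/
theorem liftAt_unique {V : Over S} (x : V ⟶ U) {m m' : (yon S).obj V ⟶ X}
    (h : LiftAt j f a b ((yon S).map x ≫ q) m) (h' : LiftAt j f a b ((yon S).map x ≫ q) m') :
    m = m' := by
  refine eq_of_etale_nbhds fun v => ?_
  obtain ⟨A, I, hI, str, g, t, hg, ⟨z, hz⟩, sqc⟩ := exists_thick_chart hj hq (x.left v)
  have sqv := IsPullback.of_hasPullback x g
  obtain ⟨z', hz', -⟩ :=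
    Scheme.exists_preimage_of_isPullback (sqv.map (Over.forget S)) v z hz.symm
  refine ⟨Limits.pullback x g, pullback.fst _ _, ?_, ⟨z', hz'⟩, ?_⟩
  · exact MorphismProperty.of_isPullback (P := @Etale) (sqv.flip.map (Over.forget S))
      (inferInstanceAs (Etale g.left))
  have hk : (yon S).map (pullback.fst x g) ≫ (yon S).map x ≫ q =
      (yon S).map (pullback.snd x g) ≫ (yon S).map g ≫ q := by
    rw [← Functor.map_comp_assoc, pullback.condition, Functor.map_comp_assoc]
  let sq : InfSq f := ⟨A, I, hI, str, t ≫ a, (yon S).map g ≫ q ≫ b, by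
    rw [Category.assoc, w, reassoc_of% sqc.w]⟩
  have key : ∀ n : (yon S).obj V ⟶ X, LiftAt j f a b ((yon S).map x ≫ q) n →
      RestrTo sq (pullback.snd x g) ((yon S).map (pullback.fst x g) ≫ n) := fun n hn W p r e => by
    have e' : (yon S).map p ≫ (yon S).map (quotArrow I str) =
        (yon S).map r ≫ (yon S).map (pullback.snd x g) := by
      rw [← Functor.map_comp, ← Functor.map_comp]
      exact congrArg _ e
    have h1 := (hn.comp (pullback.fst x g)).1 W r ((yon S).map p ≫ t) (by
      rw [hk, Category.assoc, sqc.w, reassoc_of% e'])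
    exact h1.trans (Category.assoc _ _ _)
  refine eq_of_formallyUnramified hf sq (pullback.snd x g) (key m h) (key m' h') ?_ ?_
  · rw [Category.assoc, h.2, Category.assoc]
    exact (reassoc_of% hk) b
  · rw [Category.assoc, h'.2, Category.assoc]
    exact (reassoc_of% hk) b

end

/-- Formally unramified morphisms have at most one lift along first order thickenings of spaces. -/
theorem eq_of_thick (hf : IsFormallyUnramifiedMor f) (hj : IsFOThickMor j) (hT' : IsAlgSpace T')
    (w : a ≫ f = j ≫ b) {l l' : T' ⟶ X} (h₁ : j ≫ l = a) (h₂ : l ≫ f = b) (h₁' : j ≫ l' = a)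
    (h₂' : l' ≫ f = b) : l = l' := by
  obtain ⟨U, q, hq, hqs⟩ := hT'.atlas
  have : Sheaf.IsLocallySurjective q := isLocallySurjective_of_etale hq hqs
  rw [← cancel_epi q]
  refine liftAt_unique (a := a) (b := b) hf hj w hq (𝟙 U) ?_ ?_
  · rw [(yon S).map_id, Category.id_comp]; exact liftAt_comp_left q h₁ h₂
  · rw [(yon S).map_id, Category.id_comp]; exact liftAt_comp_left q h₁' h₂'

/-- Lifts along first order thickenings of spaces exist uniquely if they are unique and exist on
affine charts. -/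
theorem existsUnique_thick_of_local (hu : IsFormallyUnramifiedMor f) (hj : IsFOThickMor j)
    (hT' : IsAlgSpace T') (w : a ≫ f = j ≫ b)
    (H : ∀ (A : CommRingCat.{u}) (I : Ideal A), I ^ 2 = ⊥ → ∀ (str : Spec A ⟶ S)
      (t : (yon S).obj (Over.mk (Spec.map (CommRingCat.ofHom (Ideal.Quotient.mk I)) ≫ str)) ⟶ T)
      (k : (yon S).obj (Over.mk str) ⟶ T'), (yon S).map (quotArrow I str) ≫ k = t ≫ j →
      ∃ n : (yon S).obj (Over.mk str) ⟶ X,
        (yon S).map (quotArrow I str) ≫ n = t ≫ a ∧ n ≫ f = k ≫ b) :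
    ∃! l : T' ⟶ X, j ≫ l = a ∧ l ≫ f = b := by
  obtain ⟨U, q, hq, hqs⟩ := hT'.atlas
  have : Sheaf.IsLocallySurjective q := isLocallySurjective_of_etale hq hqs
  choose A I hI str g t hg hp sqc using fun p : U.left => exists_thick_chart hj hq p
  choose n hn1 hn2 using fun p =>
    H (A p) (I p) (hI p) (str p) (t p) ((yon S).map (g p) ≫ q) (sqc p).w.symm
  have hn : ∀ p, LiftAt j f a b ((yon S).map (g p) ≫ q) (n p) := fun p => by
    refine ⟨fun W r k e => ?_, hn2 p⟩
    obtain ⟨s, hs⟩ := (yon S).map_surjective ((sqc p).lift k ((yon S).map r) e)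
    have e₁ : (yon S).map s ≫ t p = k := by rw [hs]; exact (sqc p).lift_fst _ _ _
    have e₂ : s ≫ quotArrow (I p) (str p) = r := (yon S).map_injective (by
      rw [Functor.map_comp, hs]; exact (sqc p).lift_snd _ _ _)
    rw [← e₂, ← e₁, Functor.map_comp_assoc, Category.assoc]
    exact congrArg ((yon S).map s ≫ ·) (hn1 p)
  obtain ⟨m, hm⟩ := exists_glue_etale _ g (fun p => by have := hg p; infer_instance)
    (fun p => ⟨p, hp p⟩) n fun i k V x y e => by
      have h1 := (hn i).comp x
      have h2 := (hn k).comp y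
      rw [← Functor.map_comp_assoc] at h1 h2
      rw [← e] at h2
      exact liftAt_unique hu hj w hq _ h1 h2
  have hmq : LiftAt j f a b q m := by
    refine ⟨fun W r k e => eq_of_etale_nbhds fun v => ?_, eq_of_etale_nbhds fun p =>
      ⟨_, g p, inferInstanceAs (Etale (g p).left), hp p, by rw [← Category.assoc, hm p, (hn p).2, Category.assoc]⟩⟩
    obtain ⟨z, hz⟩ := hp (r.left v)
    have sqv := IsPullback.of_hasPullback r (g (r.left v))
    obtain ⟨z', hz', -⟩ :=
      Scheme.exists_preimage_of_isPullback (sqv.map (Over.forget S)) v z hz.symm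
    refine ⟨_, pullback.fst r (g (r.left v)), MorphismProperty.of_isPullback (P := @Etale)
      (sqv.flip.map (Over.forget S)) (inferInstanceAs (Etale (g (r.left v)).left)), ⟨z', hz'⟩, ?_⟩
    rw [← Functor.map_comp_assoc, pullback.condition, Functor.map_comp_assoc, hm,
      (hn _).1 _ (pullback.snd r (g (r.left v))) ((yon S).map (pullback.fst r (g (r.left v))) ≫ k) (by
        rw [Category.assoc, e, ← Functor.map_comp_assoc, pullback.condition,
          Functor.map_comp_assoc]), Category.assoc]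
  have hrep := hq.1
  have kp := hrep.isPullback q
  obtain ⟨s, hs⟩ := (yon S).map_surjective (hrep.fst q)
  rw [← hs] at kp
  obtain ⟨c⟩ := nonempty_isColimit_cofork q kp
  have hst : (yon S).map s ≫ m = (yon S).map (hrep.snd q) ≫ m :=
    liftAt_unique hu hj w hq (hrep.snd q) (kp.w ▸ hmq.comp s) (hmq.comp (hrep.snd q))
  obtain ⟨L, hL⟩ := Cofork.IsColimit.desc' c m hst
  change q ≫ L = m at hL
  have hLb : L ≫ f = b := by rw [← cancel_epi q, reassoc_of% hL]; exact hmq.2
  refine ⟨L, ⟨?_, hLb⟩, fun L' hL' => ?_⟩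
  · have sqj := hj.1.1.isPullback q
    have hpe : RepWith @Etale (hj.1.1.fst q) := repWith_of_isPullback sqj.flip hq
    have hps : RepWith @Surjective (hj.1.1.fst q) := repWith_of_isPullback sqj.flip hqs
    have : Sheaf.IsLocallySurjective (hj.1.1.fst q) := isLocallySurjective_of_etale hpe hps
    rw [← cancel_epi (hj.1.1.fst q), reassoc_of% sqj.w, hL]
    exact hmq.1 _ _ _ sqj.w
  · rw [← cancel_epi q, hL]
    exact liftAt_unique hu hj w hq (𝟙 U) (m := q ≫ L') (m' := m)
      (by rw [(yon S).map_id, Category.id_comp]; exact liftAt_comp_left q hL'.1 hL'.2)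
      (by rw [(yon S).map_id, Category.id_comp]; exact hmq)

/-- Formally étale morphisms lift uniquely along first order thickenings of spaces. -/
theorem existsUnique_thick (hf : IsFormallyEtaleMor f) (hj : IsFOThickMor j) (hT' : IsAlgSpace T')
    (w : a ≫ f = j ≫ b) : ∃! l : T' ⟶ X, j ≫ l = a ∧ l ≫ f = b :=
  existsUnique_thick_of_local (formallyEtale_iff.1 hf).2 hj hT' w fun A I hI str t k e =>
    (hf ⟨A, I, hI, str, t ≫ a, k ≫ b, by rw [Category.assoc, w, ← reassoc_of% e]⟩).exists

end Groth.Agent.AlgSpDescent
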