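import Groth.Agent.Lib.AlgSpDescent.Instances
import Groth.Agent.Lib.AlgSpace.Points

/-!
# Composites, and locality on the source, of properties defined étale locally
-/

universe u

set_option backward.isDefEq.respectTransparency.types false

open CategoryTheory CategoryTheory.Limits AlgebraicGeometry Opposite MorphismProperty

namespace Groth.Agent.AlgSpDescent

open AlgSp Groth.Agent.AlgSpace Groth.Agent.AlgSpDecent

variable {S : Scheme.{u}}

/-- Composites, after base change to schemes. -/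
theorem bc_comp {P₁ P₂ P₃ : MorphismProperty Scheme.{u}}
    (hcomp : ∀ ⦃A B C : Scheme.{u}⦄ (a : A ⟶ B) (b : B ⟶ C), P₁ a → P₂ b → P₃ (a ≫ b))
    (hsrc : DescendsEtaleSource P₃) {X Y Z : Sp S} (hY : IsAlgSpace Y) (hZ : IsAlgSpace Z)
    {g : X ⟶ Y} {f : Y ⟶ Z} (hg : BC P₁ g) (hf : BC P₂ f) : BC P₃ (g ≫ f) := by
  intro T X' t fst snd sq U φ h hφ hh
  have sqY := IsPullback.of_hasPullback f t
  let m := sqY.lift (fst ≫ g) snd (by rw [Category.assoc]; exact sq.w)
  have sqm : IsPullback fst m g (pullback.fst f t) :=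
    IsPullback.of_bot (by simpa [m] using sq) (by simp [m]) sqY
  obtain ⟨W, w, hwe, hws⟩ := (isAlgSpace_pullback hZ hY (IsAlgSpace.yon_obj T) sqY).atlas
  have sqU := hwe.1.isPullback (φ ≫ m)
  let ν := hwe.1.snd (φ ≫ m)
  have hνe : Etale ν.left := hwe.2 _ _ _ sqU
  have hνs : Surjective ν.left := hws.2 _ _ _ sqU
  let ω := (yon S).preimage (hwe.1.fst (φ ≫ m))
  have sqW := IsPullback.of_hasPullback m w
  let ψ := sqW.lift ((yon S).map ν ≫ φ) (hwe.1.fst (φ ≫ m))
    (by rw [Category.assoc]; exact sqU.w.symm)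
  have hψ : RepWith @Etale ψ := by
    refine repWith_of_isPullback (a := (yon S).map ν) (b := pullback.fst m w) ?_ hφ
    exact IsPullback.of_bot (by simpa [ψ, ν] using sqU.flip |>.flip |>.flip) (by simp [ψ]) sqW
  have h1 : P₁ ω.left := hg (w ≫ pullback.fst f t) (pullback.fst m w ≫ fst) (pullback.snd m w)
    (sqW.paste_horiz sqm) ψ ω hψ (by simp [ψ, ω])
  let k := (yon S).preimage (w ≫ pullback.snd f t)
  have h2 : P₂ k.left := hf t _ _ sqY w k hwe (by simp [k])
  have key : ν ≫ h = ω ≫ k := by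
    apply (yon S).map_injective
    have hw := sqU.w =≫ pullback.snd f t
    simp only [Category.assoc] at hw
    simp only [Functor.map_comp, ω, k, ν, Functor.map_preimage, hh]
    rw [hw]
    simp [m]
  apply hsrc ν.left h.left hνe hνs
  rw [← Over.comp_left, key, Over.comp_left]
  exact hcomp _ _ h1 h2

/-- A property can be checked after composing with a jointly surjective family with property `K`,
when it descends along surjections with property `K`. -/
theorem bc_of_comp {P K : MorphismProperty Scheme.{u}} [IsZariskiLocalAtSource P]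
    [IsZariskiLocalAtSource K]
    (hsrc : ∀ ⦃A B C : Scheme.{u}⦄ (a : A ⟶ B) (b : B ⟶ C), K a → Surjective a → P (a ≫ b) → P b)
    {ι : Type u} {X Y : Sp S} (hX : IsAlgSpace X) {Xi : ι → Sp S} (hXi : ∀ i, IsAlgSpace (Xi i))
    {g : ∀ i, Xi i ⟶ X} (hK : ∀ i, BC K (g i))
    (hsurj : ∀ x : Points X, ∃ i, x ∈ Set.range (Points.map (g i)))
    {f : X ⟶ Y} (hf : ∀ i, BC P (g i ≫ f)) : BC P f := by
  intro T X' t fst snd sq U φ h hφ hh
  have sqi := fun i => IsPullback.of_hasPullback (g i) (φ ≫ fst)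
  have hA := fun i => isAlgSpace_pullback hX (hXi i) (IsAlgSpace.yon_obj U) (sqi i)
  choose A a hae has using fun i => (hA i).atlas
  let k := fun i => (yon S).preimage (a i ≫ pullback.snd (g i) (φ ≫ fst))
  have hk : ∀ i, K (k i).left := fun i =>
    hK i (φ ≫ fst) _ _ (sqi i) (a i) (k i) (hae i) (by simp [k])
  have hcomp : ∀ i, P ((k i).left ≫ h.left) := by
    intro i
    have sqT := IsPullback.of_hasPullback (g i) fst
    let ρ : Limits.pullback (g i) (φ ≫ fst) ⟶ Limits.pullback (g i) fst := sqT.lift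
      (pullback.fst (g i) (φ ≫ fst)) (pullback.snd (g i) (φ ≫ fst) ≫ φ)
      (by rw [(sqi i).w, Category.assoc])
    have hρ : RepWith @Etale (a i ≫ ρ) := by
      refine repWith_comp (hae i) (repWith_of_isPullback (a := pullback.snd (g i) (φ ≫ fst))
        (b := pullback.snd (g i) fst) ?_ hφ)
      exact (IsPullback.of_right (h₁₁ := ρ) (by simpa [ρ] using (sqi i)) (by simp [ρ]) sqT).flip
    exact hf i t (pullback.fst (g i) fst) (pullback.snd (g i) fst ≫ snd) (sqT.paste_vert sq)
      (a i ≫ ρ) (k i ≫ h) hρ (by simp [k, ρ, hh])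
  let d := Sigma.desc fun i => (k i).left
  have hd : K d := IsZariskiLocalAtSource.sigmaDesc hk
  have hds : Surjective d := by
    refine Surjective.sigmaDesc_of_union_range_eq_univ (Set.eq_univ_iff_forall.2 fun u => ?_)
    obtain ⟨i, x, hx⟩ := hsurj (Points.ofPt (φ ≫ fst) u)
    obtain ⟨w, -, hw⟩ := exists_point_lift (sqi i) x (Points.ofScheme U u)
      (by rw [← Points.ofPt_eq_map_ofScheme]; exact hx)
    obtain ⟨v, rfl⟩ := surjective_ofPt (has i) w
    refine Set.mem_iUnion.2 ⟨i, v, (Points.schemeEquiv U).injective ?_⟩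
    rw [Points.map_ofPt] at hw
    change Points.ofScheme U ((k i).left v) = Points.ofScheme U u
    rw [← ofPt_map_eq, ← hw]
    simp [k]
  refine hsrc d h.left hd hds ?_
  have : d ≫ h.left = Sigma.desc fun i => (k i).left ≫ h.left := by
    apply Sigma.hom_ext; intro i; simp [d]
  rw [this]
  exact IsZariskiLocalAtSource.sigmaDesc hcomp

/-- An fpqc covering is surjective on points. -/
theorem surjective_of_isFpqcCover {ι : Type u} {X : Sp S} {Xi : ι → Sp S} {g : ∀ i, Xi i ⟶ X}
    (hg : IsFpqcCover Xi g) (x : Points X) : ∃ i, x ∈ Set.range (Points.map (g i)) := by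
  induction x using Points.ind with
  | h p =>
    obtain ⟨m, W, c, -, -, hcs, hl⟩ := hg.2 p.pt (inferInstanceAs (IsAffine (Spec (CommRingCat.of p.K))))
      p.toHom
    obtain ⟨j, w, hw⟩ := hcs (IsLocalRing.closedPoint p.K)
    obtain ⟨i, l, hli⟩ := hl j
    refine ⟨i, Points.ofPt l w, ?_⟩
    rw [Points.map_ofPt, hli, ofPt_map_comp]
    exact Points.ofPt_toHom p _

/-- Locality on the source from composites and descent. -/
theorem isLocalOnSource_locP {P K : MorphismProperty Scheme.{u}} [P.IsStableUnderBaseChange]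
    [IsZariskiLocalAtTarget P] [P.DescendsAlong (@Surjective ⊓ @Flat ⊓ @QuasiCompact)]
    [IsZariskiLocalAtSource P] [IsZariskiLocalAtSource K] [K.IsStableUnderBaseChange]
    [IsZariskiLocalAtTarget K] [K.DescendsAlong (@Surjective ⊓ @Flat ⊓ @QuasiCompact)]
    (hpreP : PrecompEtale P) (hsrcP : DescendsEtaleSource P) (hpreK : PrecompEtale K)
    (hsrcK : DescendsEtaleSource K)
    (hcomp : ∀ ⦃A B C : Scheme.{u}⦄ (a : A ⟶ B) (b : B ⟶ C), K a → P b → P (a ≫ b))
    (hsrc : ∀ ⦃A B C : Scheme.{u}⦄ (a : A ⟶ B) (b : B ⟶ C), K a → Surjective a → P (a ≫ b) → P b)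
    {τ : CovNotion S}
    (hτ : ∀ ⦃ι : Type u⦄ ⦃X : Sp S⦄ (Xi : ι → Sp S) (g : ∀ i, Xi i ⟶ X), IsAlgSpace X →
      (∀ i, IsAlgSpace (Xi i)) → τ Xi g →
        (∀ i, LocP K (g i)) ∧ ∀ x : Points X, ∃ i, x ∈ Set.range (Points.map (g i))) :
    IsLocalOnSource τ (LocP P) := by
  intro ι X Xi g hX hXi hg Y f hY
  obtain ⟨hK, hsurj⟩ := hτ Xi g hX hXi hg
  have hK' := fun i => bc_of_locP hpreK hsrcK (hXi i) hX (hK i)
  exact ⟨fun hf i => locP_of_bc
      (bc_comp hcomp hsrcP hX hY (hK' i) (bc_of_locP hpreP hsrcP hX hY hf)),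
    fun hf => locP_of_bc (bc_of_comp hsrc hX hXi hK' hsurj
      fun i => bc_of_locP hpreP hsrcP (hXi i) hY (hf i))⟩

end Groth.Agent.AlgSpDescent
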