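import Groth.Agent.Lib.AlgSpDescent.Covers
import Groth.Agent.Lib.AlgSpace.LocP
import Mathlib.AlgebraicGeometry.Sites.Fpqc
import Mathlib.AlgebraicGeometry.Sites.Etale
import Mathlib.CategoryTheory.MorphismProperty.Local

/-!
# Properties local on the source for schemes give properties local on the source for spaces
-/

universe u

set_option backward.isDefEq.respectTransparency.types false

open CategoryTheory CategoryTheory.Limits AlgebraicGeometry Opposite MorphismProperty

namespace Groth.Agent.AlgSpDescent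

open AlgSp Groth.Agent.AlgSpace Groth.Agent.AlgSpDecent

variable {S : Scheme.{u}}

/-- The transfer of locality on the source from schemes to spaces. -/
theorem isLocalOnSource_locP_of_local {P K : MorphismProperty Scheme.{u}}
    {κ : Precoverage Scheme.{u}} [P.IsLocalAtSource κ] {τ : CovNotion S}
    (hpair : ∀ ⦃W X : Scheme.{u}⦄ (k : W ⟶ X), K k → ∃ R ∈ κ X, R k)
    (het : ∀ ⦃W X : Scheme.{u}⦄ (k : W ⟶ X), Etale k → Surjective k → Presieve.singleton k ∈ κ X)
    (hK : ∀ ⦃ι : Type u⦄ ⦃X : Sp S⦄ (Xi : ι → Sp S) (g : ∀ i, Xi i ⟶ X), IsAlgSpace X →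
      (∀ i, IsAlgSpace (Xi i)) → τ Xi g → ∀ i, LocP K (g i))
    (hcov : ∀ ⦃ι : Type u⦄ ⦃X : Sp S⦄ (Xi : ι → Sp S) (g : ∀ i, Xi i ⟶ X), IsAlgSpace X →
      (∀ i, IsAlgSpace (Xi i)) → τ Xi g → ∀ {U : Over S} (a : (yon S).obj U ⟶ X) (A : ι → Over S)
      (r : ∀ i, (yon S).obj (A i) ⟶ pullback (g i) a) (c : ∀ i, A i ⟶ U),
        (∀ i, RepWith @Etale (r i)) → (∀ i, RepWith @Surjective (r i)) →
        (∀ i, (yon S).map (c i) = r i ≫ pullback.snd (g i) a) → (∀ i, K (c i).left) →
        Presieve.ofArrows (fun i => (A i).left) (fun i => (c i).left) ∈ κ U.left) :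
    IsLocalOnSource τ (LocP P) := by
  intro ι X Xi g hX hXi hg Y f hY
  constructor
  · intro hf i U V a b h ha hb w
    have sqV := IsPullback.of_hasPullback f b
    obtain ⟨A, α, hαe, hαs⟩ := (isAlgSpace_pullback hY hX (IsAlgSpace.yon_obj V) sqV).atlas
    let m := sqV.lift (a ≫ g i) ((yon S).map h) (by rw [Category.assoc]; exact w)
    have sqU := hαe.1.isPullback m
    have hse : Etale (hαe.1.snd m).left := hαe.2 m _ _ sqU
    have hss : Surjective (hαe.1.snd m).left := hαs.2 m _ _ sqU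
    obtain ⟨k, hk⟩ := (yon S).map_surjective (α ≫ pullback.snd f b)
    obtain ⟨l, hl⟩ := (yon S).map_surjective (hαe.1.fst m)
    have hc : RepWith @Etale (α ≫ pullback.fst f b) :=
      repWith_comp hαe (repWith_of_isPullback sqV.flip hb)
    have hKl : K l.left := hK Xi g hX hXi hg i ((yon S).map (hαe.1.snd m) ≫ a)
      (α ≫ pullback.fst f b) l (repWith_comp ((repWith_yon_map_iff _ _).2 hse) ha) hc (by
        rw [hl, ← Category.assoc (hαe.1.fst m), sqU.w]
        simp [m])
    have hPk : P k.left := hf (α ≫ pullback.fst f b) b k hc hb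
      (by rw [hk, Category.assoc, sqV.w, Category.assoc])
    obtain ⟨R, hR, hRl⟩ := hpair l.left hKl
    have hP := MorphismProperty.IsLocalAtSource.comp hR l.left hRl hPk
    have key : hαe.1.snd m ≫ h = l ≫ k := by
      apply (yon S).map_injective
      rw [Functor.map_comp, Functor.map_comp, hl, hk, ← Category.assoc (hαe.1.fst m), sqU.w]
      simp [m]
    refine MorphismProperty.IsLocalAtSource.of_forall_comp (het _ hse hss) ?_
    rintro _ _ ⟨⟩
    rw [← Over.comp_left, key, Over.comp_left]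
    exact hP
  · intro hf U V a b h ha hb w
    have hQ := fun i => isAlgSpace_pullback hX (hXi i) (IsAlgSpace.yon_obj U)
      (IsPullback.of_hasPullback (g i) a)
    choose A r hre hrs using fun i => (hQ i).atlas
    choose c hc using fun i => (yon S).map_surjective (r i ≫ pullback.snd (g i) a)
    have hl : ∀ i, RepWith @Etale (r i ≫ pullback.fst (g i) a) := fun i =>
      repWith_comp (hre i) (repWith_of_isPullback (IsPullback.of_hasPullback (g i) a).flip ha)
    have hKc : ∀ i, K (c i).left := fun i => hK Xi g hX hXi hg i _ a (c i) (hl i) ha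
      (by rw [hc, Category.assoc, Category.assoc, pullback.condition])
    refine MorphismProperty.IsLocalAtSource.of_forall_comp
      (hcov Xi g hX hXi hg a A r c hre hrs hc hKc) ?_
    rintro _ _ ⟨i⟩
    rw [← Over.comp_left]
    refine hf i (r i ≫ pullback.fst (g i) a) b (c i ≫ h) (hl i) hb ?_
    simp only [Functor.map_comp, hc, Category.assoc]
    rw [← w, pullback.condition_assoc]

/-- The family of atlases of the base changes of a jointly surjective family is jointly surjective. -/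
theorem exists_mem_range_of_chart {ι : Type u} {X : Sp S} {Xi : ι → Sp S} {g : ∀ i, Xi i ⟶ X}
    (hsurj : ∀ x : Points X, ∃ i, x ∈ Set.range (Points.map (g i))) {U : Over S}
    {a : (yon S).obj U ⟶ X} {A : ι → Over S} {r : ∀ i, (yon S).obj (A i) ⟶ pullback (g i) a}
    {c : ∀ i, A i ⟶ U} (hrs : ∀ i, RepWith @Surjective (r i))
    (hc : ∀ i, (yon S).map (c i) = r i ≫ pullback.snd (g i) a) (z : ↥U.left) :
    ∃ i, z ∈ Set.range (c i).left := by
  obtain ⟨i, x, hx⟩ := hsurj (Points.ofPt a z)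
  obtain ⟨w, -, hw⟩ := exists_point_lift (IsPullback.of_hasPullback (g i) a) x
    (Points.ofScheme U z) (by rw [← Points.ofPt_eq_map_ofScheme]; exact hx)
  obtain ⟨v, rfl⟩ := surjective_ofPt (hrs i) w
  refine ⟨i, v, (Points.schemeEquiv U).injective ?_⟩
  rw [Points.map_ofPt, ← hc, ofPt_map_eq] at hw
  exact hw

/-- The quasi-compactness of the cover of a scheme given by an fpqc covering of a space. -/
theorem ofArrows_mem_qcPrecoverage_of_isFpqcCover {ι : Type u} {X : Sp S} {Xi : ι → Sp S}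
    {g : ∀ i, Xi i ⟶ X} (hg : IsFpqcCover Xi g) {U : Over S} (a : (yon S).obj U ⟶ X)
    (A : ι → Over S) (r : ∀ i, (yon S).obj (A i) ⟶ pullback (g i) a) (c : ∀ i, A i ⟶ U)
    (hre : ∀ i, RepWith @Etale (r i)) (hrs : ∀ i, RepWith @Surjective (r i))
    (hc : ∀ i, (yon S).map (c i) = r i ≫ pullback.snd (g i) a) :
    Presieve.ofArrows (fun i => (A i).left) (fun i => (c i).left) ∈
      Scheme.qcPrecoverage U.left := by
  let E : PreZeroHypercover.{u} U.left := ⟨ι, fun i => (A i).left, fun i => (c i).left⟩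
  refine (Scheme.presieve₀_mem_qcPrecoverage_iff (E := E)).2 ⟨fun {O} hO => ?_⟩
  let Z : Over S := Over.mk (O.ι ≫ U.hom)
  let z : Z ⟶ U := Over.homMk O.ι rfl
  have : IsAffine Z.left := hO
  obtain ⟨m, W, d, hWa, -, hds, hl⟩ := hg.2 Z hO ((yon S).map z ≫ a)
  choose i l hl using hl
  let q := fun j => (IsPullback.of_hasPullback (g (i j)) a).lift (l j) ((yon S).map (d j ≫ z))
    (by rw [hl, Functor.map_comp, Category.assoc])
  have sq := fun j => (hre (i j)).1.isPullback (q j)
  have he : ∀ j, Surjective ((hre (i j)).1.snd (q j)).left := fun j => (hrs (i j)).2 _ _ _ (sq j)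
  have hee : ∀ j, Etale ((hre (i j)).1.snd (q j)).left := fun j => (hre (i j)).2 _ _ _ (sq j)
  choose α _ B hB hBs using fun j =>
    have := hWa j
    exists_affine_etale_surjective ((hre (i j)).1.snd (q j)).left
  choose e he' using fun j => (yon S).map_surjective ((hre (i j)).1.fst (q j))
  have key : ∀ j, e j ≫ c (i j) = (hre (i j)).1.snd (q j) ≫ d j ≫ z := fun j =>
    (yon S).map_injective (by
      rw [Functor.map_comp, he', hc, ← Category.assoc, (sq j).w, Category.assoc]
      simp [q])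
  let κ := Σ j, α j
  have key' : ∀ p : κ, ∀ x ∈ (B p.1 p.2 : Set _), (c (i p.1)).left ((e p.1).left x) ∈ O := by
    intro p x _
    rw [← Scheme.Hom.comp_apply, ← Over.comp_left, key]
    simp only [Over.comp_left, Scheme.Hom.comp_apply]
    exact ((d p.1).left _).2
  have hV : ∀ p : κ, ∃ V : (A (i p.1)).left.Opens, IsCompact (V : Set ↥(A (i p.1)).left) ∧
      (e p.1).left '' (B p.1 p.2 : Set _) ⊆ V ∧ (V : Set ↥(A (i p.1)).left) ⊆ (c (i p.1)).left ⁻¹' O := by
    intro p
    have hcp : IsCompact ((e p.1).left '' (B p.1 p.2 : Set _)) :=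
      (hB p.1 p.2).isCompact.image (e p.1).left.continuous
    let J := { U : (A (i p.1)).left.Opens // IsAffineOpen U ∧ U ≤ (c (i p.1)).left ⁻¹ᵁ O }
    obtain ⟨t, ht⟩ := hcp.elim_finite_subcover (fun U : J => (U.1 : Set ↥(A (i p.1)).left))
      (fun U => U.1.2) (by
        rintro _ ⟨x, hx, rfl⟩
        obtain ⟨U, hU, hxU, hUO⟩ := exists_isAffineOpen_mem_and_subset
          (U := (c (i p.1)).left ⁻¹ᵁ O) (key' p x hx)
        exact Set.mem_iUnion.2 ⟨⟨U, hU, hUO⟩, hxU⟩)
    refine ⟨⨆ U : { U // U ∈ t }, U.1.1, ?_, fun y hy => ?_, fun y hy => ?_⟩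
    · rw [TopologicalSpace.Opens.coe_iSup]
      exact isCompact_iUnion fun U => U.1.2.1.isCompact
    · obtain ⟨U, hU, hy⟩ := Set.mem_iUnion₂.1 (ht hy)
      exact TopologicalSpace.Opens.mem_iSup.2 ⟨⟨U, hU⟩, hy⟩
    · obtain ⟨U, hy⟩ := TopologicalSpace.Opens.mem_iSup.1 hy
      exact U.1.2.2 hy
  choose V hV1 hV2 hV3 using hV
  refine .of_finite (fun p : κ => i p.1) V hV1 (Set.Subset.antisymm ?_ ?_)
  · simp only [Set.iUnion_subset_iff]
    rintro p _ ⟨x, hx, rfl⟩
    exact hV3 p hx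
  · intro y hy
    obtain ⟨j, w, hw⟩ := hds ⟨y, hy⟩
    obtain ⟨s, hs⟩ := (hBs j).surj w
    obtain ⟨k, x, rfl⟩ : ∃ k x, (Sigma.ι (fun k => (B j k).toScheme) k) x = s :=
      (sigmaOpenCover (fun k => (B j k).toScheme)).exists_eq s
    rw [← Scheme.Hom.comp_apply, Sigma.ι_desc, Scheme.Hom.comp_apply] at hs
    refine Set.mem_iUnion.2 ⟨⟨j, k⟩, (e j).left ((B j k).ι x), hV2 ⟨j, k⟩ ⟨_, x.2, rfl⟩, ?_⟩
    change (c (i j)).left ((e j).left ((B j k).ι x)) = y
    rw [← Scheme.Hom.comp_apply (e j).left, ← Over.comp_left, key]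
    simp only [Over.comp_left, Scheme.Hom.comp_apply, hs, hw]
    rfl

theorem singleton_mem_of_etale {P : MorphismProperty Scheme.{u}}
    (hP : (@Etale : MorphismProperty Scheme.{u}) ≤ P) {W X : Scheme.{u}} (k : W ⟶ X) (hk : Etale k)
    (hs : Surjective k) : Presieve.singleton k ∈ Scheme.precoverage P X := by
  rw [← Presieve.ofArrows_pUnit.{0}]
  exact (Scheme.ofArrows_mem_precoverage_iff _).2 ⟨fun x => ⟨⟨⟩, hs.surj x⟩, fun _ => hP _ _ _ hk⟩

theorem exists_pair_mem {P : MorphismProperty Scheme.{u}} [P.ContainsIdentities] {W X : Scheme.{u}}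
    (k : W ⟶ X) (hk : P k) : ∃ R ∈ Scheme.precoverage P X, R k := by
  let F : PUnit.{u + 1} ⊕ PUnit.{u + 1} → Over X := Sum.elim (fun _ => Over.mk k) fun _ => Over.mk (𝟙 X)
  refine ⟨_, (Scheme.ofArrows_mem_precoverage_iff (X := fun i => (F i).left)
    (f := fun i => (F i).hom) _).2 ⟨fun x => ⟨.inr ⟨⟩, x, rfl⟩, ?_⟩,
    Presieve.ofArrows.mk (Sum.inl PUnit.unit)⟩
  rintro (i | i)
  · exact hk
  · exact P.id_mem X

theorem exists_pair_mem_fpqc {W X : Scheme.{u}} (k : W ⟶ X) (hk : Flat k) :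
    ∃ R ∈ Scheme.fpqcPrecoverage X, R k := by
  let F : PUnit.{u + 1} ⊕ PUnit.{u + 1} → Over X := Sum.elim (fun _ => Over.mk k) fun _ => Over.mk (𝟙 X)
  let E : PreZeroHypercover.{u} X := ⟨_, fun i => (F i).left, fun i => (F i).hom⟩
  refine ⟨E.presieve₀, ⟨Scheme.presieve₀_mem_qcPrecoverage_iff.2 ⟨fun {O} hO => ?_⟩,
    (Scheme.ofArrows_mem_precoverage_iff _).2 ⟨fun x => ⟨.inr ⟨⟩, x, rfl⟩, ?_⟩⟩,
    Presieve.ofArrows.mk (Sum.inl PUnit.unit)⟩
  · refine .of_finite (fun _ : PUnit.{1} => (Sum.inr ⟨⟩ : E.I₀)) (fun _ => O)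
      (fun _ => hO.isCompact) ?_
    rw [Set.iUnion_const]
    exact Set.image_id _
  · rintro (i | i)
    · exact hk
    · exact inferInstanceAs (Flat (𝟙 X))

/-- Locality on the source for fpqc coverings. -/
theorem isLocalOnSource_fpqc_of_local (P : MorphismProperty Scheme.{u})
    [P.IsLocalAtSource Scheme.fpqcPrecoverage] :
    IsLocalOnSource (IsFpqcCover (S := S)) (LocP P) :=
  isLocalOnSource_locP_of_local (K := @Flat) (κ := Scheme.fpqcPrecoverage)
    (fun _ _ k hk => exists_pair_mem_fpqc k hk)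
    (fun _ _ k hk hs => ⟨Scheme.precoverage_le_qcPrecoverage_of_isOpenMap
        (P := @Etale) (fun _ _ f hf => have : Etale f := hf; f.isOpenMap) _
        (singleton_mem_of_etale le_rfl k hk hs),
      singleton_mem_of_etale etale_le_flat' k hk hs⟩)
    (fun _ _ _ _ _ _ hg => hg.1)
    fun _ _ _ _ _ _ hg _ a A r c hre hrs hc hKc =>
      ⟨ofArrows_mem_qcPrecoverage_of_isFpqcCover hg a A r c hre hrs hc,
        (Scheme.ofArrows_mem_precoverage_iff _).2
          ⟨fun z => exists_mem_range_of_chart (surjective_of_isFpqcCover hg) hrs hc z, hKc⟩⟩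

/-- Locality on the source for coverings by jointly surjective families with a property. -/
theorem isLocalOnSource_cover_of_local {P K : MorphismProperty Scheme.{u}} [K.ContainsIdentities]
    (hK : (@Etale : MorphismProperty Scheme.{u}) ≤ K) [P.IsLocalAtSource (Scheme.precoverage K)]
    {τ : CovNotion S}
    (hτ : ∀ ⦃ι : Type u⦄ ⦃X : Sp S⦄ (Xi : ι → Sp S) (g : ∀ i, Xi i ⟶ X), τ Xi g →
        (∀ i, LocP K (g i)) ∧ ∀ x : Points X, ∃ i, x ∈ Set.range (Points.map (g i))) :
    IsLocalOnSource τ (LocP P) :=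
  isLocalOnSource_locP_of_local (K := K) (κ := Scheme.precoverage K)
    (fun _ _ k hk => exists_pair_mem k hk) (fun _ _ k hk hs => singleton_mem_of_etale hK k hk hs)
    (fun _ _ Xi g _ _ hg => (hτ Xi g hg).1)
    fun _ _ Xi g _ _ hg _ _ _ _ _ _ hrs hc hKc => (Scheme.ofArrows_mem_precoverage_iff _).2
      ⟨fun z => exists_mem_range_of_chart (hτ Xi g hg).2 hrs hc z, hKc⟩

end Groth.Agent.AlgSpDescent
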