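import Groth.Agent.Lib.AlgSpDescent.UnivThick
import Mathlib.RingTheory.Flat.EquationalCriterion

/-!
# Base change of first order thickenings of spaces
-/

universe u

set_option backward.isDefEq.respectTransparency.types false

open CategoryTheory CategoryTheory.Limits AlgebraicGeometry Opposite MorphismProperty

namespace Groth.Agent.AlgSpDescent

open AlgSp Groth.Agent.AlgSpace Groth.Agent.AlgSpDecent

/-- An element killed by flat ring maps whose spectra cover is zero. -/
theorem eq_zero_of_flat_cover {A : CommRingCat.{u}} {x : A}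
    (h : ∀ p : ↥(Spec A), ∃ (E : CommRingCat.{u}) (φ : A ⟶ E),
      Flat (Spec.map φ) ∧ p ∈ Set.range (Spec.map φ) ∧ φ.hom x = 0) : x = 0 := by
  by_contra hx
  let N : Ideal A := LinearMap.ker (LinearMap.toSpanSingleton A A x)
  have hN : N ≠ ⊤ := fun e => hx (by
    have h1 : (1 : A) ∈ N := e ▸ Submodule.mem_top
    simpa [N] using h1)
  obtain ⟨m, hm, hNm⟩ := N.exists_le_maximal hN
  obtain ⟨E, φ, hfl, ⟨P, hP⟩, h0⟩ := h ⟨m, hm.isPrime⟩
  algebraize [φ.hom]
  have : Module.Flat A E := by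
    have := (HasRingHomProperty.Spec_iff (P := @Flat)).1 hfl
    exact this
  have h1 : ∑ _i : Unit, x • (1 : E) = 0 := by
    simp [Algebra.smul_def, RingHom.algebraMap_toAlgebra, h0]
  obtain ⟨k, a, y, hy, ha⟩ := Module.Flat.isTrivialRelation_of_sum_smul_eq_zero h1
  refine (Ideal.ne_top_iff_one _).1 P.isPrime.ne_top ?_
  have e : (1 : E) = ∑ i, a () i • y i := hy ()
  rw [e]
  refine Ideal.sum_mem _ fun j _ => ?_
  rw [Algebra.smul_def]
  refine Ideal.mul_mem_right _ _ ?_
  have hj : a () j ∈ N := by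
    have := ha j
    simp only [Finset.univ_unique, Finset.sum_singleton] at this
    simpa [N, mul_comm] using this
  have hjm : a () j ∈ (PrimeSpectrum.comap φ.hom P).asIdeal := by
    rw [show PrimeSpectrum.comap φ.hom P = ⟨m, hm.isPrime⟩ from hP]
    exact hNm hj
  exact hjm

variable {S : Scheme.{u}} {Y Y' : Sp S} {j : Y ⟶ Y'}

/-- The quotient square of a ring map over the base. -/
theorem isPullback_quotArrow {A E : CommRingCat.{u}} (J : Ideal A) (φ : A ⟶ E) (str : Spec A ⟶ S) :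
    IsPullback (quotArrow (J.map φ.hom) (Spec.map φ ≫ str))
      (Over.homMk (quotSpec J φ) (subTop_w J φ str) :
        Over.mk (Spec.map (CommRingCat.ofHom (Ideal.Quotient.mk (J.map φ.hom))) ≫ Spec.map φ ≫ str) ⟶
          Over.mk (Spec.map (CommRingCat.ofHom (Ideal.Quotient.mk J)) ≫ str))
      (Over.homMk (Spec.map φ) rfl : Over.mk (Spec.map φ ≫ str) ⟶ Over.mk str) (quotArrow J str) :=
  IsPullback.of_map (Over.forget S) (Over.OverMorphism.ext (quotSpec_comm J φ).symm)
    (isPullback_quotSpec J φ)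

/-- Quotient presentations of the same pullback have the same ideal. -/
theorem le_of_quot_pullback {A : CommRingCat.{u}} {str : Spec A ⟶ S}
    {γ : (yon S).obj (Over.mk str) ⟶ Y'} {J₁ J₂ : Ideal A}
    {t₁ : (yon S).obj (Over.mk (Spec.map (CommRingCat.ofHom (Ideal.Quotient.mk J₁)) ≫ str)) ⟶ Y}
    {t₂ : (yon S).obj (Over.mk (Spec.map (CommRingCat.ofHom (Ideal.Quotient.mk J₂)) ≫ str)) ⟶ Y}
    (sq₁ : IsPullback t₁ ((yon S).map (quotArrow J₁ str)) j γ)
    (sq₂ : IsPullback t₂ ((yon S).map (quotArrow J₂ str)) j γ) : J₂ ≤ J₁ := by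
  obtain ⟨κ, hκ⟩ := (yon S).map_surjective (sq₂.lift t₁ ((yon S).map (quotArrow J₁ str)) sq₁.w)
  have h : κ ≫ quotArrow J₂ str = quotArrow J₁ str := (yon S).map_injective (by
    rw [Functor.map_comp, hκ, sq₂.lift_snd])
  obtain ⟨ψ, hψ⟩ := Spec.map_surjective κ.left
  have h' : Spec.map ψ ≫ Spec.map (CommRingCat.ofHom (Ideal.Quotient.mk J₂)) =
      Spec.map (CommRingCat.ofHom (Ideal.Quotient.mk J₁)) := by
    rw [hψ]; exact congrArg CommaMorphism.left h
  rw [← Spec.map_comp] at h'
  intro x hx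
  have := congrArg (fun k => k.hom x) (Spec.map_injective h')
  simp only [CommRingCat.hom_comp, RingHom.comp_apply, CommRingCat.hom_ofHom] at this
  rw [Ideal.Quotient.eq_zero_iff_mem.2 hx, map_zero] at this
  exact Ideal.Quotient.eq_zero_iff_mem.1 this.symm

/-- Restricting a quotient presentation of a pullback along a ring map. -/
theorem exists_quot_comp {A E : CommRingCat.{u}} {str : Spec A ⟶ S} {J : Ideal A} (φ : A ⟶ E)
    {γ : (yon S).obj (Over.mk str) ⟶ Y'}
    {t : (yon S).obj (Over.mk (Spec.map (CommRingCat.ofHom (Ideal.Quotient.mk J)) ≫ str)) ⟶ Y}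
    (sq : IsPullback t ((yon S).map (quotArrow J str)) j γ) :
    ∃ t', IsPullback t' ((yon S).map (quotArrow (J.map φ.hom) (Spec.map φ ≫ str))) j
      ((yon S).map (Over.homMk (Spec.map φ) rfl : Over.mk (Spec.map φ ≫ str) ⟶ Over.mk str) ≫ γ) :=
  ⟨_, (((isPullback_quotArrow J φ str).flip).map (yon S)).paste_horiz sq⟩

/-- The ideal of a first order thickening on any affine scheme over it has square zero. -/
theorem exists_quot_sq_zero (hj : IsFOThickMor j) (hY' : IsAlgSpace Y') {A : CommRingCat.{u}}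
    (str : Spec A ⟶ S) (β : (yon S).obj (Over.mk str) ⟶ Y') :
    ∃ (I : Ideal A) (t : (yon S).obj (Over.mk (Spec.map (CommRingCat.ofHom (Ideal.Quotient.mk I)) ≫ str)) ⟶ Y),
      I ^ 2 = ⊥ ∧ IsPullback t ((yon S).map (quotArrow I str)) j β := by
  obtain ⟨I, t, sq⟩ := exists_quot_of_affine (repWith_mono (fun _ _ _ h => h.1) hj.1) str β
  refine ⟨I, t, ?_, sq⟩
  obtain ⟨U, q, hq, hqs⟩ := hY'.atlas
  have sqR := hq.1.isPullback β
  obtain ⟨sR, hsR⟩ := (yon S).map_surjective (hq.1.fst β)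
  rw [← hsR] at sqR
  have he : Etale (hq.1.snd β).left := hq.2 _ _ _ sqR
  have hs : Surjective (hq.1.snd β).left := hqs.2 _ _ _ sqR
  rw [pow_two, eq_bot_iff, Ideal.mul_le]
  refine fun x hx y hy => (Submodule.mem_bot _).2 (eq_zero_of_flat_cover fun p => ?_)
  obtain ⟨r, hr⟩ := hs.surj p
  obtain ⟨A', I', hI', str', g, t', hg, hu, sq'⟩ := exists_thick_chart hj hq (sR.left r)
  obtain ⟨z, hz⟩ := hu
  have sqv := IsPullback.of_hasPullback sR g
  obtain ⟨w, hw, -⟩ :=
    Scheme.exists_preimage_of_isPullback (sqv.map (Over.forget S)) r z hz.symm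
  obtain ⟨O, hO, hwO, -⟩ := exists_isAffineOpen_mem_and_subset
    (X := (Limits.pullback sR g).left) (x := w) (U := ⊤) trivial
  obtain ⟨φ, hφ⟩ : ∃ φ : A ⟶ Γ((Limits.pullback sR g).left, O),
      Spec.map φ = hO.fromSpec ≫ (pullback.fst sR g ≫ hq.1.snd β).left :=
    Spec.map_surjective _
  obtain ⟨φ', hφ'⟩ : ∃ φ' : A' ⟶ Γ((Limits.pullback sR g).left, O),
      Spec.map φ' = hO.fromSpec ≫ (pullback.snd sR g).left :=
    Spec.map_surjective _
  have hgl : Etale (pullback.fst sR g).left :=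
    MorphismProperty.of_isPullback (P := @Etale) (sqv.flip.map (Over.forget S))
      (inferInstanceAs (Etale g.left))
  obtain ⟨v, hv⟩ : w ∈ Set.range hO.fromSpec := by rw [hO.range_fromSpec]; exact hwO
  refine ⟨_, φ, ?_, ⟨v, ?_⟩, ?_⟩
  · rw [hφ, Over.comp_left]; infer_instance
  · rw [hφ, Scheme.Hom.comp_apply, hv, Over.comp_left, Scheme.Hom.comp_apply, ← hr]
    exact congrArg _ hw
  · obtain ⟨t₁, sq₁⟩ := exists_quot_comp φ sq
    obtain ⟨t₂, sq₂⟩ := exists_quot_comp φ' sq'
    let ω : Over.mk (Spec.map φ ≫ str) ⟶ Limits.pullback sR g :=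
      Over.homMk hO.fromSpec (by
        change hO.fromSpec ≫ _ = Spec.map φ ≫ str
        rw [hφ, Category.assoc]
        exact congrArg _ (Over.w (pullback.fst sR g ≫ hq.1.snd β)).symm)
    have hstr : Spec.map φ' ≫ str' = Spec.map φ ≫ str := by
      rw [hφ', Category.assoc]
      exact (congrArg _ (Over.w (pullback.snd sR g))).trans (Over.w ω)
    let m : Over.mk (Spec.map φ ≫ str) ⟶ Over.mk (Spec.map φ' ≫ str') :=
      Over.homMk (𝟙 _) (by simp [hstr])
    have : IsIso m.left := inferInstanceAs (IsIso (𝟙 _))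
    have hβ : (yon S).map (Over.homMk (Spec.map φ) rfl : Over.mk (Spec.map φ ≫ str) ⟶ Over.mk str) ≫ β =
        (yon S).map (m ≫ (Over.homMk (Spec.map φ') rfl : Over.mk (Spec.map φ' ≫ str') ⟶ Over.mk str')) ≫ (yon S).map g ≫ q := by
      have e₁ : (Over.homMk (Spec.map φ) rfl : Over.mk (Spec.map φ ≫ str) ⟶ Over.mk str) =
          ω ≫ pullback.fst sR g ≫ hq.1.snd β := Over.OverMorphism.ext hφ
      have e₂ : m ≫ (Over.homMk (Spec.map φ') rfl : Over.mk (Spec.map φ' ≫ str') ⟶ Over.mk str') =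
          ω ≫ pullback.snd sR g := Over.OverMorphism.ext (by simp [m, ω, hφ'])
      rw [e₁, e₂]
      simp only [Functor.map_comp, Category.assoc]
      rw [← sqR.w]
      congr 1
      rw [← Functor.map_comp_assoc, pullback.condition, Functor.map_comp_assoc]
    let m₀ : Over.mk (Spec.map (CommRingCat.ofHom (Ideal.Quotient.mk (I'.map φ'.hom))) ≫ Spec.map φ ≫ str) ⟶
        Over.mk (Spec.map (CommRingCat.ofHom (Ideal.Quotient.mk (I'.map φ'.hom))) ≫ Spec.map φ' ≫ str') :=
      Over.homMk (𝟙 _) (by simp [hstr])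
    have : IsIso m₀.left := inferInstanceAs (IsIso (𝟙 _))
    have : IsIso m := by
      have : IsIso ((Over.forget S).map m) := inferInstanceAs (IsIso m.left)
      exact isIso_of_reflects_iso m (Over.forget S)
    have : IsIso m₀ := by
      have : IsIso ((Over.forget S).map m₀) := inferInstanceAs (IsIso m₀.left)
      exact isIso_of_reflects_iso m₀ (Over.forget S)
    have sqm : IsPullback m₀ (quotArrow (I'.map φ'.hom) (Spec.map φ ≫ str))
        (quotArrow (I'.map φ'.hom) (Spec.map φ' ≫ str')) m :=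
      IsPullback.of_horiz_isIso ⟨Over.OverMorphism.ext (by simp [m, m₀])⟩
    have sq₃ := (sqm.map (yon S)).paste_horiz sq₂
    rw [← Functor.map_comp_assoc, ← hβ] at sq₃
    have hle := le_of_quot_pullback sq₃ sq₁
    have := Ideal.mul_mem_mul (hle (Ideal.mem_map_of_mem φ.hom hx)) (hle (Ideal.mem_map_of_mem φ.hom hy))
    rwa [← map_mul, ← pow_two, map_sq_zero hI' φ', Ideal.mem_bot] at this

/-- First order thickenings are stable under base change. -/
theorem isFOThickMor_baseChange (hj : IsFOThickMor j) (hY' : IsAlgSpace Y') {P Q : Sp S}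
    {i : P ⟶ Q} {fst : P ⟶ Y} {snd : Q ⟶ Y'} (sq : IsPullback fst i j snd) : IsFOThickMor i := by
  refine ⟨repWith_of_isPullback sq hj.1, fun V W b m k hV _ sqW => ?_⟩
  have : IsAffine V.left := hV
  let str : Spec Γ(V.left, ⊤) ⟶ S := V.left.isoSpec.inv ≫ V.hom
  let eV : Over.mk str ≅ V := Over.isoMk V.left.isoSpec.symm rfl
  obtain ⟨I, t, hI, sqI⟩ := exists_quot_sq_zero hj hY' str ((yon S).map eV.hom ≫ b ≫ snd)
  have sq' : IsPullback (m ≫ fst) ((yon S).map (k ≫ eV.inv)) j
      ((yon S).map eV.hom ≫ b ≫ snd) := by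
    refine IsPullback.of_iso (sqW.paste_horiz sq) (Iso.refl _) (Iso.refl _)
      ((yon S).mapIso eV.symm) (Iso.refl _) ?_ ?_ ?_ ?_
    · simp
    · simp
    · simp
    · simp [← Functor.map_comp_assoc]
  let e := sq'.isoIsPullback _ _ sqI
  obtain ⟨κ, hκ⟩ := (yon S).map_surjective e.hom
  obtain ⟨κ', hκ'⟩ := (yon S).map_surjective e.inv
  have h1 : κ ≫ κ' = 𝟙 _ := (yon S).map_injective (by
    rw [Functor.map_comp, hκ, hκ', e.hom_inv_id, (yon S).map_id])
  have h2 : κ' ≫ κ = 𝟙 _ := (yon S).map_injective (by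
    rw [Functor.map_comp, hκ, hκ', e.inv_hom_id, (yon S).map_id])
  have hk : κ ≫ quotArrow I str ≫ eV.hom = k := by
    have : κ ≫ quotArrow I str = k ≫ eV.inv := (yon S).map_injective (by
      rw [Functor.map_comp, hκ]; exact sq'.isoIsPullback_hom_snd _ _ sqI)
    rw [reassoc_of% this, Iso.inv_hom_id, Category.comp_id]
  have hkl : k.left = κ.left ≫ Spec.map (CommRingCat.ofHom (Ideal.Quotient.mk I)) ≫
      V.left.isoSpec.inv := by rw [← hk]; rfl
  have : IsIso κ.left := ⟨κ'.left, congrArg CommaMorphism.left h1, congrArg CommaMorphism.left h2⟩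
  have : IsClosedImmersion (Spec.map (CommRingCat.ofHom (Ideal.Quotient.mk I))) :=
    IsClosedImmersion.spec_of_surjective _ Ideal.Quotient.mk_surjective
  have : QuasiCompact k.left := by rw [hkl]; infer_instance
  refine sqZero_of_appTop _ fun x y hx hy => ?_
  have key : ∀ z, k.left.appTop z = 0 →
      (Scheme.ΓSpecIso Γ(V.left, ⊤)).hom (V.left.isoSpec.inv.appTop z) ∈ I := fun z hz => by
    rw [hkl, Scheme.Hom.comp_appTop, Scheme.Hom.comp_appTop] at hz
    simp only [CommRingCat.hom_comp, RingHom.comp_apply] at hz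
    have : IsIso κ.left.appTop := inferInstanceAs (IsIso (κ.left.app ⊤))
    have h0 := (map_eq_zero_iff _ (ConcreteCategory.bijective_of_isIso κ.left.appTop).1).1 hz
    rw [← Ideal.Quotient.eq_zero_iff_mem]
    have := congrArg (fun k => k (V.left.isoSpec.inv.appTop z))
      (Scheme.ΓSpecIso_naturality (CommRingCat.ofHom (Ideal.Quotient.mk I)))
    simp only [CommRingCat.hom_comp, RingHom.comp_apply] at this
    rw [h0, map_zero] at this
    simp only [CommRingCat.hom_ofHom] at this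
    exact this.symm
  have : IsIso V.left.isoSpec.inv.appTop := inferInstanceAs (IsIso (V.left.isoSpec.inv.app ⊤))
  have hinj := (ConcreteCategory.bijective_of_isIso
    (V.left.isoSpec.inv.appTop ≫ (Scheme.ΓSpecIso Γ(V.left, ⊤)).hom)).1
  refine hinj ?_
  rw [map_mul, map_zero]
  simp only [ConcreteCategory.comp_apply]
  have := Ideal.mul_mem_mul (key x hx) (key y hy)
  rwa [← pow_two, hI, Ideal.mem_bot] at this

end Groth.Agent.AlgSpDescent
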