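import Groth.Agent.Lib.AlgSpDescent.UnivThick

/-!
# Descent of universal first order thickenings along étale surjections
-/

universe u

set_option backward.isDefEq.respectTransparency.types false

open CategoryTheory CategoryTheory.Limits AlgebraicGeometry Opposite MorphismProperty

namespace Groth.Agent.AlgSpDescent

open AlgSp Groth.Agent.AlgSpace Groth.Agent.AlgSpDecent

variable {S : Scheme.{u}}

/-- Lifts which exist étale locally glue, when they are unique. -/
theorem hasLift_of_local {F G : Sp S} {f : F ⟶ G} (hu : IsFormallyUnramifiedMor f) (sq : InfSq f)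
    (H : ∀ p : sq.ptT'.left, ∃ (E : CommRingCat.{u}) (φ : CommRingCat.of sq.A ⟶ E)
      (l : (yon S).obj (subPt sq φ) ⟶ F), Etale (Spec.map φ) ∧ p ∈ Set.range (Spec.map φ) ∧
        RestrTo sq (subMap sq φ) l ∧ l ≫ f = (yon S).map (subMap sq φ) ≫ sq.bot) : sq.HasLift := by
  choose E φ l hφ hp hr hl using H
  obtain ⟨m, hm⟩ := exists_glue_etale (fun p => subPt sq (φ p)) (fun p => subMap sq (φ p)) hφ
    (fun p => ⟨p, hp p⟩) l fun i j V x y e => by
      refine eq_of_formallyUnramified hu sq (x ≫ subMap sq (φ i)) (restrTo_comp (hr i) x)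
        (by rw [e]; exact restrTo_comp (hr j) y) ?_ ?_
      · rw [Category.assoc, hl, Functor.map_comp_assoc]
      · rw [Category.assoc, hl, e, Functor.map_comp_assoc]
  refine ⟨m, eq_of_etale_nbhds fun z => ?_, eq_of_etale_nbhds fun p => ?_⟩
  · let p := sq.j.left z
    obtain ⟨v, hv⟩ := hp p
    have sqp := IsPullback.of_hasPullback sq.j (subMap sq (φ p))
    obtain ⟨x, hx, -⟩ := Scheme.exists_preimage_of_isPullback (sqp.map (Over.forget S)) z v hv.symm
    refine ⟨Limits.pullback sq.j (subMap sq (φ p)), pullback.fst _ _,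
      MorphismProperty.of_isPullback (P := @Etale) (sqp.flip.map (Over.forget S)) (hφ p),
      ⟨x, hx⟩, ?_⟩
    rw [← Functor.map_comp_assoc, pullback.condition, Functor.map_comp_assoc, hm p]
    exact hr p _ _ _ pullback.condition
  · exact ⟨_, subMap sq (φ p), hφ p, hp p, by rw [← Category.assoc, hm, hl]⟩

variable {Z Y Z' Y' X : Sp S} {e : Z ⟶ Y} {iZ : Z ⟶ Z'} {iY : Y ⟶ Y'} {f' : Z' ⟶ Y'}
  {hY : Y ⟶ X} {hY' : Y' ⟶ X}

/-- Universality descends along étale surjections of first order thickenings. -/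
theorem isUnivFOThick_descend (hZ : IsAlgSpace Z) (hY₀ : IsAlgSpace Y) (hZ' : IsAlgSpace Z')
    (hY₁ : IsAlgSpace Y') (hX : IsAlgSpace X) (he : IsEtaleMor e) (hes : IsSurjectiveMor e)
    (hiY : IsFOThickMor iY) (hf' : IsEtaleMor f') (w : iZ ≫ f' = e ≫ iY) (w' : iY ≫ hY' = hY)
    (HU : IsUnivFOThick (e ≫ hY) iZ (f' ≫ hY')) : IsUnivFOThick hY iY hY' := by
  obtain ⟨U', p, hp, hps⟩ := hZ'.atlas
  have hpf : RepWith @Etale (p ≫ f') := hf' p hp
  have hsurj : Function.Surjective (Points.map f') := by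
    refine Function.Surjective.of_comp (g := Points.map iZ) ?_
    have : Points.map f' ∘ Points.map iZ = Points.map iY ∘ Points.map e := funext fun x => by
      rw [Function.comp_apply, Function.comp_apply, ← Points.map_comp, ← Points.map_comp, w]
    rw [this]
    exact (surjective_of_thick hiY.1).comp hes
  have hpfs : RepWith @Surjective (p ≫ f') := repWith_surjective_of_map hpf.1 fun y => by
    obtain ⟨z, rfl⟩ := hsurj y
    obtain ⟨u, rfl⟩ := surjective_map_of_repWith hps z
    exact ⟨u, Points.map_comp _ _ _⟩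
  have hu : IsFormallyUnramifiedMor hY' := formallyUnramified_descend hpf hpfs (by
    rw [Category.assoc]
    exact formallyUnramified_comp (formallyEtale_iff.1 (formallyEtale_of_etale hp)).2
      (formallyUnramified_of_univ hZ' hX HU))
  obtain ⟨U, q, hq, hqs⟩ := hZ.atlas
  have hqe : RepWith @Etale (q ≫ e) := he q hq
  have hqes : RepWith @Surjective (q ≫ e) := repWith_surjective_of_map hqe.1 fun y => by
    obtain ⟨z, rfl⟩ := hes y
    obtain ⟨u, rfl⟩ := surjective_map_of_repWith hqs z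
    exact ⟨u, Points.map_comp _ _ _⟩
  refine ⟨hiY, w', ?_⟩
  intro T T' hT hT' j a b hj hab
  refine existsUnique_thick_of_local hu hj hT' (by rw [Category.assoc, w', hab])
    fun A I hI str t k ek => ?_
  let sq : InfSq hY' := ⟨A, I, hI, str, (t ≫ a) ≫ iY, k ≫ b, by
    rw [Category.assoc, w', Category.assoc, ← hab, ← reassoc_of% ek]⟩
  suffices sq.HasLift by
    obtain ⟨n, h₁, h₂⟩ := this
    exact ⟨n, h₁.trans (Category.assoc _ _ _), h₂⟩
  refine hasLift_of_local hu sq fun x => ?_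
  have sqP := hqe.1.isPullback (t ≫ a)
  have hse : Etale (hqe.1.snd (t ≫ a)).left := hqe.2 _ _ _ sqP
  have hss : Surjective (hqe.1.snd (t ≫ a)).left := hqes.2 _ _ _ sqP
  have := FEtale4.surjective_spec_quotient (A := sq.A) sq.I sq.sq_zero
  obtain ⟨z, hz⟩ := (Spec.map (CommRingCat.ofHom (Ideal.Quotient.mk sq.I))).surjective x
  obtain ⟨v₀, hv₀⟩ := hss.surj z
  obtain ⟨E, φ, κ, hφ, ⟨v, hv⟩, hκ⟩ :=
    exists_etale_nbhd (A := CommRingCat.of sq.A) sq.I (hqe.1.snd (t ≫ a)).left v₀
  let κO : subPt₀ sq φ ⟶ hqe.1.pullback (t ≫ a) := Over.homMk κ (by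
    rw [← Over.w (hqe.1.snd (t ≫ a)), reassoc_of% hκ]
    exact Over.w (subTop sq φ))
  have hκO : κO ≫ hqe.1.snd (t ≫ a) = subTop sq φ := Over.OverMorphism.ext hκ
  let tE := (yon S).map κO ≫ hqe.1.fst (t ≫ a) ≫ q
  have hte : tE ≫ e = (yon S).map (subTop sq φ) ≫ t ≫ a := by
    simp only [tE, Category.assoc, sqP.w, ← Functor.map_comp_assoc, hκO]
  obtain ⟨n, ⟨hn1, hn2⟩, -⟩ := HU.2.2 (IsAlgSpace.yon_obj _) (IsAlgSpace.yon_obj _)
    ((yon S).map (subj sq φ)) tE ((yon S).map (subMap sq φ) ≫ sq.bot)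
    (isFOThickMor_quotArrow (A := E) (map_sq_zero (A := CommRingCat.of sq.A) hI φ) _) (by
      rw [← Category.assoc tE, hte, Category.assoc, Category.assoc, ← w', ← Functor.map_comp_assoc,
        ← subTop_j, Functor.map_comp_assoc]
      exact congrArg _ (by rw [sq.comm.symm]; simp [sq]))
  refine ⟨E, φ, n ≫ f', hφ, ⟨Spec.map (CommRingCat.ofHom (Ideal.Quotient.mk _)) v, ?_⟩,
    fun V p' r er => ?_, (Category.assoc _ _ _).trans hn2⟩
  · rw [← Scheme.Hom.comp_apply, ← quotSpec_comm, Scheme.Hom.comp_apply, ← hκ, Scheme.Hom.comp_apply,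
      hv, hv₀, hz]
  · let s := (isPullback_sub sq φ).lift r p' er.symm
    have hs1 : s ≫ subj sq φ = r := (isPullback_sub sq φ).lift_fst _ _ _
    have hs2 : s ≫ subTop sq φ = p' := (isPullback_sub sq φ).lift_snd _ _ _
    rw [← hs1, ← hs2, Functor.map_comp_assoc, Functor.map_comp_assoc]
    congr 1
    rw [← Category.assoc, hn1, Category.assoc, w, ← Category.assoc, hte]
    simp [sq]

end Groth.Agent.AlgSpDescent
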