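import Groth.Agent.Lib.AlgSpDescent.SpaceThick
import Groth.Agent.Lib.AlgSpDescent.ThickFin
import Mathlib.RingTheory.Kaehler.Basic
import Mathlib.Algebra.TrivSqZeroExt.Basic
import Mathlib.RingTheory.Unramified.Basic

/-!
# Universal first order thickenings

The structure morphism of a universal first order thickening is formally unramified, and
universality can be tested on affine schemes.
-/

universe u

set_option backward.isDefEq.respectTransparency.types false

open CategoryTheory CategoryTheory.Limits AlgebraicGeometry Opposite MorphismProperty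

namespace Groth.Agent.AlgSpDescent

open AlgSp Groth.Agent.AlgSpace Groth.Agent.AlgSpDecent

/-! ### Algebra -/

section Ring

variable {B A : Type u} [CommRing B] [CommRing A] [Algebra B A] (J : Ideal A)

/-- The Kähler differentials vanish if all derivations into modules over the quotient by a
nilpotent ideal vanish, in the form of ring maps to square-zero extensions of the quotient. -/
theorem formallyUnramified_of_trivSqZero (hJ : IsNilpotent J)
    (H : ∀ (M : Type u) [AddCommGroup M] [Module (A ⧸ J) M] [Module (A ⧸ J)ᵐᵒᵖ M]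
      [IsCentralScalar (A ⧸ J) M] (ψ ψ' : A →+* TrivSqZeroExt (A ⧸ J) M),
      (∀ a, (ψ a).fst = Ideal.Quotient.mk J a) → (∀ a, (ψ' a).fst = Ideal.Quotient.mk J a) →
      ψ.comp (algebraMap B A) = ψ'.comp (algebraMap B A) → ψ = ψ') :
    Algebra.FormallyUnramified B A := by
  refine ⟨?_⟩
  let M := Ω[A⁄B] ⧸ J • (⊤ : Submodule A Ω[A⁄B])
  letI : Module (A ⧸ J)ᵐᵒᵖ M :=
    Module.compHom M ((RingHom.id (A ⧸ J)).fromOpposite fun x y => mul_comm _ _)
  have : IsCentralScalar (A ⧸ J) M := ⟨fun _ _ => rfl⟩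
  let d : A → M := fun a => Submodule.Quotient.mk (KaehlerDifferential.D B A a)
  let ψ : A →+* TrivSqZeroExt (A ⧸ J) M :=
    (TrivSqZeroExt.inlHom (A ⧸ J) M).comp (Ideal.Quotient.mk J)
  let ψ' : A →+* TrivSqZeroExt (A ⧸ J) M :=
    { toFun := fun a => (Ideal.Quotient.mk J a, d a)
      map_one' := by
        refine TrivSqZeroExt.ext (map_one _) ?_
        change d 1 = 0
        simp [d]
      map_zero' := by
        refine TrivSqZeroExt.ext (map_zero _) ?_
        change d 0 = 0
        simp [d]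
      map_add' := fun x y => by
        refine TrivSqZeroExt.ext (map_add _ _ _) ?_
        change d (x + y) = d x + d y
        simp [d]
      map_mul' := fun x y => by
        refine TrivSqZeroExt.ext (map_mul _ _ _) ?_
        change d (x * y) = Ideal.Quotient.mk J x • d y +
          MulOpposite.op (Ideal.Quotient.mk J y) • d x
        change d (x * y) = x • d y + y • d x
        simp [d, Derivation.leibniz] }
  have key := H M ψ ψ' (fun _ => rfl) (fun _ => rfl) (RingHom.ext fun b =>
    TrivSqZeroExt.ext rfl (by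
      change (0 : M) = d (algebraMap B A b)
      simp [d]))
  have hd : ∀ a, KaehlerDifferential.D B A a ∈ J • (⊤ : Submodule A Ω[A⁄B]) := fun a =>
    (Submodule.Quotient.mk_eq_zero _).1 (congrArg TrivSqZeroExt.snd (DFunLike.congr_fun key a)).symm
  have htop : (⊤ : Submodule A Ω[A⁄B]) ≤ J • ⊤ := by
    rw [← KaehlerDifferential.span_range_derivation B A, Submodule.span_le]
    rintro _ ⟨a, rfl⟩
    rw [KaehlerDifferential.span_range_derivation]
    exact hd a
  obtain ⟨n, hn⟩ := hJ
  have hpow : ∀ k, (⊤ : Submodule A Ω[A⁄B]) ≤ J ^ k • ⊤ := fun k => by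
    induction k with
    | zero => simp
    | succ k ih =>
      refine ih.trans ?_
      rw [pow_succ, Submodule.mul_smul]
      exact Submodule.smul_mono le_rfl htop
  have := hpow n
  rw [hn, Submodule.zero_eq_bot, Submodule.bot_smul, le_bot_iff] at this
  exact (Submodule.subsingleton_iff A).1 (subsingleton_of_bot_eq_top this.symm)

end Ring

/-! ### First order thickenings of affine schemes -/

/-- A closed subscheme of an affine scheme has square-zero kernel if the kernel on global sections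
squares to zero. -/
theorem sqZero_of_appTop {W V : Scheme.{u}} (f : W ⟶ V) [IsAffine V] [QuasiCompact f]
    (h : ∀ x y : Γ(V, ⊤), f.appTop x = 0 → f.appTop y = 0 → x * y = 0) : sqZero f := by
  refine Scheme.IdealSheafData.ext_of_isAffine ?_
  rw [Scheme.IdealSheafData.ideal_mul, Scheme.IdealSheafData.ideal_bot, Pi.mul_apply,
    Scheme.Hom.ker_apply]
  refine le_antisymm (Ideal.mul_le.2 fun x hx y hy => ?_) bot_le
  exact (Submodule.mem_bot _).2 (h x y hx hy)

variable {S : Scheme.{u}}

/-- Square-zero quotients give first order thickenings of affine schemes over the base. -/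
theorem isFOThickMor_quotArrow {A : CommRingCat.{u}} {I : Ideal A} (hI : I ^ 2 = ⊥)
    (str : Spec A ⟶ S) : IsFOThickMor ((yon S).map (quotArrow I str)) := by
  have hci : IsClosedImmersion (quotArrow I str).left :=
    IsClosedImmersion.spec_of_surjective _ Ideal.Quotient.mk_surjective
  have hsurj : Surjective (quotArrow I str).left :=
    ⟨(PrimeSpectrum.comap_quotientMk_bijective_of_le_nilradical fun i hi => ⟨2, by
      have := Ideal.pow_mem_pow hi 2
      rwa [hI, Ideal.mem_bot] at this⟩).2⟩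
  refine ⟨(isThickMor_yon_map_iff _).2 ⟨hci, hsurj⟩, fun V W b fst snd hV _ sq => ?_⟩
  obtain ⟨v, rfl⟩ := (yon S).map_surjective b
  obtain ⟨t, rfl⟩ := (yon S).map_surjective fst
  have sqO := (IsPullback.of_map (yon S) ((yon S).map_injective (by simpa using sq.w)) sq).map
    (Over.forget S)
  obtain ⟨φ, hφ⟩ := Spec.map_surjective (V.left.isoSpec.inv ≫ v.left)
  have sqE := isPullback_quotSpec I φ
  have sqV : IsPullback (Spec.map (CommRingCat.ofHom (Ideal.Quotient.mk (I.map φ.hom))) ≫
      V.left.isoSpec.inv) (quotSpec I φ) v.left (quotArrow I str).left := by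
    refine IsPullback.of_iso sqE (Iso.refl _) V.left.isoSpec.symm (Iso.refl _) (Iso.refl _) ?_ ?_ ?_ ?_
    · simp
    · simp
    · simp [hφ]
    · simp
  let e : W.left ≅ Spec (CommRingCat.of (Γ(V.left, ⊤) ⧸ I.map φ.hom)) :=
    sqO.flip.isoIsPullback _ _ sqV
  have he : e.hom ≫ Spec.map (CommRingCat.ofHom (Ideal.Quotient.mk (I.map φ.hom))) ≫
      V.left.isoSpec.inv = snd.left := sqO.flip.isoIsPullback_hom_fst _ _ sqV
  have : IsAffine V.left := hV
  have : IsClosedImmersion snd.left := MorphismProperty.of_isPullback (P := @IsClosedImmersion) sqO hci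
  refine sqZero_of_appTop _ fun x y hx hy => ?_
  have key : ∀ z, snd.left.appTop z = 0 →
      (Scheme.ΓSpecIso Γ(V.left, ⊤)).hom (V.left.isoSpec.inv.appTop z) ∈ I.map φ.hom := fun z hz => by
    rw [← he, Scheme.Hom.comp_appTop, Scheme.Hom.comp_appTop] at hz
    simp only [CommRingCat.hom_comp, RingHom.comp_apply] at hz
    have : IsIso e.hom.appTop := inferInstanceAs (IsIso (e.hom.app ⊤))
    have h0 := (map_eq_zero_iff _ (ConcreteCategory.bijective_of_isIso e.hom.appTop).1).1 hz
    rw [← Ideal.Quotient.eq_zero_iff_mem]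
    have := congrArg (fun k => k (V.left.isoSpec.inv.appTop z))
      (Scheme.ΓSpecIso_naturality (CommRingCat.ofHom (Ideal.Quotient.mk (I.map φ.hom))))
    simp only [CommRingCat.hom_comp, RingHom.comp_apply] at this
    rw [h0, map_zero] at this
    simp only [CommRingCat.hom_ofHom] at this; exact this.symm
  have : IsIso V.left.isoSpec.inv.appTop := inferInstanceAs (IsIso (V.left.isoSpec.inv.app ⊤))
  have hinj := (ConcreteCategory.bijective_of_isIso
    (V.left.isoSpec.inv.appTop ≫ (Scheme.ΓSpecIso Γ(V.left, ⊤)).hom)).1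
  refine hinj ?_
  rw [map_mul, map_zero]
  simp only [ConcreteCategory.comp_apply]
  have := Ideal.mul_mem_mul (key x hx) (key y hy)
  rwa [← pow_two, map_sq_zero hI φ, Ideal.mem_bot] at this

/-! ### Universality -/

variable {Z Z' X : Sp S} {i : Z ⟶ Z'} {h : Z ⟶ X} {h' : Z' ⟶ X}

/-- If maps of first order thickenings of affine schemes into a first order thickening over `X` are
unique, the thickened space is formally unramified over `X`. -/
theorem formallyUnramified_of_uniq_test (hi : IsFOThickMor i) (hZ' : IsAlgSpace Z')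
    (hX : IsAlgSpace X)
    (H : ∀ (T T' : Over S) (j : T ⟶ T'), IsAffine T'.left → IsFOThickMor ((yon S).map j) →
      ∀ (a : (yon S).obj T ⟶ Z) (l l' : (yon S).obj T' ⟶ Z'), (yon S).map j ≫ l = a ≫ i →
        (yon S).map j ≫ l' = a ≫ i → l ≫ h' = l' ≫ h' → l = l') :
    IsFormallyUnramifiedMor h' := by
  obtain ⟨U, V, p, q, hh, hp, hps, hq, -, w⟩ := exists_chart_square hZ' hX h'
  refine formallyUnramified_of_chart hp hq w hps ?_
  rw [HasRingHomProperty.iff_appLE (P := @FormallyUnramified)]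
  rintro ⟨V₀, hV⟩ ⟨U₀, hU⟩ hUV
  algebraize [(hh.left.appLE V₀ U₀ hUV).hom]
  let A : CommRingCat.{u} := Γ(U.left, U₀)
  let str : Spec A ⟶ S := hU.fromSpec ≫ U.hom
  let P₁ : Over.mk str ⟶ U := Over.homMk hU.fromSpec rfl
  let β : (yon S).obj (Over.mk str) ⟶ Z' := (yon S).map P₁ ≫ p
  have hβ : RepWith @Etale β := repWith_comp
    ((repWith_yon_map_iff @Etale P₁).2 (inferInstanceAs (Etale hU.fromSpec))) hp
  obtain ⟨J, t, sq⟩ := exists_quot_of_affine (repWith_mono (fun _ _ _ h => h.1) hi.1) str β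
  have hker : sqZero (quotArrow J str).left :=
    hi.2 β t (quotArrow J str) (inferInstanceAs (IsAffine (Spec A))) hβ sq
  have hJ : J ^ 2 = ⊥ := sq_eq_bot_of_ker (A := A) J hker
  refine formallyUnramified_of_trivSqZero J ⟨2, hJ⟩ fun M _ _ _ _ ψ ψ' hψ hψ' hB => ?_
  let C : CommRingCat.{u} := CommRingCat.of (TrivSqZeroExt (Γ(U.left, U₀) ⧸ J) M)
  let Ψ : A ⟶ C := CommRingCat.ofHom ψ
  let Ψ' : A ⟶ C := CommRingCat.ofHom ψ'
  let IC : Ideal C := RingHom.ker (TrivSqZeroExt.fstHom ℕ (Γ(U.left, U₀) ⧸ J) M).toRingHom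
  have hIC : IC ^ 2 = ⊥ := by
    rw [pow_two, eq_bot_iff, Ideal.mul_le]
    intro x hx y hy
    have hx' : TrivSqZeroExt.fst x = 0 := hx
    have hy' : TrivSqZeroExt.fst y = 0 := hy
    rw [Ideal.mem_bot]
    refine TrivSqZeroExt.ext ((TrivSqZeroExt.fst_mul x y).trans ?_)
      ((TrivSqZeroExt.snd_mul x y).trans ?_)
    · rw [hx', zero_mul]; rfl
    · rw [hx', hy', zero_smul, MulOpposite.op_zero, zero_smul, add_zero]; rfl
  have hstr : Spec.map Ψ' ≫ str = Spec.map Ψ ≫ str := by
    have e : str = Spec.map (hh.left.appLE V₀ U₀ hUV) ≫ hV.fromSpec ≫ V.hom := by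
      rw [IsAffineOpen.SpecMap_appLE_fromSpec_assoc hh.left hV hU hUV, Over.w hh]
    rw [e, ← Spec.map_comp_assoc, ← Spec.map_comp_assoc]
    congr 2
    exact CommRingCat.hom_ext hB.symm
  let L : Over.mk (Spec.map Ψ ≫ str) ⟶ Over.mk str := Over.homMk (Spec.map Ψ) rfl
  let L' : Over.mk (Spec.map Ψ ≫ str) ⟶ Over.mk str := Over.homMk (Spec.map Ψ') hstr
  let κr : Γ(U.left, U₀) ⧸ J →+* C ⧸ IC := Ideal.Quotient.lift J ((Ideal.Quotient.mk IC).comp ψ)
    fun x hx => Ideal.Quotient.eq_zero_iff_mem.2 (by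
      change TrivSqZeroExt.fst (ψ x) = 0
      rw [hψ, Ideal.Quotient.eq_zero_iff_mem.2 hx])
  let κ : Over.mk (Spec.map (CommRingCat.ofHom (Ideal.Quotient.mk IC)) ≫ Spec.map Ψ ≫ str) ⟶
      Over.mk (Spec.map (CommRingCat.ofHom (Ideal.Quotient.mk J)) ≫ str) :=
    Over.homMk (Spec.map (CommRingCat.ofHom κr)) (by
      change Spec.map (CommRingCat.ofHom κr) ≫ Spec.map _ ≫ str = Spec.map _ ≫ Spec.map Ψ ≫ str
      rw [← Spec.map_comp_assoc, ← Spec.map_comp_assoc]
      rfl)
  have k₁ : quotArrow IC (Spec.map Ψ ≫ str) ≫ L = κ ≫ quotArrow J str :=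
    Over.OverMorphism.ext (by
      change Spec.map _ ≫ Spec.map Ψ = Spec.map _ ≫ Spec.map _
      rw [← Spec.map_comp, ← Spec.map_comp]
      rfl)
  have k₂ : quotArrow IC (Spec.map Ψ ≫ str) ≫ L' = κ ≫ quotArrow J str :=
    Over.OverMorphism.ext (by
      change Spec.map _ ≫ Spec.map Ψ' = Spec.map _ ≫ Spec.map _
      rw [← Spec.map_comp, ← Spec.map_comp]
      congr 1
      refine CommRingCat.hom_ext (RingHom.ext fun x => ?_)
      refine Ideal.Quotient.eq.2 ?_
      change TrivSqZeroExt.fst (ψ' x - ψ x) = 0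
      rw [TrivSqZeroExt.fst_sub, hψ, hψ', sub_self])
  have comm : ∀ {K : Over.mk (Spec.map Ψ ≫ str) ⟶ Over.mk str},
      quotArrow IC (Spec.map Ψ ≫ str) ≫ K = κ ≫ quotArrow J str →
      (yon S).map (quotArrow IC (Spec.map Ψ ≫ str)) ≫ (yon S).map K ≫ β =
        ((yon S).map κ ≫ t) ≫ i := fun {K} hK => by
    rw [← Functor.map_comp_assoc, hK, Functor.map_comp_assoc, Category.assoc, sq.w]
  have hX' : ((yon S).map L ≫ β) ≫ h' = ((yon S).map L' ≫ β) ≫ h' := by
    simp only [β, Category.assoc, w, ← Functor.map_comp_assoc]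
    congr 2
    refine Over.OverMorphism.ext ?_
    change Spec.map Ψ ≫ hU.fromSpec ≫ hh.left = Spec.map Ψ' ≫ hU.fromSpec ≫ hh.left
    rw [← IsAffineOpen.SpecMap_appLE_fromSpec hh.left hV hU hUV, ← Spec.map_comp_assoc,
      ← Spec.map_comp_assoc]
    congr 2
    exact CommRingCat.hom_ext hB
  have key := H _ _ (quotArrow IC (Spec.map Ψ ≫ str)) (inferInstanceAs (IsAffine (Spec C)))
    (isFOThickMor_quotArrow hIC _) ((yon S).map κ ≫ t) _ _ (comm k₁) (comm k₂) hX'
  let sqβ : InfSq β := ⟨C, IC, hIC, Spec.map Ψ ≫ str, (yon S).map (κ ≫ quotArrow J str),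
    (yon S).map L ≫ β, by rw [← k₁, Functor.map_comp, Category.assoc]⟩
  have hLL : L = L' := (yon S).map_injective ((formallyEtale_iff.1 (formallyEtale_of_etale hβ)).2 sqβ
    ((yon S).map L) ((yon S).map L')
    (((yon S).map_comp _ _).symm.trans (congrArg _ k₁)) rfl
    (((yon S).map_comp _ _).symm.trans (congrArg _ k₂)) key.symm)
  have := Spec.map_injective (congrArg CommaMorphism.left hLL)
  exact congrArg CommRingCat.Hom.hom this

/-- Universality of a first order thickening can be tested on thickenings of affine schemes. -/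
theorem isUnivFOThick_iff_affine (hZ' : IsAlgSpace Z') (hX : IsAlgSpace X) (hi : IsFOThickMor i)
    (w : i ≫ h' = h) :
    IsUnivFOThick h i h' ↔
      ∀ (T T' : Over S) (j : T ⟶ T'), IsAffine T'.left → IsFOThickMor ((yon S).map j) →
        ∀ (a : (yon S).obj T ⟶ Z) (b : (yon S).obj T' ⟶ X), (yon S).map j ≫ b = a ≫ h →
          ∃! a' : (yon S).obj T' ⟶ Z', (yon S).map j ≫ a' = a ≫ i ∧ a' ≫ h' = b := by
  refine ⟨fun HU T T' j _ hj a b e =>
    HU.2.2 (IsAlgSpace.yon_obj T) (IsAlgSpace.yon_obj T') _ a b hj e, fun H => ⟨hi, w, ?_⟩⟩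
  intro T T' hT hT' j a b hj e
  have hu := formallyUnramified_of_uniq_test hi hZ' hX fun T T' j hA hj a l l' hl hl' hh =>
    (H T T' j hA hj a (l ≫ h') (by rw [reassoc_of% hl, w])).unique ⟨hl, rfl⟩ ⟨hl', hh.symm⟩
  refine existsUnique_thick_of_local hu hj hT' (by rw [Category.assoc, w, e])
    fun A I hI str t k ek => ?_
  obtain ⟨n, ⟨hn1, hn2⟩, -⟩ := H _ _ (quotArrow I str) (inferInstanceAs (IsAffine (Spec A)))
    (isFOThickMor_quotArrow hI str) (t ≫ a) (k ≫ b)
    (by rw [reassoc_of% ek, e, Category.assoc])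
  exact ⟨n, hn1.trans (Category.assoc _ _ _), hn2⟩

/-- The structure map of a universal first order thickening is formally unramified. -/
theorem formallyUnramified_of_univ (hZ' : IsAlgSpace Z') (hX : IsAlgSpace X)
    (HU : IsUnivFOThick h i h') : IsFormallyUnramifiedMor h' :=
  formallyUnramified_of_uniq_test HU.1 hZ' hX fun T T' j _ hj a l l' hl hl' hh =>
    (HU.2.2 (IsAlgSpace.yon_obj T) (IsAlgSpace.yon_obj T') _ a (l ≫ h') hj
      (by rw [reassoc_of% hl, HU.2.1])).unique ⟨hl, rfl⟩ ⟨hl', hh.symm⟩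

end Groth.Agent.AlgSpDescent
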